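import Mathlib.Data.List.Basic

/-!
# Matrices of size 248 modulo three of the generators and their inverses, by sparse rows (generated)

A row is a list of pairs: the gap to the previous nonzero place, and the entry.
-/

set_option autoImplicit false
set_option maxRecDepth 100000

namespace CfsgLib.ThRep

/-- Rows of a matrix. -/
def matA0 : List (List (ℕ × ℕ)) :=
  [[(0,1)],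
   [(1,1)],
   [(2,1)],
   [(3,1)],
   [(4,1)],
   [(5,1)],
   [(6,1)],
   [(7,1)],
   [(8,1)],
   [(9,1)],
   [(10,1)],
   [(11,1)],
   [(12,1)],
   [(13,1)],
   [(14,1)],
   [(15,1)],
   [(16,1)],
   [(17,1)],
   [(18,1)],
   [(19,1)],
   [(20,1)],
   [(21,1)],
   [(22,1)],
   [(23,1)],
   [(24,1)],
   [(25,1)],
   [(26,1)],
   [(27,1)],
   [(28,1)],
   [(29,1)],
   [(30,1)]]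

/-- Rows of a matrix. -/
def matA1 : List (List (ℕ × ℕ)) :=
  [[(31,1)],
   [(32,1)],
   [(33,1)],
   [(34,1)],
   [(35,1)],
   [(36,1)],
   [(37,1)],
   [(38,1)],
   [(39,1)],
   [(40,1)],
   [(41,1)],
   [(42,1)],
   [(43,1)],
   [(44,1)],
   [(45,1)],
   [(46,1)],
   [(47,1)],
   [(48,1)],
   [(49,1)],
   [(50,1)],
   [(51,1)],
   [(52,1)],
   [(53,1)],
   [(54,1)],
   [(55,1)],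
   [(56,1)],
   [(57,1)],
   [(58,1)],
   [(59,1)],
   [(60,1)],
   [(61,1)]]

/-- Rows of a matrix. -/
def matA2 : List (List (ℕ × ℕ)) :=
  [[(62,1)],
   [(63,1)],
   [(64,1)],
   [(65,1)],
   [(66,1)],
   [(67,1)],
   [(68,1)],
   [(69,1)],
   [(70,1)],
   [(71,1)],
   [(72,1)],
   [(73,1)],
   [(74,1)],
   [(75,1)],
   [(76,1)],
   [(77,1)],
   [(78,1)],
   [(79,1)],
   [(80,1)],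
   [(81,1)],
   [(82,1)],
   [(83,1)],
   [(84,1)],
   [(85,1)],
   [(86,1)],
   [(87,1)],
   [(88,1)],
   [(89,1)],
   [(90,1)],
   [(91,1)],
   [(92,1)]]

/-- Rows of a matrix. -/
def matA3 : List (List (ℕ × ℕ)) :=
  [[(93,1)],
   [(94,1)],
   [(95,1)],
   [(96,1)],
   [(97,1)],
   [(98,1)],
   [(99,1)],
   [(100,1)],
   [(101,1)],
   [(102,1)],
   [(103,1)],
   [(104,1)],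
   [(105,1)],
   [(106,1)],
   [(107,1)],
   [(108,1)],
   [(109,1)],
   [(110,1)],
   [(111,1)],
   [(112,1)],
   [(113,1)],
   [(114,1)],
   [(115,1)],
   [(116,1)],
   [(117,1)],
   [(118,1)],
   [(119,1)],
   [(120,2)],
   [(121,2)],
   [(122,2)],
   [(123,2)]]

/-- Rows of a matrix. -/
def matA4 : List (List (ℕ × ℕ)) :=
  [[(124,2)],
   [(125,2)],
   [(126,2)],
   [(127,2)],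
   [(128,2)],
   [(129,2)],
   [(130,2)],
   [(131,2)],
   [(132,2)],
   [(133,2)],
   [(134,2)],
   [(135,2)],
   [(136,2)],
   [(137,2)],
   [(138,2)],
   [(139,2)],
   [(140,2)],
   [(141,2)],
   [(142,2)],
   [(143,2)],
   [(144,2)],
   [(145,2)],
   [(146,2)],
   [(147,2)],
   [(148,2)],
   [(149,2)],
   [(150,2)],
   [(151,2)],
   [(152,2)],
   [(153,2)],
   [(154,2)]]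

/-- Rows of a matrix. -/
def matA5 : List (List (ℕ × ℕ)) :=
  [[(155,2)],
   [(156,2)],
   [(157,2)],
   [(158,2)],
   [(159,2)],
   [(160,2)],
   [(161,2)],
   [(162,2)],
   [(163,2)],
   [(164,2)],
   [(165,2)],
   [(166,2)],
   [(167,2)],
   [(168,2)],
   [(169,2)],
   [(170,2)],
   [(171,2)],
   [(172,2)],
   [(173,2)],
   [(174,2)],
   [(175,2)],
   [(176,2)],
   [(177,2)],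
   [(178,2)],
   [(179,2)],
   [(180,2)],
   [(181,2)],
   [(182,2)],
   [(183,2)],
   [(184,2)],
   [(185,2)]]

/-- Rows of a matrix. -/
def matA6 : List (List (ℕ × ℕ)) :=
  [[(186,2)],
   [(187,2)],
   [(188,2)],
   [(189,2)],
   [(190,2)],
   [(191,2)],
   [(192,2)],
   [(193,2)],
   [(194,2)],
   [(195,2)],
   [(196,2)],
   [(197,2)],
   [(198,2)],
   [(199,2)],
   [(200,2)],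
   [(201,2)],
   [(202,2)],
   [(203,2)],
   [(204,2)],
   [(205,2)],
   [(206,2)],
   [(207,2)],
   [(208,2)],
   [(209,2)],
   [(210,2)],
   [(211,2)],
   [(212,2)],
   [(213,2)],
   [(214,2)],
   [(215,2)],
   [(216,2)]]

/-- Rows of a matrix. -/
def matA7 : List (List (ℕ × ℕ)) :=
  [[(217,2)],
   [(218,2)],
   [(219,2)],
   [(220,2)],
   [(221,2)],
   [(222,2)],
   [(223,2)],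
   [(224,2)],
   [(225,2)],
   [(226,2)],
   [(227,2)],
   [(228,2)],
   [(229,2)],
   [(230,2)],
   [(231,2)],
   [(232,2)],
   [(233,2)],
   [(234,2)],
   [(235,2)],
   [(236,2)],
   [(237,2)],
   [(238,2)],
   [(239,2)],
   [(240,2)],
   [(241,2)],
   [(242,2)],
   [(243,2)],
   [(244,2)],
   [(245,2)],
   [(246,2)],
   [(247,2)]]

/-- Rows of a matrix. -/
def matA : List (List (ℕ × ℕ)) :=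
  matA0 ++ matA1 ++ matA2 ++ matA3 ++ matA4 ++ matA5 ++ matA6 ++ matA7

/-- Rows of a matrix. -/
def matB0 : List (List (ℕ × ℕ)) :=
  [[(1,1),(0,2),(2,1),(0,1),(0,2),(6,1),(0,1),(0,1),(0,2),(26,2),(0,1),(0,1),(0,2),(0,2),(6,2),
    (0,1),(6,1),(14,1),(0,1),(0,2),(0,1),(0,1),(1,1),(0,1),(1,1),(0,1),(0,1),(0,1),(1,1),(14,1),
    (0,1),(1,1),(5,1),(0,2),(1,1),(0,1),(0,2),(0,2),(0,2),(0,1),(0,1),(0,2),(0,1),(16,2),(0,1),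
    (0,1),(0,1),(0,2),(0,2),(0,1),(0,2),(8,2),(0,1),(0,1),(0,1),(0,2),(0,2),(0,1),(0,2),(8,2),
    (0,1),(0,1),(0,1),(0,2),(0,2),(0,1),(0,2),(8,2),(0,1),(0,1),(0,1),(0,2),(0,2),(0,1),(0,2),
    (8,2),(0,1),(0,1),(0,1),(0,2),(0,2),(0,1),(0,2),(8,2),(0,1),(0,1),(0,1),(0,2),(0,2),(0,1),
    (0,2),(8,2),(0,1),(0,1),(0,1),(0,2),(0,2),(0,1),(0,2)],
   [(0,1),(1,1),(2,1),(0,1),(0,2),(6,2),(0,1),(0,1),(0,2),(26,1),(0,2),(0,2),(0,1),(0,1),(6,2),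
    (0,1),(6,1),(14,1),(0,2),(0,1),(0,1),(0,2),(1,1),(0,2),(1,1),(0,2),(0,2),(0,1),(1,1),(14,1),
    (0,2),(1,1),(5,1),(0,1),(1,2),(8,2),(0,1),(0,1),(0,1),(0,2),(0,2),(0,1),(0,2),(8,2),(0,1),
    (0,1),(0,1),(0,2),(0,2),(0,1),(0,2),(0,2),(0,1),(0,1),(0,1),(0,2),(0,2),(0,1),(0,2),(0,1),
    (0,2),(0,2),(0,2),(0,1),(0,1),(0,2),(0,1),(8,2),(0,1),(0,1),(0,1),(0,2),(0,2),(0,1),(0,2),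
    (0,2),(0,1),(0,1),(0,1),(0,2),(0,2),(0,1),(0,2),(0,1),(0,2),(0,2),(0,2),(0,1),(0,1),(0,2),
    (0,1),(8,2),(0,1),(0,1),(0,1),(0,2),(0,2),(0,1),(0,2),(0,2),(0,1),(0,1),(0,1),(0,2),(0,2),
    (0,1),(0,2),(0,1),(0,2),(0,2),(0,2),(0,1),(0,1),(0,2),(0,1),(8,2),(0,1),(0,1),(0,1),(0,2),
    (0,2),(0,1),(0,2)],
   [(0,2),(0,1),(3,1),(0,2),(0,1),(6,2),(0,1),(0,2),(0,1),(26,1),(0,2),(0,1),(0,2),(0,2),(6,2),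
    (0,1),(6,2),(14,2),(0,2),(0,1),(0,2),(0,2),(1,2),(0,2),(1,2),(0,1),(0,1),(0,1),(1,1),(14,1),
    (0,2),(1,1),(5,1),(0,1),(1,1),(0,2),(0,1),(0,1),(0,1),(0,2),(0,2),(0,1),(0,2),(0,2),(0,1),
    (0,1),(0,1),(0,2),(0,2),(0,1),(0,2),(24,1),(0,2),(0,2),(0,2),(0,1),(0,1),(0,2),(0,1),(8,1),
    (0,2),(0,2),(0,2),(0,1),(0,1),(0,2),(0,1),(8,1),(0,2),(0,2),(0,2),(0,1),(0,1),(0,2),(0,1),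
    (8,1),(0,2),(0,2),(0,2),(0,1),(0,1),(0,2),(0,1),(8,1),(0,2),(0,2),(0,2),(0,1),(0,1),(0,2),
    (0,1),(8,1),(0,2),(0,2),(0,2),(0,1),(0,1),(0,2),(0,1)],
   [(3,1),(5,1),(1,2),(14,2),(1,2),(0,2),(0,1),(2,2),(2,2),(2,2),(10,2),(0,2),(2,2),(2,2),(3,2),
    (2,1),(2,2),(0,2),(1,1),(1,2),(0,2),(0,1),(1,1),(23,1),(4,2),(6,2),(0,1),(0,2),(6,2),(0,2),
    (0,1),(0,2),(1,1),(0,1),(0,1),(0,2),(0,1),(4,2),(0,1),(0,2),(0,2),(0,1),(0,2),(0,2),(0,1),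
    (0,1),(3,1),(0,1),(0,1),(0,1),(1,2),(1,1),(1,1),(0,1),(0,2),(0,2),(3,2),(0,2),(0,2),(0,2),
    (1,1),(0,2),(0,2),(0,1),(0,2),(0,2),(0,1),(0,1),(3,1),(0,1),(0,2),(0,2),(2,1),(0,1),(0,2),
    (0,1),(0,1),(1,2),(3,1),(0,1),(0,2),(0,2),(1,2),(0,1),(0,1),(0,2),(0,1),(0,1),(0,2),(0,2),
    (0,1),(0,2),(0,1),(4,2),(0,2),(0,1),(0,1),(0,2),(0,1),(0,1),(0,2),(0,2),(0,1),(2,1),(0,1),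
    (0,1),(0,2),(1,2),(1,1),(0,2),(1,1),(0,2),(0,2),(0,2),(0,2),(0,2),(0,2),(3,1)],
   [(4,1),(3,1),(1,2),(7,2),(6,2),(11,2),(0,2),(1,2),(2,1),(8,2),(0,2),(6,1),(4,1),(0,2),(2,1),
    (5,1),(1,1),(5,1),(7,1),(6,1),(0,2),(1,2),(2,2),(1,2),(2,2),(1,1),(3,2),(2,1),(2,2),(0,1),
    (0,2),(0,1),(0,2),(0,1),(1,2),(1,2),(2,2),(0,2),(1,2),(0,2),(0,1),(0,2),(0,1),(0,2),(0,1),
    (0,1),(0,1),(1,1),(2,2),(0,2),(1,2),(0,2),(0,1),(1,1),(0,2),(1,1),(1,1),(1,2),(0,2),(2,1),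
    (0,1),(0,1),(0,2),(0,1),(0,2),(0,1),(0,2),(0,2),(0,2),(1,2),(2,2),(0,2),(1,2),(0,2),(0,1),
    (0,2),(0,1),(0,2),(0,1),(0,1),(0,1),(1,1),(0,1),(1,2),(0,1),(1,1),(0,1),(1,1),(0,2),(0,1),
    (0,2),(1,2),(0,1),(1,2),(0,2),(2,2),(0,1),(0,1),(0,2),(1,2),(1,2),(0,2),(0,2),(1,2),(2,1),
    (0,1),(1,2),(0,2),(0,1),(0,2),(0,1),(0,2),(0,1),(0,1),(1,1),(1,2),(0,2),(2,1)],
   [(0,1),(0,1),(0,1),(3,1),(0,2),(6,2),(0,2),(0,2),(0,2),(26,1),(0,2),(0,1),(0,2),(0,1),(6,2),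
    (0,1),(6,1),(14,2),(0,1),(0,2),(0,1),(0,1),(1,2),(0,2),(1,2),(0,1),(0,1),(0,2),(1,1),(14,1),
    (0,1),(1,2),(5,2),(0,1),(1,2),(8,2),(0,1),(0,1),(0,1),(0,2),(0,2),(0,1),(0,2),(8,2),(0,1),
    (0,1),(0,1),(0,2),(0,2),(0,1),(0,2),(0,1),(0,2),(0,2),(0,2),(0,1),(0,1),(0,2),(0,1),(0,1),
    (0,2),(0,2),(0,2),(0,1),(0,1),(0,2),(0,1),(8,2),(0,1),(0,1),(0,1),(0,2),(0,2),(0,1),(0,2),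
    (0,2),(0,1),(0,1),(0,1),(0,2),(0,2),(0,1),(0,2),(0,1),(0,2),(0,2),(0,2),(0,1),(0,1),(0,2),
    (0,1),(8,2),(0,1),(0,1),(0,1),(0,2),(0,2),(0,1),(0,2),(0,1),(0,2),(0,2),(0,2),(0,1),(0,1),
    (0,2),(0,1),(0,1),(0,2),(0,2),(0,2),(0,1),(0,1),(0,2),(0,1),(8,2),(0,1),(0,1),(0,1),(0,2),
    (0,2),(0,1),(0,2)],
   [(0,1),(0,1),(0,2),(2,1),(1,2),(6,1),(0,2),(0,2),(0,2),(26,2),(0,1),(0,2),(0,1),(0,2),(6,2),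
    (0,1),(6,1),(14,2),(0,2),(0,1),(0,1),(0,2),(1,2),(0,1),(1,2),(0,2),(0,2),(0,2),(1,1),(14,1),
    (0,2),(1,2),(5,2),(0,2),(1,1),(0,1),(0,2),(0,2),(0,2),(0,1),(0,1),(0,2),(0,1),(0,1),(0,2),
    (0,2),(0,2),(0,1),(0,1),(0,2),(0,1),(8,2),(0,1),(0,1),(0,1),(0,2),(0,2),(0,1),(0,2),(8,2),
    (0,1),(0,1),(0,1),(0,2),(0,2),(0,1),(0,2),(8,2),(0,1),(0,1),(0,1),(0,2),(0,2),(0,1),(0,2),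
    (24,2),(0,1),(0,1),(0,1),(0,2),(0,2),(0,1),(0,2),(8,2),(0,1),(0,1),(0,1),(0,2),(0,2),(0,1),
    (0,2),(8,2),(0,1),(0,1),(0,1),(0,2),(0,2),(0,1),(0,2)],
   [(0,2),(0,2),(0,1),(2,2),(0,2),(7,1),(0,1),(0,2),(0,2),(26,1),(0,2),(0,1),(0,1),(0,2),(6,2),
    (0,1),(6,1),(14,2),(0,2),(0,1),(0,2),(0,1),(1,1),(0,2),(1,1),(0,1),(0,2),(0,1),(1,2),(14,2),
    (0,1),(1,2),(5,2),(0,2),(1,1),(0,2),(0,1),(0,1),(0,1),(0,2),(0,2),(0,1),(0,2),(0,2),(0,1),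
    (0,1),(0,1),(0,2),(0,2),(0,1),(0,2),(8,1),(0,2),(0,2),(0,2),(0,1),(0,1),(0,2),(0,1),(24,1),
    (0,2),(0,2),(0,2),(0,1),(0,1),(0,2),(0,1),(8,1),(0,2),(0,2),(0,2),(0,1),(0,1),(0,2),(0,1),
    (8,1),(0,2),(0,2),(0,2),(0,1),(0,1),(0,2),(0,1),(8,1),(0,2),(0,2),(0,2),(0,1),(0,1),(0,2),
    (0,1),(8,1),(0,2),(0,2),(0,2),(0,1),(0,1),(0,2),(0,1)],
   [(4,1),(3,1),(0,1),(0,1),(1,2),(0,1),(11,2),(1,2),(3,1),(2,2),(3,1),(0,1),(1,1),(8,2),(6,1),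
    (0,2),(6,2),(0,1),(4,1),(0,2),(1,2),(1,2),(0,1),(5,2),(15,1),(4,1),(0,2),(12,2),(1,1),(0,1),
    (0,1),(0,2),(1,2),(0,2),(1,1),(0,2),(0,2),(0,2),(0,2),(0,1),(1,2),(0,1),(0,2),(0,1),(0,2),
    (1,2),(0,1),(1,2),(0,1),(0,1),(0,1),(0,1),(1,1),(0,1),(4,1),(2,2),(0,2),(1,1),(0,1),(0,1),
    (0,2),(0,1),(0,1),(4,1),(2,2),(0,1),(0,2),(0,2),(0,2),(0,2),(1,2),(0,2),(2,1),(1,2),(2,2),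
    (0,2),(1,1),(0,1),(0,1),(0,2),(0,1),(0,1),(4,1),(2,2),(0,1),(0,2),(1,2),(2,2),(0,2),(0,2),
    (0,2),(0,2),(0,1),(1,2),(0,2),(1,1),(0,2),(1,2),(0,2),(1,2),(5,2),(2,1),(0,1),(0,2),(0,2),
    (0,2),(0,2),(0,1),(1,2)],
   [(3,1),(4,1),(0,1),(3,2),(6,2),(3,1),(1,2),(0,1),(1,1),(7,2),(2,1),(12,2),(5,2),(2,2),(2,1),
    (4,2),(1,1),(0,1),(0,1),(2,2),(15,1),(2,1),(3,2),(0,1),(9,2),(0,1),(0,2),(0,1),(5,2),(2,1),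
    (1,1),(1,1),(0,2),(0,1),(0,2),(0,1),(0,2),(3,2),(0,2),(0,1),(0,1),(0,2),(0,1),(0,2),(0,1),
    (0,1),(1,2),(0,2),(0,2),(1,2),(1,1),(1,2),(1,1),(0,2),(0,1),(0,2),(0,1),(1,1),(0,2),(0,2),
    (4,2),(0,1),(0,1),(0,2),(0,1),(1,1),(1,1),(3,1),(0,1),(0,1),(0,1),(0,1),(0,2),(0,2),(0,1),
    (0,2),(0,1),(0,2),(1,1),(3,1),(0,1),(0,1),(0,1),(0,1),(0,2),(0,2),(0,1),(0,2),(0,1),(0,2),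
    (1,2),(3,2),(0,2),(0,2),(0,1),(0,1),(0,2),(0,2),(0,1),(0,2),(0,1),(0,2),(0,2),(1,2),(0,2),
    (0,2),(3,1),(0,1),(0,2),(0,2),(0,1),(0,2),(0,1),(0,2),(0,1),(1,1),(0,1),(0,1)],
   [(4,2),(3,1),(1,1),(2,1),(8,2),(3,1),(1,2),(0,2),(0,1),(3,1),(3,2),(2,1),(1,1),(6,1),(0,1),
    (12,1),(2,1),(2,2),(0,2),(1,1),(0,1),(8,1),(2,2),(7,1),(5,1),(2,2),(0,2),(1,2),(13,2),(1,1),
    (0,1),(0,2),(1,1),(0,2),(0,1),(0,1),(0,1),(0,2),(0,1),(1,1),(1,2),(0,1),(1,1),(0,2),(0,1),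
    (0,1),(0,1),(1,1),(3,2),(1,2),(0,2),(1,1),(0,1),(0,2),(0,1),(0,1),(0,1),(2,2),(2,1),(1,1),
    (0,1),(0,2),(1,2),(0,1),(0,2),(0,2),(0,2),(5,1),(0,2),(0,1),(0,1),(1,2),(0,2),(0,1),(0,2),
    (0,2),(0,2),(5,1),(1,2),(0,2),(0,1),(0,1),(0,1),(0,2),(0,1),(1,1),(5,1),(1,2),(0,2),(0,1),
    (0,1),(0,1),(0,2),(0,1),(1,1),(5,2),(1,1),(0,1),(1,2),(0,2),(0,1),(0,2),(0,2),(0,2),(5,2),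
    (1,1)],
   [(3,2),(7,1),(1,1),(9,1),(3,2),(3,1),(0,2),(1,2),(6,2),(0,1),(0,1),(6,2),(1,1),(0,2),(3,2),
    (3,2),(4,1),(4,2),(2,1),(1,1),(14,1),(1,1),(1,1),(3,2),(2,2),(3,1),(4,2),(2,2),(5,1),(0,1),
    (3,2),(1,1),(0,1),(0,2),(0,2),(0,2),(3,2),(5,2),(0,1),(0,2),(0,1),(1,2),(0,2),(0,1),(0,2),
    (0,2),(0,2),(5,1),(1,2),(0,2),(0,1),(2,2),(1,1),(0,1),(0,1),(0,2),(0,1),(0,1),(0,2),(1,2),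
    (2,2),(0,2),(0,2),(0,1),(0,2),(0,2),(0,2),(5,1),(1,2),(0,1),(0,2),(0,2),(0,2),(1,2),(0,2),
    (0,2),(5,2),(1,1),(1,2),(0,2),(0,2),(0,1),(0,2),(0,2),(0,2),(5,1),(1,2),(0,2),(0,1),(0,1),
    (0,1),(1,1),(0,1),(0,1),(5,2),(1,1),(1,1),(0,1),(0,1),(0,2),(0,1),(0,1),(0,1)],
   [(8,2),(3,1),(0,1),(7,2),(2,1),(3,2),(3,1),(2,1),(1,2),(4,1),(8,2),(6,2),(1,1),(0,1),(0,1),
    (9,2),(0,1),(2,2),(0,1),(5,2),(9,1),(0,1),(2,2),(0,1),(2,1),(4,1),(6,1),(0,1),(5,1),(1,2),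
    (0,1),(0,2),(6,2),(0,1),(0,2),(0,1),(1,2),(1,2),(0,1),(0,1),(4,2),(1,1),(0,2),(2,1),(1,1),
    (3,1),(0,2),(0,2),(0,1),(0,1),(0,2),(0,2),(0,1),(0,2),(0,1),(0,2),(0,2),(1,2),(0,2),(0,2),
    (0,1),(0,1),(1,1),(0,1),(0,2),(0,2),(0,1),(0,2),(0,1),(0,2),(0,2),(1,2),(0,1),(0,1),(3,1),
    (0,1),(0,2),(0,2),(0,1),(0,2),(0,1),(0,2),(0,2),(1,1),(0,2),(0,1),(3,2),(0,2),(0,1),(0,1),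
    (0,2),(0,1),(0,2),(0,1),(0,1),(1,1),(0,2),(0,2),(3,2),(0,2),(0,1),(0,1),(0,2),(0,1),(0,2),
    (0,1),(0,1),(1,2),(0,1),(0,2),(3,1),(0,1),(0,2),(0,2),(0,1),(0,2),(0,1),(0,2)],
   [(8,1),(0,2),(0,1),(0,1),(0,1),(0,1),(11,1),(0,2),(0,1),(3,2),(1,2),(1,2),(5,1),(1,2),(15,2),
    (2,2),(2,1),(0,2),(0,2),(1,1),(0,1),(1,1),(13,1),(6,2),(0,2),(5,2),(2,1),(5,1),(10,1),(0,1),
    (1,2),(0,2),(0,1),(0,2),(0,1),(1,1),(2,1),(3,1),(0,1),(0,2),(0,2),(0,2),(0,1),(1,1),(1,1),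
    (2,1),(3,2),(0,2),(0,1),(0,1),(0,1),(0,2),(0,1),(2,1),(2,1),(3,1),(0,1),(1,2),(2,2),(0,1),
    (0,2),(1,1),(0,1),(1,1),(0,2),(0,1),(0,1),(0,1),(1,2),(0,2),(0,1),(0,2),(0,1),(1,1),(2,1),
    (3,1),(0,1),(0,2),(0,2),(0,2),(0,1),(1,1),(1,1),(2,1),(3,1),(0,1),(1,2),(0,2),(0,1),(0,2),
    (0,1),(0,1),(0,2),(0,1),(0,2),(1,1),(0,2),(0,2),(0,1),(1,2),(0,2),(0,2),(1,2),(1,1),(1,1),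
    (0,2),(1,2),(0,1),(0,1)],
   [(0,1),(0,2),(0,2),(2,2),(0,1),(0,1),(7,1),(0,2),(0,2),(26,1),(0,2),(0,2),(0,1),(0,2),(6,1),
    (0,2),(6,1),(14,1),(0,2),(0,2),(0,2),(0,2),(1,2),(0,1),(1,1),(0,1),(0,1),(0,2),(1,1),(14,1),
    (0,1),(1,2),(5,1),(0,2),(1,1),(8,2),(0,1),(0,1),(0,1),(0,2),(0,2),(0,1),(0,2),(0,1),(0,2),
    (0,2),(0,2),(0,1),(0,1),(0,2),(0,1),(0,1),(0,2),(0,2),(0,2),(0,1),(0,1),(0,2),(0,1),(8,2),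
    (0,1),(0,1),(0,1),(0,2),(0,2),(0,1),(0,2),(8,2),(0,1),(0,1),(0,1),(0,2),(0,2),(0,1),(0,2),
    (0,1),(0,2),(0,2),(0,2),(0,1),(0,1),(0,2),(0,1),(0,1),(0,2),(0,2),(0,2),(0,1),(0,1),(0,2),
    (0,1),(0,2),(0,1),(0,1),(0,1),(0,2),(0,2),(0,1),(0,2),(0,1),(0,2),(0,2),(0,2),(0,1),(0,1),
    (0,2),(0,1),(8,2),(0,1),(0,1),(0,1),(0,2),(0,2),(0,1),(0,2),(8,2),(0,1),(0,1),(0,1),(0,2),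
    (0,2),(0,1),(0,2)],
   [(0,1),(0,1),(0,1),(2,2),(0,2),(0,1),(6,1),(1,1),(0,2),(26,2),(0,2),(0,1),(0,1),(0,1),(6,2),
    (0,2),(6,2),(14,2),(0,2),(0,2),(0,1),(0,2),(1,1),(0,1),(1,1),(0,1),(0,1),(0,1),(1,1),(14,2),
    (0,2),(1,2),(5,1),(0,1),(1,1),(8,2),(0,1),(0,1),(0,1),(0,2),(0,2),(0,1),(0,2),(8,2),(0,1),
    (0,1),(0,1),(0,2),(0,2),(0,1),(0,2),(8,2),(0,1),(0,1),(0,1),(0,2),(0,2),(0,1),(0,2),(0,2),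
    (0,1),(0,1),(0,1),(0,2),(0,2),(0,1),(0,2),(0,1),(0,2),(0,2),(0,2),(0,1),(0,1),(0,2),(0,1),
    (8,2),(0,1),(0,1),(0,1),(0,2),(0,2),(0,1),(0,2),(0,2),(0,1),(0,1),(0,1),(0,2),(0,2),(0,1),
    (0,2),(0,1),(0,2),(0,2),(0,2),(0,1),(0,1),(0,2),(0,1),(0,2),(0,1),(0,1),(0,1),(0,2),(0,2),
    (0,1),(0,2),(0,1),(0,2),(0,2),(0,2),(0,1),(0,1),(0,2),(0,1),(8,2),(0,1),(0,1),(0,1),(0,2),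
    (0,2),(0,1),(0,2)],
   [(0,1),(0,1),(0,2),(2,2),(0,2),(0,2),(6,2),(0,1),(1,2),(26,2),(0,2),(0,1),(0,1),(0,1),(6,2),
    (0,2),(6,2),(14,1),(0,1),(0,2),(0,2),(0,1),(1,1),(0,2),(1,2),(0,2),(0,2),(0,2),(1,2),(14,1),
    (0,2),(1,1),(5,1),(0,2),(1,1),(8,2),(0,1),(0,1),(0,1),(0,2),(0,2),(0,1),(0,2),(0,2),(0,1),
    (0,1),(0,1),(0,2),(0,2),(0,1),(0,2),(0,1),(0,2),(0,2),(0,2),(0,1),(0,1),(0,2),(0,1),(0,2),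
    (0,1),(0,1),(0,1),(0,2),(0,2),(0,1),(0,2),(0,1),(0,2),(0,2),(0,2),(0,1),(0,1),(0,2),(0,1),
    (0,2),(0,1),(0,1),(0,1),(0,2),(0,2),(0,1),(0,2),(0,1),(0,2),(0,2),(0,2),(0,1),(0,1),(0,2),
    (0,1),(8,2),(0,1),(0,1),(0,1),(0,2),(0,2),(0,1),(0,2),(8,2),(0,1),(0,1),(0,1),(0,2),(0,2),
    (0,1),(0,2),(8,2),(0,1),(0,1),(0,1),(0,2),(0,2),(0,1),(0,2),(8,2),(0,1),(0,1),(0,1),(0,2),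
    (0,2),(0,1),(0,2)],
   [(0,2),(0,2),(0,1),(2,2),(0,2),(0,2),(6,2),(0,2),(0,2),(27,2),(0,1),(0,1),(0,2),(0,2),(6,1),
    (0,2),(6,2),(14,1),(0,2),(0,2),(0,1),(0,2),(1,2),(0,2),(1,1),(0,2),(0,2),(0,1),(1,1),(14,1),
    (0,1),(1,1),(5,2),(0,1),(1,1),(8,1),(0,2),(0,2),(0,2),(0,1),(0,1),(0,2),(0,1),(0,1),(0,2),
    (0,2),(0,2),(0,1),(0,1),(0,2),(0,1),(0,2),(0,1),(0,1),(0,1),(0,2),(0,2),(0,1),(0,2),(8,1),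
    (0,2),(0,2),(0,2),(0,1),(0,1),(0,2),(0,1),(8,1),(0,2),(0,2),(0,2),(0,1),(0,1),(0,2),(0,1),
    (0,1),(0,2),(0,2),(0,2),(0,1),(0,1),(0,2),(0,1),(0,2),(0,1),(0,1),(0,1),(0,2),(0,2),(0,1),
    (0,2),(0,1),(0,2),(0,2),(0,2),(0,1),(0,1),(0,2),(0,1),(0,2),(0,1),(0,1),(0,1),(0,2),(0,2),
    (0,1),(0,2),(8,1),(0,2),(0,2),(0,2),(0,1),(0,1),(0,2),(0,1),(8,1),(0,2),(0,2),(0,2),(0,1),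
    (0,1),(0,2),(0,1)],
   [(4,2),(13,1),(0,2),(0,2),(0,2),(7,1),(0,1),(3,2),(1,2),(3,2),(1,1),(7,1),(0,2),(5,1),(0,1),
    (5,2),(3,2),(6,1),(1,1),(13,1),(3,2),(1,1),(6,2),(0,2),(5,1),(0,1),(0,2),(0,2),(5,2),(0,2),
    (0,2),(0,2),(0,1),(0,2),(0,1),(0,2),(1,1),(0,1),(0,2),(0,1),(3,1),(0,1),(0,1),(0,1),(0,2),
    (0,1),(0,2),(0,1),(1,1),(0,2),(0,2),(0,2),(3,2),(0,2),(0,2),(0,2),(0,1),(0,2),(0,1),(0,2),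
    (0,1),(4,1),(0,1),(0,2),(2,2),(0,2),(0,1),(0,2),(0,1),(0,2),(1,2),(0,2),(0,1),(0,1),(0,1),
    (3,1),(0,1),(1,2),(0,1),(0,2),(0,1),(0,2),(0,1),(3,1),(0,1),(0,2),(0,2),(0,2),(0,2),(0,2),
    (0,1),(0,2),(0,1),(0,2),(0,2),(4,2),(0,2),(0,1),(0,1),(0,1),(0,2),(0,1),(1,1),(0,2),(0,1),
    (1,2),(0,2),(0,1),(0,2),(3,2),(0,2),(0,2),(0,2),(0,1),(0,2),(0,1),(0,2),(1,2),(0,2),(0,1),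
    (0,2)],
   [(18,2),(0,1),(3,1),(4,1),(1,1),(0,1),(0,1),(0,1),(1,1),(2,2),(0,1),(9,1),(0,1),(7,1),(1,1),
    (5,2),(0,2),(1,2),(6,1),(6,2),(2,1),(4,1),(6,2),(0,1),(4,2),(0,2),(3,1),(8,2),(1,1),(0,1),
    (0,2),(0,2),(0,1),(0,2),(1,1),(1,2),(3,2),(5,1),(0,2),(0,1),(0,1),(0,2),(1,1),(3,1),(2,1),
    (0,1),(0,2),(0,2),(1,2),(0,2),(0,1),(1,1),(3,2),(1,2),(0,2),(0,2),(0,1),(1,2),(0,1),(0,1),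
    (0,2),(1,2),(3,2),(2,1),(1,2),(0,2),(1,2),(0,2),(2,1),(3,1),(2,2),(0,2),(0,1),(0,1),(0,2),
    (0,1),(1,2),(1,1),(1,1),(1,1),(0,2),(1,1),(0,1),(0,2),(0,2),(0,1),(0,2),(1,1),(1,1),(3,1),
    (2,1),(0,1),(0,2),(0,2),(1,2),(0,2),(0,1),(0,1),(1,2),(0,1),(0,1),(1,1),(0,2)],
   [(9,2),(8,2),(1,1),(1,2),(2,2),(0,2),(1,1),(1,1),(4,2),(0,2),(0,2),(0,1),(0,2),(9,2),(1,2),
    (6,2),(5,2),(4,2),(0,2),(2,1),(3,2),(8,2),(10,1),(5,1),(0,2),(0,2),(6,1),(2,1),(4,2),(0,2),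
    (0,2),(0,1),(0,1),(1,2),(0,1),(0,1),(2,1),(4,1),(0,1),(0,1),(0,2),(1,2),(0,1),(0,2),(0,2),
    (1,1),(0,1),(5,1),(0,1),(0,2),(0,2),(0,2),(2,2),(2,2),(4,2),(1,2),(0,1),(0,1),(0,1),(0,2),
    (0,1),(0,1),(2,1),(4,1),(0,1),(0,1),(0,2),(0,2),(1,1),(0,2),(1,2),(0,1),(1,2),(0,2),(0,2),
    (0,1),(0,1),(0,1),(0,1),(0,2),(0,2),(1,1),(0,2),(0,2),(2,2),(4,1),(1,1),(0,2),(0,2),(0,2),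
    (0,1),(0,2),(0,2),(2,2),(7,1),(0,1),(0,1),(0,2),(0,1),(0,2),(2,2),(0,2),(0,1)],
   [(12,2),(5,2),(2,1),(1,2),(2,1),(0,2),(0,2),(0,1),(1,2),(2,2),(0,2),(2,2),(4,2),(5,2),(0,1),
    (0,2),(6,1),(0,2),(0,1),(10,2),(0,2),(1,1),(1,2),(6,2),(17,1),(0,2),(3,1),(4,1),(9,1),(0,1),
    (1,2),(0,2),(0,1),(0,2),(0,1),(0,1),(1,2),(0,1),(0,2),(0,1),(1,2),(1,2),(0,1),(0,1),(3,1),
    (0,1),(0,2),(1,1),(0,2),(0,1),(2,2),(3,1),(0,1),(0,2),(0,2),(0,2),(0,1),(0,1),(1,1),(1,1),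
    (1,1),(3,2),(0,2),(0,1),(1,1),(0,2),(0,2),(0,1),(0,2),(1,2),(0,1),(1,1),(0,2),(0,2),(3,2),
    (0,2),(0,1),(0,1),(0,2),(0,1),(0,2),(0,1),(0,1),(1,2),(0,1),(0,2),(3,1),(0,1),(0,2),(0,2),
    (0,1),(0,2),(0,1),(0,2),(0,2),(1,2),(0,1),(0,1),(3,1),(0,1),(0,2),(0,2),(0,1),(0,2),(0,1),
    (0,2),(0,2),(1,1),(0,2),(0,1),(3,2),(0,2),(0,1),(0,1),(0,2),(0,1),(0,2),(0,1)],
   [(10,2),(9,2),(1,1),(1,2),(2,2),(1,2),(5,2),(0,2),(0,2),(2,2),(0,1),(8,1),(2,1),(0,2),(3,2),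
    (2,2),(3,1),(1,1),(0,1),(0,2),(3,1),(22,2),(2,2),(1,1),(4,2),(2,1),(1,2),(6,2),(4,2),(0,2),
    (0,2),(1,1),(0,2),(0,1),(2,1),(0,1),(0,1),(0,1),(3,1),(0,2),(0,1),(1,1),(0,1),(0,2),(0,2),
    (0,1),(0,2),(0,2),(0,2),(0,2),(0,2),(0,2),(0,1),(2,2),(0,1),(1,2),(0,1),(0,1),(0,2),(0,1),
    (0,1),(0,1),(0,1),(0,2),(0,2),(0,2),(3,1),(1,1),(0,2),(0,2),(0,1),(0,2),(0,2),(0,2),(0,2),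
    (0,1),(0,1),(0,1),(3,2),(1,1),(0,2),(0,2),(0,1),(0,1),(0,2),(0,2),(2,1),(1,2),(0,2),(0,2),
    (1,2),(0,1),(0,2),(0,2),(0,1),(0,2),(0,2),(0,2),(0,2),(3,2),(0,2),(0,2),(1,1),(0,1),(0,2),
    (0,2),(0,1),(0,2),(0,2),(0,2),(0,2),(3,2),(0,2),(0,2),(1,1),(0,2),(0,1),(1,2),(0,1),(1,1),
    (0,1)],
   [(11,1),(7,1),(1,2),(1,1),(4,2),(0,1),(5,2),(1,2),(2,1),(1,2),(0,2),(9,1),(0,2),(4,2),(4,2),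
    (2,1),(0,2),(4,2),(12,2),(4,2),(4,2),(3,1),(8,2),(1,1),(0,2),(0,2),(0,1),(0,2),(4,1),(0,2),
    (1,1),(0,2),(0,1),(1,2),(2,1),(0,1),(0,1),(2,1),(0,2),(2,2),(0,1),(0,2),(0,1),(0,1),(0,2),
    (0,1),(3,1),(0,2),(1,1),(0,2),(0,1),(0,1),(0,2),(0,1),(0,2),(0,2),(2,1),(0,1),(0,1),(2,1),
    (0,2),(0,1),(0,2),(0,2),(0,1),(0,2),(0,1),(0,1),(0,2),(0,2),(3,1),(0,1),(1,1),(0,2),(0,1),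
    (0,1),(0,2),(0,1),(0,2),(0,2),(2,2),(0,1),(0,2),(0,2),(1,2),(0,2),(0,1),(0,2),(1,1),(1,1),
    (0,1),(0,1),(0,1),(3,2),(0,2),(1,2),(0,1),(0,2),(0,2),(0,1),(0,2),(0,1),(0,1),(0,2),(0,1),
    (3,1),(0,2),(2,1),(0,2),(1,1),(0,2),(0,1),(0,1),(0,2),(0,1),(0,1),(2,1),(0,1)],
   [(9,1),(2,1),(9,2),(1,1),(2,2),(0,1),(0,2),(4,2),(0,2),(0,2),(1,2),(0,1),(0,2),(1,2),(6,2),
    (0,1),(1,1),(1,1),(2,2),(2,2),(5,2),(0,1),(1,2),(0,1),(2,2),(0,2),(8,1),(20,1),(16,2),(0,2),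
    (1,1),(0,2),(1,1),(0,2),(0,2),(0,2),(1,2),(1,2),(0,2),(0,2),(0,1),(0,1),(0,2),(1,1),(0,1),
    (0,2),(3,1),(1,1),(2,1),(0,2),(0,2),(0,1),(0,1),(0,2),(1,1),(3,1),(1,1),(2,1),(0,2),(0,2),
    (0,1),(0,1),(0,2),(0,2),(4,1),(1,1),(3,1),(0,1),(0,2),(0,2),(2,2),(3,2),(1,2),(2,1),(0,2),
    (0,2),(0,1),(0,1),(0,2),(1,1),(0,2),(0,2),(0,2),(1,1),(1,1),(0,2),(0,2),(0,1),(0,1),(0,2),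
    (0,2),(0,1),(0,1),(1,2),(0,2),(0,2),(1,2),(1,1),(0,1),(0,1),(0,2),(0,2),(0,1),(1,2),(0,2),
    (0,1),(0,1),(2,2),(1,1)],
   [(4,2),(3,2),(4,1),(6,2),(4,1),(1,2),(0,1),(2,1),(5,2),(4,2),(6,2),(0,2),(1,2),(0,2),(6,1),
    (0,2),(6,1),(1,2),(0,1),(0,2),(3,2),(0,2),(18,1),(4,2),(3,2),(0,2),(2,2),(1,1),(8,1),(1,2),
    (0,2),(1,1),(0,2),(0,1),(4,2),(2,1),(1,1),(0,1),(1,2),(0,2),(0,1),(0,2),(0,1),(0,1),(0,2),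
    (0,1),(0,2),(0,1),(0,2),(0,2),(0,1),(0,2),(0,2),(0,2),(0,1),(0,1),(10,1),(0,2),(1,2),(0,1),
    (1,2),(0,1),(1,2),(1,1),(5,2),(0,2),(0,2),(0,1),(0,1),(1,1),(8,1),(0,2),(0,2),(0,2),(1,1),
    (1,1),(10,2),(0,2),(0,1),(0,1),(0,2),(0,1),(8,1),(1,2),(0,2),(1,1),(0,2),(0,1)],
   [(3,2),(5,2),(0,1),(2,2),(6,2),(0,1),(4,1),(0,1),(4,1),(3,2),(0,2),(12,2),(0,2),(1,2),(3,2),
    (0,2),(0,2),(0,2),(4,1),(1,2),(0,2),(2,1),(2,2),(0,1),(0,1),(14,2),(13,2),(5,2),(8,1),(0,2),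
    (0,1),(0,1),(0,2),(0,1),(0,1),(0,1),(0,2),(0,1),(1,1),(1,1),(1,2),(0,1),(0,2),(0,1),(0,1),
    (0,2),(0,1),(0,1),(0,1),(0,2),(0,2),(3,1),(1,2),(0,2),(0,1),(0,2),(0,2),(0,1),(0,2),(0,2),
    (0,2),(0,2),(0,1),(3,1),(1,1),(1,2),(0,1),(0,1),(0,2),(0,1),(1,1),(2,2),(0,1),(0,1),(1,1),
    (1,2),(0,1),(0,2),(0,2),(0,1),(0,2),(0,2),(0,2),(2,2),(0,1),(0,1),(1,1),(1,2),(1,2),(1,1),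
    (0,2),(0,2),(0,2),(2,2),(0,1),(0,1),(1,1),(1,2),(0,1),(0,2),(0,2),(0,1),(0,2),(0,2),(0,2),
    (0,1),(0,2),(3,1),(0,2),(0,2),(0,2),(0,1),(0,2),(1,1),(3,1),(0,1),(3,2),(1,1)],
   [(8,2),(0,1),(1,2),(1,1),(7,2),(0,2),(1,2),(0,2),(0,1),(0,1),(2,2),(3,2),(0,2),(3,1),(0,2),
    (8,2),(10,1),(0,2),(4,1),(1,1),(0,2),(5,2),(10,1),(8,1),(1,1),(2,1),(1,2),(12,2),(7,1),
    (2,2),(1,2),(0,1),(0,1),(0,2),(1,2),(0,2),(0,2),(3,2),(2,1),(1,2),(0,1),(0,1),(0,2),(0,2),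
    (1,2),(0,2),(0,1),(0,1),(0,1),(1,2),(0,1),(1,1),(0,2),(0,1),(0,1),(0,2),(0,2),(1,2),(0,2),
    (0,1),(0,2),(0,2),(1,2),(0,2),(1,2),(1,1),(0,1),(0,2),(0,2),(0,2),(0,2),(0,2),(3,1),(2,2),
    (1,2),(0,1),(0,1),(0,2),(1,2),(0,2),(0,2),(3,2),(2,1),(1,2),(0,1),(0,1),(0,2),(0,2),(1,2),
    (0,2),(3,1),(2,1),(0,2),(1,2),(0,2),(0,1),(0,1),(0,1),(0,1),(0,1),(0,1),(0,1),(0,1),(1,1),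
    (0,2),(1,1),(0,2),(0,1),(0,1),(1,2),(1,1),(0,2)],
   [(3,2),(6,2),(1,2),(6,1),(0,1),(0,2),(1,2),(0,1),(0,1),(2,1),(2,2),(1,2),(7,1),(0,1),(11,2),
    (4,2),(4,1),(1,1),(1,2),(0,1),(4,1),(2,1),(13,2),(2,1),(5,1),(0,1),(1,2),(11,2),(4,2),(0,1),
    (0,2),(0,2),(0,2),(0,1),(0,2),(0,2),(0,2),(0,1),(2,1),(2,1),(0,1),(0,2),(0,1),(0,1),(0,1),
    (1,1),(3,2),(0,1),(1,1),(0,1),(1,1),(0,2),(0,1),(0,1),(0,1),(0,2),(0,1),(0,1),(2,2),(0,2),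
    (1,2),(0,1),(1,2),(0,1),(0,2),(0,2),(0,2),(0,1),(0,2),(0,2),(0,2),(0,1),(1,1),(0,1),(2,2),
    (0,1),(0,2),(3,2),(0,1),(3,2),(0,2),(1,2),(0,1),(1,2),(0,1),(0,2),(0,2),(0,2),(0,1),(0,2),
    (0,2),(0,2),(0,1),(0,1),(1,2),(2,1),(0,1),(0,2),(0,1),(0,1),(0,1),(0,2),(0,1),(0,1),(2,2),
    (0,2),(1,2),(0,1),(1,1),(0,2),(0,1),(0,1),(1,2),(1,1),(2,1),(0,2),(1,2),(0,2)],
   [(3,2),(5,1),(0,2),(7,1),(2,1),(0,2),(0,1),(0,2),(4,1),(0,1),(2,2),(6,2),(0,1),(15,2),(0,2),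
    (0,1),(4,1),(1,2),(8,2),(7,1),(9,2),(0,1),(0,1),(1,2),(4,1),(10,1),(1,1),(2,2),(1,1),(0,1),
    (1,1),(0,1),(1,1),(0,1),(1,2),(1,1),(1,1),(0,1),(1,2),(0,2),(0,1),(0,2),(0,2),(0,1),(0,2),
    (0,2),(0,2),(1,2),(1,2),(2,1),(0,1),(0,1),(0,2),(0,1),(0,1),(0,2),(0,1),(0,1),(0,1),(0,2),
    (0,2),(1,2),(2,1),(0,1),(0,1),(0,2),(0,1),(0,1),(0,2),(0,1),(0,1),(0,1),(1,2),(1,2),(2,2),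
    (0,2),(1,1),(0,2),(0,2),(0,1),(0,2),(1,2),(1,2),(1,2),(2,1),(2,2),(0,1),(0,1),(0,2),(0,1),
    (0,1),(1,1),(1,2),(0,1),(0,1),(0,2),(1,2),(0,2),(0,1),(0,2),(2,2),(0,2),(1,1),(1,2),(1,2),
    (0,2),(1,1),(0,1),(0,2),(0,1),(0,1),(0,2),(0,1),(0,1),(0,1),(1,2),(1,2),(2,2)],
   [(3,1),(6,1),(7,1),(0,1),(0,1),(6,2),(1,1),(0,1),(0,2),(1,1),(2,1),(3,2),(0,2),(10,2),(12,1),
    (0,1),(1,1),(2,1),(2,2),(11,1),(4,2),(7,2),(2,2),(1,1),(0,1),(5,2),(3,2),(2,1),(1,2),(0,2),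
    (1,1),(0,1),(0,2),(1,1),(0,1),(2,1),(1,2),(0,2),(1,2),(0,2),(0,2),(0,1),(0,1),(0,2),(0,1),
    (0,1),(1,2),(0,2),(1,2),(2,2),(1,2),(0,2),(0,1),(0,1),(0,2),(0,1),(2,1),(0,1),(1,1),(2,1),
    (0,1),(0,1),(0,1),(0,2),(0,2),(0,1),(0,2),(0,2),(1,2),(0,1),(1,1),(2,2),(0,1),(0,1),(0,1),
    (0,2),(0,2),(0,1),(0,2),(0,2),(0,1),(0,2),(0,1),(1,1),(2,1),(2,1),(0,2),(0,2),(0,1),(0,2),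
    (0,2),(0,2),(1,2),(0,2),(1,1),(0,2),(1,1),(0,1),(0,1),(0,2),(1,1),(1,2),(0,2),(2,2),(1,1),
    (0,1),(1,1),(0,1),(0,1),(0,2),(0,2),(0,1),(0,2),(0,2),(1,1),(0,2),(1,2),(2,1)]]

/-- Rows of a matrix. -/
def matB1 : List (List (ℕ × ℕ)) :=
  [[(8,1),(2,1),(1,2),(5,1),(1,2),(3,1),(2,2),(1,2),(0,1),(3,2),(1,1),(1,2),(0,2),(8,2),(0,1),
    (0,2),(0,2),(8,1),(2,1),(2,2),(23,2),(1,2),(3,1),(3,1),(3,1),(6,1),(0,1),(4,1),(5,2),(2,1),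
    (0,1),(0,2),(0,2),(1,2),(0,1),(0,2),(0,2),(1,1),(2,2),(2,2),(0,2),(0,1),(0,1),(1,1),(0,2),
    (0,1),(0,1),(4,2),(2,1),(0,1),(0,2),(0,2),(0,2),(0,2),(0,1),(1,2),(4,2),(1,1),(0,2),(0,2),
    (1,1),(0,1),(0,1),(0,2),(0,1),(0,1),(0,1),(0,1),(0,2),(0,1),(1,1),(0,1),(1,2),(0,1),(0,1),
    (1,1),(0,2),(0,1),(0,1),(4,1),(2,2),(0,2),(0,1),(0,1),(0,1),(0,1),(0,2),(1,1),(3,2),(0,1),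
    (2,1),(0,1),(1,2),(0,2),(0,2),(0,1),(0,2),(0,2),(4,2),(2,1),(0,2),(0,1),(0,1),(2,2),(0,1),
    (0,2)],
   [(11,2),(0,1),(6,1),(6,1),(5,1),(1,2),(0,2),(0,1),(1,1),(0,2),(3,1),(7,1),(2,2),(7,2),(2,2),
    (1,1),(1,1),(3,2),(0,1),(11,2),(4,1),(6,2),(0,2),(0,2),(2,1),(0,1),(7,1),(1,2),(6,1),(1,2),
    (0,1),(0,1),(0,2),(1,2),(0,2),(0,1),(0,2),(0,2),(0,1),(0,2),(0,2),(0,2),(1,2),(1,1),(2,2),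
    (0,1),(0,1),(0,2),(0,1),(0,1),(0,2),(0,1),(0,1),(1,1),(1,1),(1,1),(0,2),(1,1),(0,1),(1,1),
    (0,1),(1,1),(0,1),(1,1),(1,2),(1,1),(0,1),(1,1),(0,1),(0,2),(0,1),(0,1),(0,2),(0,1),(0,1),
    (0,2),(1,2),(1,1),(2,2),(0,1),(0,1),(0,2),(0,1),(1,2),(1,1),(1,1),(1,2),(1,1),(0,1),(1,2),
    (0,2),(0,1),(0,2),(0,2),(0,1),(0,2),(0,2),(1,1),(1,1),(1,1),(0,2),(1,1),(0,1),(0,2),(2,2),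
    (0,1),(0,1),(0,2),(0,1),(0,1),(1,1),(2,2),(0,2),(2,2),(0,2),(0,1),(0,2),(0,2)],
   [(3,2),(9,2),(5,1),(8,2),(0,2),(0,1),(2,1),(2,2),(1,1),(2,1),(0,1),(0,2),(5,2),(0,2),(1,1),
    (8,2),(7,1),(0,1),(1,1),(1,1),(0,2),(0,2),(6,1),(2,1),(9,1),(1,1),(3,1),(8,1),(8,1),(0,2),
    (1,2),(0,1),(1,2),(0,1),(0,2),(0,2),(2,2),(0,1),(0,2),(0,2),(1,1),(0,2),(0,2),(0,2),(0,2),
    (0,1),(0,2),(0,1),(0,2),(2,2),(0,2),(0,2),(0,2),(1,1),(0,2),(0,2),(0,2),(0,2),(0,1),(0,2),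
    (2,1),(0,1),(0,2),(3,2),(0,1),(0,2),(0,2),(0,2),(1,1),(0,2),(0,2),(0,2),(2,2),(0,2),(0,2),
    (0,1),(0,2),(0,1),(0,2),(0,2),(0,2),(1,1),(0,2),(2,1),(0,2),(4,1),(0,2),(0,1),(0,1),(0,1),
    (1,2),(0,1),(2,2),(0,1),(4,2),(0,1),(0,2),(0,2),(0,2),(0,2),(0,1),(3,1),(0,2),(4,1),(0,2),
    (0,1),(0,1),(0,1),(0,1),(0,2),(3,2),(0,1)],
   [(8,2),(1,1),(0,2),(6,2),(2,2),(2,2),(2,2),(4,2),(1,1),(0,2),(3,1),(0,2),(10,2),(1,2),(8,2),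
    (5,2),(4,2),(3,1),(13,1),(3,1),(4,2),(0,1),(2,1),(1,1),(2,2),(2,1),(0,2),(4,2),(5,2),(0,1),
    (2,1),(0,2),(0,2),(1,2),(0,2),(0,2),(0,1),(0,1),(0,1),(0,1),(0,1),(2,2),(0,1),(0,2),(0,1),
    (0,1),(1,1),(0,1),(0,1),(0,2),(4,1),(0,2),(2,2),(0,1),(0,1),(0,1),(0,1),(0,1),(1,2),(0,2),
    (0,1),(0,2),(0,2),(2,2),(0,2),(0,1),(1,2),(0,2),(0,2),(0,2),(0,2),(0,1),(0,1),(0,1),(0,1),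
    (0,2),(2,1),(0,1),(0,2),(0,1),(0,1),(2,2),(0,1),(0,2),(4,1),(0,2),(2,1),(0,2),(0,2),(0,2),
    (0,2),(0,2),(1,1),(2,2),(1,1),(0,1),(2,2),(1,1),(0,1),(0,1),(0,1),(0,1),(0,2),(4,2),(0,1),
    (2,2),(0,1),(0,1),(1,1),(0,1),(0,1),(0,2)],
   [(12,1),(0,2),(5,1),(0,2),(0,2),(0,2),(0,2),(0,2),(2,2),(3,2),(0,2),(1,2),(0,1),(5,1),(0,2),
    (6,2),(8,2),(0,2),(2,2),(8,2),(14,2),(6,2),(0,2),(0,1),(0,2),(0,1),(4,2),(0,1),(16,2),(1,2),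
    (0,1),(0,1),(3,1),(0,1),(0,2),(0,2),(0,1),(0,2),(0,1),(0,2),(0,2),(1,1),(0,2),(0,1),(3,2),
    (0,2),(0,1),(0,1),(0,2),(0,1),(0,2),(0,1),(1,2),(3,2),(0,1),(0,1),(2,2),(1,1),(0,2),(0,1),
    (1,1),(0,2),(0,1),(0,1),(0,1),(2,2),(1,1),(0,2),(1,1),(2,2),(0,2),(1,2),(0,1),(0,1),(3,1),
    (0,1),(0,2),(0,2),(0,1),(0,2),(0,1),(0,2),(0,2),(1,1),(0,2),(0,1),(3,2),(0,2),(0,1),(0,1),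
    (0,2),(0,1),(0,2),(0,1),(0,1),(1,1),(0,2),(0,2),(3,2),(0,2),(0,1),(0,1),(0,2),(0,1),(0,2),
    (0,1),(0,1),(1,2),(0,1),(0,2),(3,1),(0,1),(0,2),(0,2),(0,1),(0,2),(0,1),(0,2)],
   [(3,2),(14,2),(1,2),(1,2),(1,2),(1,2),(3,1),(1,1),(0,2),(2,1),(12,2),(1,2),(0,1),(7,2),(0,2),
    (0,1),(6,2),(0,1),(4,1),(17,1),(0,2),(0,2),(1,1),(0,1),(2,1),(0,1),(0,2),(2,2),(13,1),(0,2),
    (0,1),(0,1),(0,1),(1,2),(0,1),(2,2),(0,1),(4,1),(0,2),(0,1),(0,1),(1,1),(0,2),(0,1),(0,1),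
    (0,2),(0,2),(1,2),(0,2),(0,2),(0,1),(0,2),(1,1),(0,1),(0,1),(0,1),(1,1),(2,1),(0,2),(0,2),
    (0,1),(2,2),(0,1),(0,2),(0,2),(0,2),(0,2),(0,1),(3,1),(0,2),(4,1),(0,2),(0,1),(0,1),(0,1),
    (1,2),(0,1),(2,2),(0,1),(4,2),(0,1),(0,2),(0,2),(0,2),(1,1),(0,2),(2,1),(0,2),(4,1),(0,2),
    (0,1),(0,1),(0,1),(0,1),(0,2),(3,2),(0,1),(4,2),(0,1),(0,2),(0,2),(0,2),(0,2),(0,1),(3,1),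
    (0,2)],
   [(4,2),(4,2),(2,2),(7,2),(1,2),(0,2),(1,2),(0,2),(4,1),(5,1),(16,2),(2,2),(0,2),(0,2),(0,1),
    (3,2),(0,1),(0,2),(0,1),(3,1),(21,1),(0,1),(2,2),(1,2),(3,1),(1,2),(8,1),(0,2),(4,1),(0,2),
    (0,1),(0,1),(0,2),(0,2),(0,2),(0,1),(0,2),(0,1),(4,2),(0,1),(0,2),(0,1),(0,2),(0,2),(0,1),
    (2,2),(0,2),(0,2),(4,1),(0,1),(0,1),(0,2),(0,1),(0,1),(0,2),(0,2),(0,2),(0,1),(2,2),(0,1),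
    (0,1),(0,2),(2,2),(1,2),(0,2),(0,1),(1,1),(0,2),(2,2),(0,1),(0,1),(0,2),(2,1),(0,2),(0,1),
    (0,1),(0,2),(0,2),(0,2),(0,1),(0,2),(0,1),(4,2),(0,1),(1,2),(0,1),(1,2),(0,2),(0,2),(0,1),
    (2,2),(0,1),(0,1),(0,2),(2,2),(0,1),(0,2),(0,2),(0,1),(0,1),(0,1),(0,2),(0,1),(0,2),(1,2),
    (1,1),(0,2),(0,1),(0,1),(0,2),(0,1),(1,2),(0,2),(0,2),(1,1),(0,1),(4,2),(0,2)],
   [(4,2),(3,1),(1,2),(8,2),(0,1),(0,2),(2,2),(7,1),(0,1),(4,1),(0,1),(2,2),(7,1),(2,2),(0,1),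
    (2,2),(0,1),(0,2),(4,1),(0,1),(0,2),(4,2),(0,2),(2,1),(21,2),(4,2),(0,2),(8,2),(7,2),(0,2),
    (1,2),(0,2),(0,2),(0,2),(1,1),(0,2),(0,1),(0,2),(0,1),(1,2),(0,2),(2,1),(4,1),(0,1),(0,2),
    (0,1),(0,2),(0,1),(0,1),(1,2),(2,1),(4,1),(1,1),(0,2),(0,1),(0,2),(0,2),(0,1),(0,1),(2,1),
    (4,1),(0,1),(0,2),(1,2),(1,1),(1,2),(2,2),(1,1),(2,1),(1,1),(0,2),(0,1),(0,2),(0,2),(0,1),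
    (0,1),(2,1),(4,1),(0,1),(0,2),(0,1),(0,2),(0,1),(0,1),(1,2),(0,1),(0,1),(1,1),(0,1),(0,2),
    (0,2),(1,1),(0,2),(0,1),(0,2),(1,1),(2,1),(0,2),(1,2),(0,2),(0,2),(0,1),(1,2),(0,1),(0,2),
    (0,1),(0,2),(1,1),(0,1)],
   [(3,2),(4,1),(10,1),(0,2),(3,1),(2,1),(3,2),(0,2),(1,1),(3,1),(0,1),(1,2),(9,2),(0,2),(0,1),
    (0,2),(4,1),(12,2),(1,1),(2,2),(8,2),(8,2),(3,2),(3,1),(9,1),(0,2),(0,1),(2,1),(3,2),(0,1),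
    (1,1),(0,1),(2,1),(1,2),(0,2),(0,2),(0,1),(1,1),(0,2),(2,2),(0,2),(0,1),(0,1),(0,2),(0,1),
    (0,2),(0,2),(0,2),(1,1),(0,2),(2,1),(0,1),(0,2),(3,2),(0,1),(0,2),(0,2),(0,2),(0,2),(1,2),
    (2,2),(0,1),(4,1),(2,1),(1,1),(0,2),(0,1),(2,2),(0,1),(4,2),(0,1),(0,2),(0,2),(0,2),(0,2),
    (1,2),(2,2),(0,1),(4,1),(1,1),(0,1),(0,1),(0,1),(0,2),(0,1),(2,1),(0,2),(4,2),(1,2),(0,2),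
    (0,2),(0,2),(0,1),(0,2),(2,1),(0,2),(4,1),(0,2),(0,1),(0,1),(0,1),(0,1),(1,1)],
   [(4,2),(4,1),(8,2),(3,2),(0,1),(0,2),(2,2),(1,2),(0,2),(0,2),(2,2),(5,1),(1,1),(7,1),(0,2),
    (0,2),(6,1),(5,1),(5,1),(2,2),(2,1),(5,1),(2,1),(6,2),(0,1),(4,2),(12,1),(1,2),(5,2),(0,2),
    (1,1),(0,1),(0,1),(0,2),(0,1),(0,1),(1,1),(0,1),(0,1),(3,2),(0,2),(0,1),(0,1),(0,2),(0,1),
    (0,2),(0,1),(0,2),(1,1),(0,2),(0,1),(3,2),(1,1),(1,2),(0,1),(0,2),(0,1),(0,1),(0,2),(3,1),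
    (0,1),(0,1),(2,2),(0,2),(0,1),(0,2),(0,1),(0,2),(0,2),(1,1),(0,2),(0,2),(1,1),(1,1),(0,1),
    (0,2),(0,2),(0,1),(0,2),(0,1),(0,2),(1,1),(3,1),(0,1),(0,1),(0,1),(0,1),(0,2),(0,2),(0,1),
    (0,2),(0,1),(0,2),(1,2),(3,2),(0,2),(0,2),(0,1),(0,1),(0,2),(0,2),(0,1),(0,2),(0,1),(0,2),
    (0,2),(1,2),(0,2),(0,2),(3,1),(0,1),(0,2),(0,2),(0,1),(0,2),(0,1),(0,2),(0,1),(1,1),(0,1),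
    (0,1)],
   [(8,1),(1,1),(0,2),(1,1),(8,1),(5,1),(0,1),(0,2),(2,1),(1,1),(3,2),(1,1),(9,2),(5,2),(0,1),
    (0,1),(2,1),(1,2),(4,2),(3,2),(2,1),(0,2),(15,1),(5,2),(5,1),(0,1),(2,2),(8,1),(2,1),(3,1),
    (2,2),(0,2),(1,1),(2,1),(0,2),(1,1),(3,2),(1,2),(0,2),(0,2),(0,1),(0,1),(0,2),(0,1),(0,1),
    (2,1),(3,1),(2,2),(0,2),(1,1),(0,2),(0,1),(0,1),(0,2),(1,1),(3,1),(2,2),(0,2),(0,1),(0,1),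
    (1,1),(0,1),(0,2),(1,2),(3,2),(2,2),(0,2),(0,1),(0,1),(0,2),(0,1),(0,1),(1,1),(1,2),(0,2),
    (0,2),(0,1),(0,2),(0,2),(0,1),(0,1),(1,2),(0,1),(0,2),(0,2),(0,1),(1,2),(2,1),(0,1),(2,2),
    (0,2),(0,1),(0,1),(0,2),(0,1),(0,1),(2,1),(3,1),(2,2),(2,1),(0,2),(0,1),(0,1)],
   [(11,1),(0,1),(5,1),(4,2),(0,2),(0,2),(2,1),(4,1),(1,2),(2,2),(1,1),(1,1),(9,2),(9,2),(1,1),
    (1,2),(2,2),(2,2),(0,2),(3,2),(8,2),(7,2),(4,1),(4,1),(1,2),(2,2),(2,2),(1,1),(5,1),(0,2),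
    (0,2),(1,2),(0,1),(0,1),(0,1),(0,1),(0,1),(0,2),(0,2),(1,2),(1,2),(1,2),(0,2),(0,2),(0,2),
    (0,1),(0,1),(0,1),(4,1),(1,1),(1,1),(0,2),(0,2),(0,2),(0,2),(1,1),(0,1),(4,1),(1,1),(1,2),
    (0,1),(1,1),(0,1),(2,2),(4,2),(1,2),(2,2),(0,2),(0,2),(0,2),(0,1),(0,1),(0,1),(0,1),(0,2),
    (0,2),(0,1),(1,2),(0,2),(0,1),(0,2),(0,1),(0,1),(1,1),(0,2),(0,2),(0,2),(0,1),(0,1),(0,2),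
    (0,1),(1,1),(1,2),(0,1),(0,2),(3,1),(0,1),(0,1),(4,1),(1,1),(1,2),(0,1),(0,1),(1,1),(0,2),
    (0,2),(0,2),(4,1),(1,1)],
   [(4,1),(5,1),(0,1),(1,2),(7,2),(1,2),(8,1),(0,2),(9,1),(7,2),(1,1),(4,1),(2,2),(2,2),(0,1),
    (9,2),(0,2),(0,2),(8,1),(4,2),(1,2),(3,2),(8,1),(4,1),(0,2),(0,2),(1,1),(2,2),(1,2),(0,2),
    (0,2),(1,2),(1,2),(0,2),(1,2),(0,2),(0,1),(0,1),(2,1),(3,2),(1,2),(3,1),(0,1),(0,2),(0,2),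
    (0,1),(0,1),(0,2),(3,2),(1,2),(2,1),(1,2),(0,1),(0,1),(0,2),(0,2),(0,1),(3,1),(1,1),(2,1),
    (0,2),(1,1),(0,1),(0,2),(0,2),(0,1),(3,2),(1,2),(3,1),(0,1),(1,2),(0,1),(1,2),(0,2),(0,1),
    (0,2),(1,1),(1,1),(0,1),(0,1),(0,2),(1,1),(0,1),(0,2),(0,2),(0,1),(0,2),(0,2),(0,1),(1,1),
    (1,1),(0,1),(1,1),(0,1),(0,2),(0,2),(0,1),(0,1),(0,2),(3,1),(1,2),(0,1),(1,1),(1,2),(0,1),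
    (0,1),(0,2),(0,2),(0,1)],
   [(0,2),(0,1),(0,1),(2,1),(0,2),(0,1),(6,1),(0,2),(0,2),(0,2),(27,2),(0,2),(0,2),(0,1),(6,1),
    (0,2),(6,1),(14,2),(0,2),(0,1),(0,2),(0,1),(1,1),(0,2),(1,1),(0,2),(0,1),(0,2),(1,1),(14,1),
    (0,1),(1,1),(5,1),(0,2),(1,2),(0,2),(0,1),(0,1),(0,1),(0,2),(0,2),(0,1),(0,2),(0,2),(0,1),
    (0,1),(0,1),(0,2),(0,2),(0,1),(0,2),(8,1),(0,2),(0,2),(0,2),(0,1),(0,1),(0,2),(0,1),(8,1),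
    (0,2),(0,2),(0,2),(0,1),(0,1),(0,2),(0,1),(24,1),(0,2),(0,2),(0,2),(0,1),(0,1),(0,2),(0,1),
    (8,1),(0,2),(0,2),(0,2),(0,1),(0,1),(0,2),(0,1),(8,1),(0,2),(0,2),(0,2),(0,1),(0,1),(0,2),
    (0,1),(8,1),(0,2),(0,2),(0,2),(0,1),(0,1),(0,2),(0,1)],
   [(0,1),(0,2),(0,2),(2,2),(0,1),(0,2),(6,2),(0,2),(0,2),(0,1),(26,2),(1,2),(0,2),(0,2),(6,2),
    (0,1),(6,2),(14,2),(0,2),(0,1),(0,1),(0,1),(1,1),(0,1),(1,1),(0,2),(0,1),(0,2),(1,2),(14,2),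
    (0,1),(1,1),(5,1),(0,1),(1,1),(0,1),(0,2),(0,2),(0,2),(0,1),(0,1),(0,2),(0,1),(0,1),(0,2),
    (0,2),(0,2),(0,1),(0,1),(0,2),(0,1),(8,2),(0,1),(0,1),(0,1),(0,2),(0,2),(0,1),(0,2),(8,2),
    (0,1),(0,1),(0,1),(0,2),(0,2),(0,1),(0,2),(8,2),(0,1),(0,1),(0,1),(0,2),(0,2),(0,1),(0,2),
    (8,2),(0,1),(0,1),(0,1),(0,2),(0,2),(0,1),(0,2),(8,2),(0,1),(0,1),(0,1),(0,2),(0,2),(0,1),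
    (0,2),(8,2),(0,1),(0,1),(0,1),(0,2),(0,2),(0,1),(0,2)],
   [(0,1),(0,2),(0,1),(2,1),(0,2),(0,1),(6,2),(0,1),(0,1),(0,1),(26,2),(0,2),(1,2),(0,1),(6,2),
    (0,2),(6,1),(14,2),(0,2),(0,2),(0,1),(0,1),(1,2),(0,1),(1,2),(0,1),(0,2),(0,1),(1,2),(14,1),
    (0,1),(1,1),(5,2),(0,2),(1,1),(8,2),(0,1),(0,1),(0,1),(0,2),(0,2),(0,1),(0,2),(8,2),(0,1),
    (0,1),(0,1),(0,2),(0,2),(0,1),(0,2),(8,2),(0,1),(0,1),(0,1),(0,2),(0,2),(0,1),(0,2),(0,2),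
    (0,1),(0,1),(0,1),(0,2),(0,2),(0,1),(0,2),(0,1),(0,2),(0,2),(0,2),(0,1),(0,1),(0,2),(0,1),
    (8,2),(0,1),(0,1),(0,1),(0,2),(0,2),(0,1),(0,2),(0,1),(0,2),(0,2),(0,2),(0,1),(0,1),(0,2),
    (0,1),(0,1),(0,2),(0,2),(0,2),(0,1),(0,1),(0,2),(0,1),(0,1),(0,2),(0,2),(0,2),(0,1),(0,1),
    (0,2),(0,1),(0,1),(0,2),(0,2),(0,2),(0,1),(0,1),(0,2),(0,1),(8,2),(0,1),(0,1),(0,1),(0,2),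
    (0,2),(0,1),(0,2)],
   [(0,2),(0,1),(0,2),(2,2),(0,1),(0,1),(6,1),(0,1),(0,1),(0,2),(26,2),(0,2),(0,2),(1,1),(6,1),
    (0,1),(6,2),(14,1),(0,2),(0,1),(0,1),(0,1),(1,2),(0,2),(1,1),(0,1),(0,2),(0,2),(1,2),(14,1),
    (0,2),(1,2),(5,2),(0,1),(1,1),(8,1),(0,2),(0,2),(0,2),(0,1),(0,1),(0,2),(0,1),(8,1),(0,2),
    (0,2),(0,2),(0,1),(0,1),(0,2),(0,1),(0,2),(0,1),(0,1),(0,1),(0,2),(0,2),(0,1),(0,2),(0,2),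
    (0,1),(0,1),(0,1),(0,2),(0,2),(0,1),(0,2),(8,1),(0,2),(0,2),(0,2),(0,1),(0,1),(0,2),(0,1),
    (8,1),(0,2),(0,2),(0,2),(0,1),(0,1),(0,2),(0,1),(0,2),(0,1),(0,1),(0,1),(0,2),(0,2),(0,1),
    (0,2),(0,2),(0,1),(0,1),(0,1),(0,2),(0,2),(0,1),(0,2),(8,1),(0,2),(0,2),(0,2),(0,1),(0,1),
    (0,2),(0,1),(0,1),(0,2),(0,2),(0,2),(0,1),(0,1),(0,2),(0,1),(0,2),(0,1),(0,1),(0,1),(0,2),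
    (0,2),(0,1),(0,2)],
   [(0,2),(0,1),(0,2),(2,1),(0,2),(0,2),(6,2),(0,1),(0,1),(0,2),(26,1),(0,2),(0,1),(0,1),(7,1),
    (0,2),(6,1),(14,2),(0,2),(0,2),(0,1),(0,1),(1,2),(0,1),(1,1),(0,2),(0,1),(0,2),(1,2),(14,2),
    (0,2),(1,1),(5,2),(0,1),(1,2),(8,1),(0,2),(0,2),(0,2),(0,1),(0,1),(0,2),(0,1),(8,1),(0,2),
    (0,2),(0,2),(0,1),(0,1),(0,2),(0,1),(8,1),(0,2),(0,2),(0,2),(0,1),(0,1),(0,2),(0,1),(0,2),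
    (0,1),(0,1),(0,1),(0,2),(0,2),(0,1),(0,2),(0,2),(0,1),(0,1),(0,1),(0,2),(0,2),(0,1),(0,2),
    (0,2),(0,1),(0,1),(0,1),(0,2),(0,2),(0,1),(0,2),(0,2),(0,1),(0,1),(0,1),(0,2),(0,2),(0,1),
    (0,2),(8,1),(0,2),(0,2),(0,2),(0,1),(0,1),(0,2),(0,1),(8,1),(0,2),(0,2),(0,2),(0,1),(0,1),
    (0,2),(0,1),(0,1),(0,2),(0,2),(0,2),(0,1),(0,1),(0,2),(0,1),(0,2),(0,1),(0,1),(0,1),(0,2),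
    (0,2),(0,1),(0,2)],
   [(19,1),(0,2),(0,2),(2,2),(0,2),(1,2),(3,2),(1,2),(1,2),(0,2),(12,1),(2,1),(0,2),(0,1),(2,2),
    (1,2),(2,1),(2,2),(2,1),(7,2),(0,2),(13,2),(4,1),(0,1),(13,1),(0,1),(0,1),(4,1),(2,2),(1,1),
    (4,1),(0,1),(0,2),(0,1),(0,1),(0,1),(0,2),(2,1),(1,2),(4,1),(0,1),(0,2),(0,1),(1,1),(0,2),
    (0,1),(1,1),(1,1),(0,2),(4,2),(0,1),(0,2),(0,2),(0,2),(0,1),(0,2),(0,1),(0,2),(1,2),(4,2),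
    (0,2),(0,1),(0,2),(0,2),(0,2),(0,1),(1,1),(1,1),(1,1),(0,2),(0,1),(0,1),(0,2),(0,1),(0,1),
    (1,2),(0,2),(0,1),(2,1),(1,1),(3,2),(1,1),(0,2),(0,1),(0,1),(0,1),(0,2),(0,1),(1,1),(1,2),
    (4,2),(0,2),(0,1),(0,2),(0,2),(0,2),(0,1),(2,2),(1,1),(4,2),(0,2),(0,1),(0,2),(1,2),(0,1),
    (0,2)],
   [(3,2),(4,2),(1,1),(0,2),(6,1),(0,1),(1,1),(0,1),(1,1),(0,2),(0,2),(4,1),(1,2),(4,1),(1,1),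
    (9,1),(2,2),(4,2),(2,2),(4,1),(0,2),(1,1),(24,2),(0,1),(2,1),(2,2),(7,2),(2,2),(8,1),(2,1),
    (3,2),(0,2),(0,1),(0,1),(0,1),(0,2),(1,2),(1,2),(2,2),(3,1),(0,1),(0,2),(1,2),(0,1),(0,2),
    (0,1),(1,2),(2,2),(3,1),(0,1),(0,2),(2,1),(0,2),(1,2),(1,1),(0,1),(1,1),(0,2),(0,1),(0,1),
    (0,1),(0,2),(0,2),(0,2),(1,2),(0,1),(0,1),(0,2),(0,2),(0,1),(1,1),(0,1),(0,1),(0,1),(0,1),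
    (0,2),(1,2),(0,1),(0,2),(0,1),(1,2),(2,2),(3,1),(0,1),(0,2),(1,2),(0,1),(0,2),(0,1),(0,1),
    (1,2),(0,1),(1,2),(0,2),(0,2),(0,2),(0,2),(0,1),(0,1),(0,1),(1,1),(0,2),(1,2),(2,2),(3,2),
    (1,1),(0,1),(0,1),(0,2)],
   [(3,2),(6,1),(1,2),(5,2),(1,2),(0,2),(4,2),(4,2),(0,1),(1,2),(1,2),(2,2),(0,2),(0,2),(1,2),
    (7,1),(0,2),(6,1),(5,1),(1,2),(0,2),(0,2),(2,2),(25,1),(2,1),(4,1),(2,2),(5,1),(4,2),(2,2),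
    (1,1),(1,2),(0,2),(0,2),(0,2),(0,1),(0,1),(0,2),(0,2),(0,2),(1,2),(0,1),(1,2),(1,2),(1,2),
    (0,2),(0,2),(0,1),(0,1),(0,2),(0,2),(0,2),(0,1),(0,2),(1,2),(1,2),(1,1),(0,2),(0,2),(2,1),
    (0,2),(0,2),(0,2),(1,2),(0,1),(1,1),(1,1),(1,2),(0,2),(0,2),(0,1),(0,1),(0,2),(0,2),(0,2),
    (0,2),(2,2),(1,1),(1,2),(0,2),(0,2),(0,2),(0,1),(0,1),(0,2),(0,2),(0,2),(0,2),(2,2),(1,1),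
    (1,2),(1,1),(1,2),(1,1),(0,1),(1,2),(2,2),(1,2),(0,1),(0,2),(0,2),(0,2),(0,2),(0,1),(2,2),
    (0,2),(1,2),(0,1),(1,1),(1,1),(1,2),(0,2),(0,2),(0,1),(0,1),(0,2),(0,2),(0,2)],
   [(4,2),(6,1),(12,1),(0,2),(4,2),(0,2),(1,1),(2,1),(2,2),(0,2),(1,2),(6,1),(1,2),(0,1),(1,2),
    (2,1),(1,1),(0,1),(1,2),(1,1),(0,1),(1,2),(2,2),(0,1),(0,2),(20,2),(12,2),(2,2),(10,1),
    (0,1),(0,2),(0,1),(0,2),(0,1),(0,2),(0,2),(1,1),(1,2),(0,2),(2,1),(1,2),(0,1),(1,1),(0,2),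
    (0,1),(0,1),(1,2),(1,1),(0,2),(2,1),(0,1),(0,1),(0,2),(0,1),(0,2),(0,1),(2,1),(1,1),(2,2),
    (0,2),(1,1),(0,1),(0,2),(0,1),(0,2),(0,1),(0,2),(0,2),(1,2),(1,1),(0,2),(2,1),(0,1),(0,1),
    (0,2),(0,1),(0,2),(0,1),(0,2),(0,2),(1,1),(1,2),(0,2),(2,1),(0,1),(0,1),(0,2),(0,1),(1,1),
    (1,2),(0,2),(1,2),(2,1),(0,1),(3,2),(0,1),(0,2),(0,1),(0,2),(0,2),(0,1),(1,2),(0,2),(0,1),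
    (0,1),(0,2),(1,1),(0,1),(0,2),(0,1),(0,2),(0,1),(0,2),(0,2),(1,2),(1,1),(0,2),(2,1)],
   [(4,2),(4,2),(1,2),(10,1),(0,1),(1,2),(0,2),(7,2),(3,2),(0,1),(3,1),(5,2),(0,2),(2,1),(0,1),
    (2,2),(1,2),(4,1),(2,2),(1,1),(0,2),(4,1),(19,1),(0,1),(3,2),(2,2),(5,2),(2,1),(7,2),(2,1),
    (0,1),(0,1),(0,2),(0,2),(0,2),(0,2),(1,2),(3,2),(0,2),(0,1),(0,2),(0,1),(0,1),(0,1),(0,2),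
    (0,2),(0,2),(0,1),(1,2),(3,1),(1,2),(0,1),(0,2),(0,2),(1,1),(0,1),(2,1),(1,1),(0,2),(0,2),
    (1,2),(0,1),(0,2),(0,1),(0,1),(0,1),(0,2),(0,2),(0,2),(0,2),(1,2),(3,2),(0,1),(0,2),(0,1),
    (1,2),(1,1),(0,1),(2,2),(1,2),(0,1),(0,1),(1,2),(0,1),(0,2),(0,1),(0,1),(0,1),(0,2),(0,2),
    (0,2),(0,1),(1,2),(3,1),(0,2),(0,1),(0,2),(0,1),(0,1),(0,1),(0,2),(0,2),(0,2),(0,2),(0,2),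
    (0,2),(3,1),(0,1),(0,2),(1,2),(0,2),(0,2),(0,1),(1,1),(1,1),(1,1),(0,1),(0,2)],
   [(3,2),(18,2),(0,2),(0,1),(3,2),(3,2),(4,2),(0,1),(0,2),(9,1),(2,2),(0,1),(0,1),(5,1),(0,2),
    (9,1),(1,2),(0,1),(1,1),(6,2),(12,2),(1,2),(0,2),(1,1),(0,1),(3,2),(8,2),(2,2),(2,1),(0,2),
    (0,1),(3,1),(0,1),(1,1),(0,1),(0,1),(0,1),(0,2),(0,1),(0,1),(0,2),(2,2),(0,2),(0,1),(0,1),
    (1,2),(1,1),(0,1),(0,1),(1,1),(0,2),(1,1),(0,1),(4,1),(0,2),(1,1),(2,2),(0,1),(2,1),(0,2),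
    (4,2),(0,1),(0,2),(0,2),(0,2),(0,2),(0,1),(3,1),(0,2),(4,1),(0,2),(0,1),(0,1),(0,1),(0,1),
    (1,1),(2,1),(0,2),(4,2),(1,2),(0,2),(0,2),(0,2),(0,1),(0,2),(2,2),(0,1),(4,1),(1,1),(0,1),
    (0,1),(0,1),(0,2),(0,1),(2,2),(0,1),(4,2),(0,1),(0,2),(0,2),(0,2),(0,2),(1,2)],
   [(0,2),(0,2),(0,2),(2,2),(0,2),(0,2),(6,1),(0,2),(0,2),(0,1),(26,1),(0,2),(0,2),(0,1),(0,1),
    (7,2),(6,2),(14,1),(0,1),(0,1),(0,1),(0,1),(1,2),(0,1),(1,1),(0,1),(0,1),(0,1),(1,1),(14,1),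
    (0,2),(1,1),(5,2),(0,2),(1,2),(8,1),(0,2),(0,2),(0,2),(0,1),(0,1),(0,2),(0,1),(8,1),(0,2),
    (0,2),(0,2),(0,1),(0,1),(0,2),(0,1),(8,1),(0,2),(0,2),(0,2),(0,1),(0,1),(0,2),(0,1),(0,1),
    (0,2),(0,2),(0,2),(0,1),(0,1),(0,2),(0,1),(0,2),(0,1),(0,1),(0,1),(0,2),(0,2),(0,1),(0,2),
    (0,1),(0,2),(0,2),(0,2),(0,1),(0,1),(0,2),(0,1),(0,2),(0,1),(0,1),(0,1),(0,2),(0,2),(0,1),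
    (0,2),(8,1),(0,2),(0,2),(0,2),(0,1),(0,1),(0,2),(0,1),(8,1),(0,2),(0,2),(0,2),(0,1),(0,1),
    (0,2),(0,1),(0,1),(0,2),(0,2),(0,2),(0,1),(0,1),(0,2),(0,1),(0,2),(0,1),(0,1),(0,1),(0,2),
    (0,2),(0,1),(0,2)],
   [(0,1),(0,1),(0,1),(2,1),(0,1),(0,1),(6,2),(0,2),(0,2),(0,2),(26,2),(0,1),(0,2),(0,1),(0,2),
    (6,2),(7,1),(14,1),(0,1),(0,1),(0,2),(0,1),(1,2),(0,2),(1,1),(0,1),(0,1),(0,1),(1,2),(14,2),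
    (0,2),(1,1),(5,2),(0,1),(1,1),(8,2),(0,1),(0,1),(0,1),(0,2),(0,2),(0,1),(0,2),(8,2),(0,1),
    (0,1),(0,1),(0,2),(0,2),(0,1),(0,2),(8,2),(0,1),(0,1),(0,1),(0,2),(0,2),(0,1),(0,2),(0,1),
    (0,2),(0,2),(0,2),(0,1),(0,1),(0,2),(0,1),(0,1),(0,2),(0,2),(0,2),(0,1),(0,1),(0,2),(0,1),
    (0,2),(0,1),(0,1),(0,1),(0,2),(0,2),(0,1),(0,2),(0,1),(0,2),(0,2),(0,2),(0,1),(0,1),(0,2),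
    (0,1),(8,2),(0,1),(0,1),(0,1),(0,2),(0,2),(0,1),(0,2),(8,2),(0,1),(0,1),(0,1),(0,2),(0,2),
    (0,1),(0,2),(0,1),(0,2),(0,2),(0,2),(0,1),(0,1),(0,2),(0,1),(0,1),(0,2),(0,2),(0,2),(0,1),
    (0,1),(0,2),(0,1)],
   [(3,2),(4,1),(2,2),(6,1),(5,2),(1,2),(2,2),(7,2),(0,2),(2,2),(7,2),(2,1),(0,2),(3,1),(1,2),
    (2,1),(3,2),(6,2),(2,1),(0,2),(13,2),(2,1),(0,1),(1,2),(0,2),(0,2),(6,1),(6,1),(6,2),(0,2),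
    (0,1),(0,1),(0,1),(1,1),(0,2),(1,2),(0,2),(0,2),(2,2),(0,2),(1,1),(3,2),(1,2),(0,2),(0,1),
    (0,1),(0,1),(1,1),(0,1),(0,1),(5,1),(1,2),(2,2),(0,2),(0,1),(0,2),(0,2),(5,2),(0,2),(1,2),
    (0,1),(1,2),(0,2),(0,1),(0,2),(0,2),(0,2),(5,2),(1,1),(0,2),(0,1),(0,1),(0,1),(1,1),(0,1),
    (0,1),(5,1),(1,2),(1,1),(0,1),(0,1),(0,2),(0,1),(0,1),(0,1),(5,2),(1,1),(0,1),(0,2),(0,2),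
    (0,2),(1,2),(0,2),(0,2),(5,1),(1,2),(1,2),(0,2),(0,2),(0,1),(0,2),(0,2),(0,2)],
   [(8,2),(3,2),(5,1),(0,1),(0,2),(0,1),(0,2),(3,2),(2,2),(5,2),(1,2),(0,1),(2,1),(1,1),(6,2),
    (7,1),(2,1),(11,1),(0,2),(2,1),(8,2),(8,1),(0,2),(1,1),(4,1),(7,2),(1,1),(0,1),(6,2),(1,2),
    (0,1),(0,1),(0,2),(0,1),(2,2),(0,2),(0,1),(0,2),(0,1),(0,2),(0,2),(1,1),(0,2),(0,1),(3,1),
    (1,2),(0,2),(1,2),(0,1),(0,2),(1,1),(3,2),(0,2),(0,1),(0,2),(0,2),(1,1),(0,2),(1,2),(0,1),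
    (1,1),(3,2),(0,2),(0,1),(0,1),(0,1),(0,2),(1,1),(1,1),(0,2),(0,1),(1,1),(0,2),(0,2),(3,2),
    (0,2),(0,1),(0,1),(0,2),(0,1),(0,2),(0,1),(0,1),(1,2),(0,1),(0,2),(3,1),(0,1),(0,2),(0,2),
    (0,1),(0,2),(0,1),(0,2),(0,2),(1,2),(0,1),(0,1),(3,1),(0,1),(0,2),(0,2),(0,1),(0,2),(0,1),
    (0,2),(0,2),(1,1),(0,2),(0,1),(3,2),(0,2),(0,1),(0,1),(0,2),(0,1),(0,2),(0,1)],
   [(9,2),(3,2),(7,2),(1,2),(2,2),(1,2),(0,1),(5,2),(1,2),(0,2),(0,1),(0,1),(0,1),(7,2),(1,1),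
    (0,1),(0,2),(3,2),(1,1),(9,1),(5,1),(7,2),(7,2),(6,2),(3,2),(2,2),(3,1),(5,2),(5,2),(0,2),
    (0,1),(0,1),(1,1),(0,2),(0,1),(0,1),(0,2),(1,2),(3,1),(0,2),(0,2),(0,1),(0,1),(0,2),(0,1),
    (0,2),(0,1),(0,2),(0,1),(1,2),(3,2),(0,1),(0,1),(0,2),(0,2),(0,1),(0,2),(0,1),(3,1),(1,1),
    (0,1),(0,1),(0,2),(0,1),(0,1),(0,2),(2,2),(0,1),(3,2),(1,2),(0,2),(0,2),(0,1),(1,2),(0,1),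
    (0,1),(0,2),(0,1),(1,1),(0,2),(0,1),(1,2),(3,1),(0,2),(1,1),(0,1),(0,2),(0,1),(1,2),(0,2),
    (0,1),(1,2),(0,2),(2,1),(0,2),(0,2),(0,1),(0,1),(0,2),(0,1),(0,2),(0,1),(0,1),(0,2),(1,2),
    (3,2),(0,1),(0,1),(0,2),(0,2),(0,1),(0,2),(0,1),(1,1),(1,1),(1,1),(0,1),(0,2)],
   [(4,1),(7,1),(6,1),(1,1),(2,2),(0,1),(0,2),(0,1),(8,2),(0,1),(14,1),(1,1),(5,1),(5,1),(0,1),
    (0,2),(5,2),(0,1),(7,1),(2,2),(4,2),(3,2),(7,2),(0,1),(6,2),(1,2),(0,2),(0,1),(4,2),(0,1),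
    (0,1),(0,1),(0,2),(1,2),(0,1),(5,1),(0,2),(0,1),(1,1),(0,1),(1,2),(0,2),(0,2),(7,2),(0,2),
    (1,2),(0,2),(0,2),(0,1),(0,1),(0,1),(0,2),(6,1),(0,1),(0,1),(0,2),(0,2),(1,1),(0,1),(0,1),
    (0,2),(6,1),(0,1),(1,2),(0,2),(0,2),(0,1),(0,1),(0,1),(0,2),(0,2),(0,1),(0,1),(0,2),(0,2),
    (0,1),(1,2),(0,2),(0,1),(0,1),(0,1),(0,2),(1,2),(0,1),(6,1),(0,1),(0,1),(0,2),(0,2),(0,2),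
    (0,1),(1,1),(0,2),(3,2),(2,2),(0,1),(1,2),(0,2),(0,2),(0,1),(2,2),(6,1),(0,1)],
   [(3,2),(7,2),(0,1),(9,2),(2,2),(1,2),(3,1),(1,2),(2,2),(6,2),(6,2),(3,2),(3,1),(2,1),(3,1),
    (0,1),(1,1),(5,1),(2,2),(8,1),(7,2),(4,2),(3,2),(2,2),(5,2),(0,2),(0,2),(3,2),(1,1),(0,1),
    (0,2),(1,2),(0,2),(1,1),(0,2),(1,1),(0,2),(0,2),(0,2),(0,2),(0,2),(3,2),(2,1),(1,2),(1,1),
    (0,2),(0,2),(0,2),(0,2),(0,2),(3,2),(2,1),(2,1),(0,1),(0,2),(0,2),(0,2),(0,2),(0,2),(0,2),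
    (0,1),(0,2),(1,1),(0,2),(1,1),(0,2),(0,1),(0,1),(0,2),(1,2),(0,2),(0,2),(3,2),(2,1),(1,1),
    (1,2),(1,1),(1,1),(0,1),(3,1),(2,2),(1,2),(0,1),(0,1),(0,2),(1,2),(0,2),(0,2),(0,1),(0,1),
    (0,1),(1,1),(0,1),(1,2),(0,1),(1,2),(0,1),(0,1),(2,1),(3,1),(1,2),(0,1),(2,2),(0,2),(0,1),
    (0,1),(0,1),(0,1),(0,1)]]

/-- Rows of a matrix. -/
def matB2 : List (List (ℕ × ℕ)) :=
  [[(9,2),(2,1),(0,2),(18,2),(1,2),(0,2),(0,1),(4,1),(0,2),(6,1),(2,2),(4,1),(4,1),(1,1),(0,1),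
    (2,2),(5,1),(0,2),(7,1),(7,1),(4,1),(2,1),(2,2),(0,1),(0,1),(0,2),(5,2),(1,2),(7,1),(0,2),
    (0,1),(0,1),(3,2),(0,2),(0,2),(0,2),(0,1),(0,2),(0,1),(0,2),(1,2),(0,1),(0,1),(0,1),(3,2),
    (0,2),(0,2),(0,2),(0,1),(0,2),(0,1),(0,2),(0,2),(4,1),(0,2),(0,2),(2,2),(0,2),(0,1),(0,2),
    (0,1),(0,2),(1,2),(0,1),(0,2),(0,1),(2,1),(0,1),(0,1),(0,1),(0,1),(0,2),(0,1),(0,2),(0,1),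
    (1,2),(0,1),(0,2),(0,2),(3,2),(0,2),(0,2),(1,1),(0,2),(0,1),(1,2),(0,1),(0,1),(0,1),(0,1),
    (3,2),(1,2),(1,1),(2,2),(1,2),(0,1),(0,2),(0,2),(3,1),(0,1),(0,1),(0,1),(0,2),(0,1),(0,2),
    (0,1),(1,1),(0,2),(0,2),(0,2),(3,1),(0,1),(0,1),(0,1),(0,2),(0,1),(0,2),(0,1)],
   [(0,1),(0,1),(0,2),(2,1),(0,1),(0,1),(6,1),(0,2),(0,2),(0,2),(26,1),(0,2),(0,1),(0,2),(0,1),
    (6,2),(0,1),(21,1),(0,2),(0,2),(0,2),(0,2),(1,2),(0,1),(1,1),(0,2),(0,2),(0,1),(1,2),(14,2),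
    (0,1),(1,1),(5,2),(0,2),(1,2),(8,2),(0,1),(0,1),(0,1),(0,2),(0,2),(0,1),(0,2),(0,1),(0,2),
    (0,2),(0,2),(0,1),(0,1),(0,2),(0,1),(0,1),(0,2),(0,2),(0,2),(0,1),(0,1),(0,2),(0,1),(8,2),
    (0,1),(0,1),(0,1),(0,2),(0,2),(0,1),(0,2),(8,2),(0,1),(0,1),(0,1),(0,2),(0,2),(0,1),(0,2),
    (0,2),(0,1),(0,1),(0,1),(0,2),(0,2),(0,1),(0,2),(0,1),(0,2),(0,2),(0,2),(0,1),(0,1),(0,2),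
    (0,1),(0,1),(0,2),(0,2),(0,2),(0,1),(0,1),(0,2),(0,1),(0,1),(0,2),(0,2),(0,2),(0,1),(0,1),
    (0,2),(0,1),(8,2),(0,1),(0,1),(0,1),(0,2),(0,2),(0,1),(0,2),(8,2),(0,1),(0,1),(0,1),(0,2),
    (0,2),(0,1),(0,2)],
   [(3,1),(6,1),(7,2),(1,2),(2,2),(4,1),(0,1),(1,1),(5,2),(0,1),(2,2),(0,1),(0,2),(8,1),(0,1),
    (8,1),(1,1),(2,1),(4,1),(1,2),(21,2),(2,2),(1,2),(1,1),(0,2),(1,1),(4,1),(1,2),(6,2),(0,1),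
    (0,1),(0,1),(0,2),(0,2),(2,2),(0,2),(0,2),(0,2),(0,2),(1,1),(1,2),(0,1),(1,1),(0,2),(0,1),
    (0,1),(0,1),(3,2),(1,1),(1,1),(0,1),(0,2),(0,2),(0,2),(0,1),(0,2),(1,2),(0,2),(0,1),(0,2),
    (0,2),(0,2),(1,2),(1,2),(0,1),(1,1),(0,2),(0,1),(0,1),(0,1),(0,2),(0,2),(0,1),(0,2),(0,2),
    (1,2),(1,1),(1,2),(0,2),(0,1),(0,2),(0,2),(0,2),(5,1),(1,2),(0,2),(0,1),(0,1),(0,1),(0,2),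
    (0,1),(1,1),(5,1),(1,2),(0,2),(0,1),(0,1),(0,1),(0,2),(0,1),(1,1),(5,2),(1,1),(0,1),(1,2),
    (0,2),(0,1),(0,2),(0,2),(0,2),(5,2),(1,1)],
   [(4,1),(3,2),(0,1),(3,1),(8,1),(3,1),(3,1),(1,2),(4,1),(0,1),(1,1),(2,1),(5,2),(1,1),(0,1),
    (8,1),(0,1),(2,1),(7,2),(9,2),(2,2),(10,1),(0,2),(0,1),(2,1),(8,1),(0,1),(0,1),(7,2),(0,2),
    (0,1),(0,2),(0,1),(0,2),(0,1),(0,1),(0,2),(0,2),(0,2),(0,2),(3,1),(0,1),(0,2),(0,2),(0,1),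
    (0,2),(0,1),(0,2),(1,1),(1,2),(1,1),(0,2),(0,1),(0,1),(0,1),(0,2),(1,1),(0,2),(1,2),(0,1),
    (1,1),(0,1),(0,1),(3,1),(0,1),(0,2),(0,2),(1,2),(1,2),(0,2),(1,2),(0,1),(0,1),(3,1),(0,1),
    (0,2),(0,2),(0,1),(0,2),(0,1),(0,2),(1,1),(3,1),(0,1),(0,1),(0,1),(0,1),(0,2),(0,2),(0,1),
    (0,2),(0,1),(0,2),(1,2),(3,2),(0,2),(0,2),(0,1),(0,1),(0,2),(0,2),(0,1),(0,2),(0,1),(0,2),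
    (0,2),(1,2),(0,2),(0,2),(3,1),(0,1),(0,2),(0,2),(0,1),(0,2),(0,1),(0,2),(0,1),(1,1),(0,1),
    (0,1)],
   [(4,2),(3,1),(2,1),(1,2),(5,2),(4,2),(2,1),(0,1),(0,2),(0,1),(6,2),(0,2),(3,2),(7,1),(6,2),
    (2,1),(0,1),(4,1),(3,1),(2,2),(17,1),(5,2),(2,2),(1,1),(0,1),(7,1),(1,1),(0,1),(5,2),(4,2),
    (0,2),(0,1),(1,2),(0,2),(0,2),(0,1),(0,2),(0,2),(0,2),(0,2),(0,2),(0,2),(0,2),(0,2),(1,1),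
    (1,2),(0,1),(0,1),(0,1),(0,2),(0,1),(0,1),(0,2),(5,2),(1,1),(0,2),(0,1),(0,1),(0,1),(0,2),
    (0,1),(1,1),(4,2),(0,2),(1,2),(1,1),(0,1),(0,1),(0,2),(2,1),(5,1),(1,2),(0,1),(0,2),(0,2),
    (0,2),(1,2),(0,2),(0,2),(5,2),(1,1),(1,2),(0,2),(0,2),(0,1),(0,2),(0,2),(0,2),(5,1),(1,2),
    (0,2),(0,1),(0,1),(0,1),(1,1),(0,1),(0,1),(5,2),(1,1),(1,1),(0,1),(0,1),(0,2),(0,1),(0,1),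
    (0,1)],
   [(3,2),(6,1),(2,2),(5,2),(2,1),(0,1),(0,1),(1,2),(4,2),(0,1),(4,1),(12,2),(0,2),(0,2),(0,2),
    (6,1),(3,1),(2,1),(8,1),(6,2),(2,1),(6,2),(0,2),(0,1),(1,1),(1,1),(4,2),(8,1),(6,1),(0,2),
    (0,2),(0,2),(0,1),(0,2),(1,2),(3,2),(1,2),(0,1),(0,1),(0,2),(1,1),(1,2),(8,1),(1,2),(0,1),
    (1,2),(0,2),(0,1),(0,2),(0,2),(0,2),(0,1),(0,2),(0,2),(0,1),(0,1),(1,1),(0,1),(0,1),(0,2),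
    (0,2),(1,1),(0,2),(0,2),(0,2),(5,1),(1,2),(0,1),(1,2),(0,2),(0,1),(0,2),(0,2),(0,2),(5,1),
    (1,2),(0,2),(0,1),(0,1),(0,1),(0,2),(0,1),(1,1),(5,1),(1,2),(0,2),(0,1),(0,1),(0,1),(0,2),
    (0,1),(1,1),(5,2),(1,1),(0,1),(1,2),(0,2),(0,1),(0,2),(0,2),(0,2),(5,2),(1,1)],
   [(3,2),(14,2),(3,1),(0,2),(1,1),(0,2),(0,1),(0,2),(1,1),(3,2),(14,1),(1,2),(8,2),(0,1),(0,2),
    (5,1),(4,2),(2,1),(0,1),(5,1),(2,2),(7,1),(4,1),(0,1),(4,2),(0,1),(2,2),(3,2),(6,2),(0,1),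
    (0,1),(0,1),(1,2),(1,2),(0,1),(0,2),(0,2),(0,1),(0,2),(0,2),(0,1),(0,1),(1,2),(0,2),(1,1),
    (0,1),(0,2),(0,1),(4,2),(0,1),(2,1),(1,2),(0,2),(0,1),(1,2),(0,1),(3,2),(2,1),(1,1),(0,2),
    (1,2),(0,1),(0,1),(0,2),(10,2),(0,2),(0,2),(0,1),(0,1),(1,1),(8,1),(0,2),(0,2),(0,2),(1,1),
    (1,1),(10,2),(0,2),(0,1),(0,1),(0,2),(0,1),(8,1),(1,2),(0,2),(1,1),(0,2),(0,1)],
   [(4,1),(8,1),(5,2),(0,2),(1,2),(1,2),(2,2),(0,1),(3,1),(0,1),(2,2),(4,2),(0,2),(7,1),(0,2),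
    (1,1),(5,1),(9,1),(5,2),(0,1),(0,2),(15,1),(3,1),(1,1),(0,1),(0,1),(9,2),(2,1),(5,1),(0,2),
    (0,1),(0,1),(0,1),(0,1),(0,2),(1,2),(0,1),(0,1),(1,1),(0,2),(0,1),(0,1),(0,1),(0,2),(0,1),
    (0,1),(1,1),(0,2),(0,1),(2,1),(0,2),(4,2),(0,1),(4,1),(3,1),(0,2),(4,1),(0,2),(0,1),(0,1),
    (0,1),(1,2),(0,1),(2,1),(0,2),(0,2),(2,1),(0,2),(0,1),(0,2),(0,2),(0,2),(1,1),(0,2),(2,1),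
    (0,2),(4,1),(0,2),(0,1),(0,1),(0,1),(1,2),(0,1),(2,2),(0,1),(4,2),(0,1),(0,2),(0,2),(0,2),
    (0,2),(0,1),(3,1),(0,2),(4,1),(0,2),(0,1),(0,1),(0,1),(0,1),(0,2),(3,2),(0,1)],
   [(3,1),(5,2),(0,2),(2,1),(6,2),(3,1),(0,2),(7,1),(2,1),(15,2),(0,2),(12,1),(3,1),(2,1),(3,2),
    (8,2),(4,2),(1,2),(0,1),(0,1),(2,2),(4,2),(0,2),(4,2),(2,1),(0,2),(1,1),(2,2),(1,2),(0,1),
    (0,2),(0,1),(0,1),(0,1),(0,2),(0,2),(2,1),(1,2),(0,1),(0,2),(1,1),(1,1),(0,2),(0,2),(1,1),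
    (0,1),(2,1),(1,1),(0,2),(0,2),(2,1),(1,1),(0,1),(0,1),(0,2),(0,2),(2,2),(1,1),(0,2),(0,1),
    (1,2),(0,1),(0,2),(0,1),(0,1),(0,1),(0,2),(0,2),(0,1),(0,2),(1,1),(3,2),(0,1),(1,1),(0,2),
    (1,2),(0,1),(0,1),(0,2),(0,1),(0,1),(0,1),(0,2),(2,2),(0,1),(0,2),(0,1),(0,2),(0,2),(0,2),
    (0,1),(0,1),(2,2),(1,1),(0,2),(0,1),(1,1),(0,2),(0,1),(0,2),(0,2),(0,2),(0,1),(0,1),(0,2),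
    (0,1),(1,2),(3,1),(1,2),(0,1),(0,2),(0,2),(0,2),(1,1),(2,2),(1,2),(0,1),(0,1)],
   [(8,1),(1,2),(0,2),(9,2),(3,1),(0,1),(3,1),(4,2),(1,1),(0,2),(1,1),(11,1),(1,1),(16,1),(1,1),
    (0,1),(11,2),(4,1),(2,2),(0,1),(0,2),(1,1),(3,2),(1,2),(0,1),(0,1),(5,2),(2,1),(4,1),(2,1),
    (0,2),(0,2),(0,2),(0,1),(0,1),(0,1),(4,2),(0,2),(0,2),(0,1),(1,2),(0,1),(0,1),(1,2),(0,1),
    (0,1),(4,1),(0,1),(0,2),(0,1),(0,2),(0,2),(0,1),(0,1),(0,1),(0,2),(0,2),(0,1),(4,2),(0,1),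
    (0,1),(0,2),(0,1),(0,1),(0,2),(0,2),(0,2),(0,1),(0,2),(0,2),(4,2),(0,2),(0,1),(0,2),(0,1),
    (0,1),(0,2),(0,2),(0,2),(0,1),(0,2),(0,1),(0,1),(3,1),(0,1),(0,2),(0,1),(1,2),(0,1),(0,1),
    (0,1),(1,2),(0,2),(4,1),(0,1),(0,2),(0,1),(0,2),(0,2),(0,1),(0,1),(0,1),(0,2),(0,1),(0,2),
    (4,1),(0,2),(1,1),(1,2),(0,1),(0,1),(0,1),(0,2),(2,2),(0,1),(0,2),(0,2),(1,2)],
   [(3,2),(4,2),(0,1),(2,2),(0,1),(7,2),(3,2),(7,1),(4,2),(0,2),(2,2),(8,2),(0,2),(11,1),(7,1),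
    (2,1),(0,2),(6,2),(2,2),(8,2),(1,2),(4,2),(1,1),(0,2),(6,2),(0,1),(0,2),(0,1),(7,2),(0,2),
    (3,1),(1,2),(0,1),(1,1),(0,2),(4,1),(0,1),(3,2),(0,1),(0,1),(0,2),(0,1),(0,2),(1,2),(2,1),
    (0,1),(0,2),(3,1),(0,2),(0,2),(0,1),(0,2),(1,2),(0,1),(3,1),(0,1),(4,1),(0,1),(0,2),(0,1),
    (0,2),(0,1),(0,2),(3,1),(0,1),(3,1),(0,2),(0,2),(0,1),(0,2),(1,2),(0,1),(3,1),(0,1),(4,1),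
    (1,2),(1,2),(0,1),(0,2),(3,1),(0,1),(0,2),(0,2),(2,2),(0,2),(0,1),(0,2),(0,1),(0,2),(0,1),
    (0,2),(0,1),(0,2),(2,1),(0,2),(0,2),(0,1),(0,2),(0,2),(0,1),(0,2),(1,2),(0,1)],
   [(3,2),(5,1),(0,1),(1,1),(7,1),(1,1),(0,2),(0,2),(7,2),(1,2),(6,2),(0,2),(11,2),(2,2),(0,1),
    (6,2),(0,2),(1,2),(1,1),(0,1),(1,1),(2,1),(21,2),(3,1),(1,1),(4,2),(1,1),(3,2),(4,2),(0,1),
    (0,2),(0,2),(0,1),(0,2),(0,1),(0,1),(0,2),(0,1),(3,1),(0,2),(1,2),(0,1),(0,2),(0,2),(1,2),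
    (1,1),(0,2),(0,2),(3,1),(0,1),(1,1),(0,2),(0,1),(0,1),(0,2),(0,1),(0,2),(0,2),(2,1),(0,2),
    (0,2),(2,1),(0,1),(1,1),(0,1),(1,1),(0,2),(0,2),(2,1),(0,2),(0,2),(2,1),(0,2),(0,1),(0,2),
    (0,2),(0,1),(0,2),(0,1),(0,1),(0,2),(0,1),(3,1),(0,2),(2,1),(1,2),(0,1),(0,2),(0,1),(0,1),
    (0,2),(0,1),(1,1),(1,2),(0,1),(0,2),(0,1),(0,2),(0,1),(0,1),(0,2),(0,1),(0,2),(0,2),(2,1),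
    (0,2),(0,2),(2,1),(0,2),(0,1),(1,2),(0,1),(1,1),(0,1),(0,1),(0,1),(3,2),(0,2)],
   [(3,1),(4,2),(0,1),(0,1),(0,1),(9,1),(2,2),(1,2),(1,1),(1,2),(1,1),(0,1),(5,1),(0,2),(13,1),
    (3,2),(1,2),(0,1),(0,1),(1,2),(6,1),(2,1),(0,1),(1,1),(13,2),(1,2),(2,2),(4,2),(18,1),(0,1),
    (0,1),(1,1),(0,1),(0,1),(1,2),(2,1),(0,1),(0,1),(2,1),(0,1),(0,1),(0,2),(0,1),(0,1),(0,1),
    (0,2),(0,2),(0,2),(0,1),(3,1),(0,2),(0,2),(0,2),(0,2),(0,1),(0,2),(0,2),(0,2),(0,1),(1,2),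
    (0,1),(3,2),(0,2),(0,1),(0,1),(0,1),(0,2),(0,1),(0,1),(0,1),(0,2),(1,2),(0,2),(3,1),(0,2),
    (1,2),(0,2),(0,1),(0,2),(0,2),(1,1),(1,2),(0,2),(3,1),(0,2),(0,2),(1,2),(1,2),(0,2),(0,2),
    (0,1),(0,1),(2,2),(0,2),(0,2),(2,2),(0,2),(0,2),(0,1),(0,2),(0,2),(0,2),(0,1),(1,2),(0,1),
    (3,2),(0,2),(1,2),(1,1),(0,2),(0,2),(0,2),(0,1),(0,1),(0,1),(1,1),(0,2),(0,2)],
   [(4,1),(13,1),(7,1),(0,2),(1,2),(3,2),(2,1),(1,1),(4,2),(9,1),(5,1),(0,1),(1,2),(6,2),(2,1),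
    (1,1),(0,1),(1,2),(5,1),(2,1),(7,1),(0,1),(0,1),(2,1),(0,1),(2,1),(2,1),(7,1),(5,1),(0,2),
    (1,2),(0,1),(0,1),(0,2),(1,1),(1,2),(0,2),(5,1),(0,2),(0,2),(0,2),(0,2),(0,1),(0,2),(2,2),
    (0,2),(3,1),(1,2),(0,1),(0,1),(0,1),(0,1),(0,2),(0,1),(2,1),(0,1),(1,2),(2,1),(0,2),(0,1),
    (0,1),(0,1),(0,1),(0,2),(1,2),(0,2),(2,1),(0,2),(0,2),(0,2),(0,1),(0,2),(0,1),(0,1),(0,1),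
    (1,2),(0,1),(2,2),(0,1),(4,2),(0,1),(0,2),(0,2),(0,2),(1,1),(0,2),(2,1),(0,2),(4,1),(0,2),
    (0,1),(0,1),(0,1),(0,1),(0,2),(3,2),(0,1),(4,2),(0,1),(0,2),(0,2),(0,2),(0,2),(0,1),(3,1),
    (0,2)],
   [(3,1),(4,2),(2,1),(0,2),(6,1),(1,2),(3,2),(0,1),(6,2),(7,1),(1,2),(5,2),(4,1),(2,1),(9,1),
    (0,1),(0,1),(2,2),(0,1),(2,1),(18,2),(0,1),(0,2),(0,1),(1,2),(3,1),(6,1),(3,1),(4,2),(0,2),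
    (2,2),(2,1),(0,2),(0,1),(0,2),(0,2),(0,2),(0,1),(0,2),(0,2),(0,2),(1,1),(0,2),(1,2),(0,1),
    (1,2),(0,1),(0,2),(0,2),(0,2),(1,2),(1,1),(0,2),(2,2),(2,2),(0,2),(0,1),(0,2),(0,2),(0,2),
    (0,1),(0,2),(0,2),(2,1),(0,2),(1,1),(0,1),(1,2),(0,1),(0,2),(0,2),(0,2),(0,1),(0,2),(0,2),
    (0,2),(0,2),(2,2),(2,1),(0,2),(0,1),(0,2),(0,2),(0,2),(0,1),(0,2),(0,2),(2,2),(0,2),(0,1),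
    (0,2),(0,2),(1,2),(1,2),(1,2),(0,1),(0,2),(0,2),(0,1),(0,2),(2,2),(2,2),(0,2),(0,1),(0,2),
    (0,2),(0,2),(0,1),(0,2),(0,2),(0,1),(0,1),(2,1),(2,2),(1,2),(0,1),(3,1),(0,1)],
   [(4,1),(3,1),(0,2),(2,1),(5,1),(1,2),(4,2),(2,1),(5,1),(4,2),(0,1),(0,2),(0,2),(0,2),(5,2),
    (7,2),(0,1),(2,2),(6,1),(0,2),(0,2),(3,1),(0,2),(1,1),(13,2),(4,1),(1,2),(16,1),(4,1),(1,2),
    (1,2),(0,1),(0,1),(0,2),(0,2),(0,2),(1,2),(0,2),(0,2),(0,1),(0,2),(1,1),(1,2),(4,2),(0,2),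
    (1,2),(0,2),(0,2),(0,1),(0,2),(1,2),(1,1),(4,2),(0,2),(0,1),(0,2),(1,2),(0,1),(0,2),(0,1),
    (1,1),(1,2),(0,2),(0,2),(0,1),(1,2),(0,1),(0,2),(0,2),(0,2),(0,1),(0,2),(1,1),(1,1),(1,2),
    (3,1),(0,2),(0,1),(0,1),(0,1),(0,2),(0,1),(0,1),(1,1),(1,1),(0,1),(0,1),(0,2),(0,1),(1,2),
    (0,1),(0,1),(0,1),(3,2),(1,1),(4,2),(0,2),(0,1),(0,2),(1,2),(0,1),(0,2),(1,1),(1,2),(4,1),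
    (0,1),(0,2),(1,1),(0,1)],
   [(0,1),(0,1),(0,2),(2,2),(0,2),(0,2),(6,1),(0,2),(0,1),(0,1),(26,2),(0,2),(0,2),(0,1),(0,2),
    (6,1),(0,1),(6,1),(15,1),(0,2),(0,2),(0,2),(1,2),(0,2),(1,1),(0,1),(0,2),(0,1),(1,2),(14,1),
    (0,1),(1,1),(5,1),(0,1),(1,2),(8,2),(0,1),(0,1),(0,1),(0,2),(0,2),(0,1),(0,2),(0,1),(0,2),
    (0,2),(0,2),(0,1),(0,1),(0,2),(0,1),(0,1),(0,2),(0,2),(0,2),(0,1),(0,1),(0,2),(0,1),(0,2),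
    (0,1),(0,1),(0,1),(0,2),(0,2),(0,1),(0,2),(0,1),(0,2),(0,2),(0,2),(0,1),(0,1),(0,2),(0,1),
    (0,1),(0,2),(0,2),(0,2),(0,1),(0,1),(0,2),(0,1),(0,1),(0,2),(0,2),(0,2),(0,1),(0,1),(0,2),
    (0,1),(8,2),(0,1),(0,1),(0,1),(0,2),(0,2),(0,1),(0,2),(8,2),(0,1),(0,1),(0,1),(0,2),(0,2),
    (0,1),(0,2),(8,2),(0,1),(0,1),(0,1),(0,2),(0,2),(0,1),(0,2),(8,2),(0,1),(0,1),(0,1),(0,2),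
    (0,2),(0,1),(0,2)],
   [(0,1),(0,2),(0,2),(2,1),(0,2),(0,2),(6,2),(0,2),(0,1),(0,2),(26,2),(0,2),(0,2),(0,2),(0,2),
    (6,1),(0,1),(6,2),(14,1),(1,2),(0,2),(0,1),(1,1),(0,2),(1,2),(0,1),(0,1),(0,1),(1,1),(14,2),
    (0,2),(1,2),(5,2),(0,2),(1,2),(8,2),(0,1),(0,1),(0,1),(0,2),(0,2),(0,1),(0,2),(0,2),(0,1),
    (0,1),(0,1),(0,2),(0,2),(0,1),(0,2),(0,1),(0,2),(0,2),(0,2),(0,1),(0,1),(0,2),(0,1),(0,1),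
    (0,2),(0,2),(0,2),(0,1),(0,1),(0,2),(0,1),(0,1),(0,2),(0,2),(0,2),(0,1),(0,1),(0,2),(0,1),
    (0,1),(0,2),(0,2),(0,2),(0,1),(0,1),(0,2),(0,1),(0,1),(0,2),(0,2),(0,2),(0,1),(0,1),(0,2),
    (0,1),(8,2),(0,1),(0,1),(0,1),(0,2),(0,2),(0,1),(0,2),(8,2),(0,1),(0,1),(0,1),(0,2),(0,2),
    (0,1),(0,2),(8,2),(0,1),(0,1),(0,1),(0,2),(0,2),(0,1),(0,2),(8,2),(0,1),(0,1),(0,1),(0,2),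
    (0,2),(0,1),(0,2)],
   [(0,2),(0,1),(0,1),(2,2),(0,1),(0,1),(6,2),(0,2),(0,2),(0,2),(26,1),(0,1),(0,2),(0,1),(0,2),
    (6,1),(0,1),(6,2),(14,2),(0,2),(1,1),(0,1),(1,1),(0,1),(1,2),(0,1),(0,2),(0,1),(1,2),(14,1),
    (0,2),(1,1),(5,1),(0,2),(1,2),(8,1),(0,2),(0,2),(0,2),(0,1),(0,1),(0,2),(0,1),(0,2),(0,1),
    (0,1),(0,1),(0,2),(0,2),(0,1),(0,2),(0,2),(0,1),(0,1),(0,1),(0,2),(0,2),(0,1),(0,2),(0,2),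
    (0,1),(0,1),(0,1),(0,2),(0,2),(0,1),(0,2),(0,2),(0,1),(0,1),(0,1),(0,2),(0,2),(0,1),(0,2),
    (0,1),(0,2),(0,2),(0,2),(0,1),(0,1),(0,2),(0,1),(0,2),(0,1),(0,1),(0,1),(0,2),(0,2),(0,1),
    (0,2),(8,1),(0,2),(0,2),(0,2),(0,1),(0,1),(0,2),(0,1),(8,1),(0,2),(0,2),(0,2),(0,1),(0,1),
    (0,2),(0,1),(8,1),(0,2),(0,2),(0,2),(0,1),(0,1),(0,2),(0,1),(8,1),(0,2),(0,2),(0,2),(0,1),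
    (0,1),(0,2),(0,1)],
   [(0,1),(0,1),(0,2),(2,1),(0,1),(0,2),(6,2),(0,1),(0,2),(0,1),(26,2),(0,1),(0,1),(0,1),(0,1),
    (6,1),(0,2),(6,2),(14,2),(0,2),(0,1),(1,1),(1,1),(0,1),(1,1),(0,1),(0,2),(0,1),(1,1),(14,1),
    (0,1),(1,2),(5,2),(0,1),(1,2),(0,1),(0,2),(0,2),(0,2),(0,1),(0,1),(0,2),(0,1),(0,1),(0,2),
    (0,2),(0,2),(0,1),(0,1),(0,2),(0,1),(8,2),(0,1),(0,1),(0,1),(0,2),(0,2),(0,1),(0,2),(8,2),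
    (0,1),(0,1),(0,1),(0,2),(0,2),(0,1),(0,2),(8,2),(0,1),(0,1),(0,1),(0,2),(0,2),(0,1),(0,2),
    (8,2),(0,1),(0,1),(0,1),(0,2),(0,2),(0,1),(0,2),(8,2),(0,1),(0,1),(0,1),(0,2),(0,2),(0,1),
    (0,2),(24,2),(0,1),(0,1),(0,1),(0,2),(0,2),(0,1),(0,2)],
   [(0,1),(0,2),(0,2),(2,1),(0,2),(0,1),(6,2),(0,2),(0,1),(0,2),(26,1),(0,1),(0,1),(0,1),(0,1),
    (6,1),(0,1),(6,2),(14,2),(0,1),(0,1),(0,1),(2,1),(0,2),(1,1),(0,1),(0,1),(0,2),(1,2),(14,1),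
    (0,1),(1,1),(5,2),(0,2),(1,1),(8,2),(0,1),(0,1),(0,1),(0,2),(0,2),(0,1),(0,2),(0,2),(0,1),
    (0,1),(0,1),(0,2),(0,2),(0,1),(0,2),(0,1),(0,2),(0,2),(0,2),(0,1),(0,1),(0,2),(0,1),(8,2),
    (0,1),(0,1),(0,1),(0,2),(0,2),(0,1),(0,2),(8,2),(0,1),(0,1),(0,1),(0,2),(0,2),(0,1),(0,2),
    (8,2),(0,1),(0,1),(0,1),(0,2),(0,2),(0,1),(0,2),(8,2),(0,1),(0,1),(0,1),(0,2),(0,2),(0,1),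
    (0,2),(0,1),(0,2),(0,2),(0,2),(0,1),(0,1),(0,2),(0,1),(0,1),(0,2),(0,2),(0,2),(0,1),(0,1),
    (0,2),(0,1),(0,1),(0,2),(0,2),(0,2),(0,1),(0,1),(0,2),(0,1),(0,1),(0,2),(0,2),(0,2),(0,1),
    (0,1),(0,2),(0,1)],
   [(4,1),(3,2),(1,1),(1,2),(6,2),(1,2),(2,1),(4,1),(3,1),(6,1),(13,2),(4,2),(0,1),(1,1),(2,2),
    (1,2),(0,1),(3,2),(2,1),(7,1),(10,2),(1,2),(1,2),(1,2),(0,1),(7,1),(3,1),(4,2),(1,2),(0,2),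
    (0,2),(0,1),(0,1),(0,2),(0,2),(0,2),(1,2),(0,1),(1,1),(1,1),(1,1),(0,1),(0,1),(0,2),(0,2),
    (0,1),(0,1),(0,1),(1,2),(0,2),(1,1),(0,1),(0,1),(1,1),(0,1),(2,2),(0,1),(0,1),(0,1),(0,2),
    (2,1),(1,1),(1,1),(0,2),(0,2),(0,2),(0,1),(0,1),(0,2),(0,2),(0,2),(0,2),(2,2),(1,2),(1,1),
    (1,1),(1,2),(0,2),(2,1),(0,2),(2,2),(1,2),(1,1),(0,2),(0,2),(0,2),(0,1),(0,1),(0,2),(2,1),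
    (2,2),(1,2),(1,2),(0,2),(0,2),(0,2),(0,1),(0,1),(0,2),(0,2),(0,2),(0,1),(0,2),(0,1),(1,1),
    (1,2),(1,2),(0,2),(0,2),(0,1),(0,1),(0,2),(0,2),(0,2),(0,2),(2,2),(1,2),(1,1)],
   [(0,1),(0,1),(0,2),(2,2),(0,2),(0,1),(6,2),(0,1),(0,1),(0,2),(26,1),(0,1),(0,2),(0,2),(0,2),
    (6,2),(0,2),(6,2),(14,2),(0,1),(0,1),(0,1),(0,1),(2,2),(1,1),(0,2),(0,2),(0,1),(1,1),(14,2),
    (0,1),(1,2),(5,1),(0,2),(1,2),(8,2),(0,1),(0,1),(0,1),(0,2),(0,2),(0,1),(0,2),(0,2),(0,1),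
    (0,1),(0,1),(0,2),(0,2),(0,1),(0,2),(0,1),(0,2),(0,2),(0,2),(0,1),(0,1),(0,2),(0,1),(8,2),
    (0,1),(0,1),(0,1),(0,2),(0,2),(0,1),(0,2),(8,2),(0,1),(0,1),(0,1),(0,2),(0,2),(0,1),(0,2),
    (8,2),(0,1),(0,1),(0,1),(0,2),(0,2),(0,1),(0,2),(8,2),(0,1),(0,1),(0,1),(0,2),(0,2),(0,1),
    (0,2),(0,2),(0,1),(0,1),(0,1),(0,2),(0,2),(0,1),(0,2),(0,1),(0,2),(0,2),(0,2),(0,1),(0,1),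
    (0,2),(0,1),(0,2),(0,1),(0,1),(0,1),(0,2),(0,2),(0,1),(0,2),(0,1),(0,2),(0,2),(0,2),(0,1),
    (0,1),(0,2),(0,1)],
   [(0,1),(0,2),(0,2),(2,2),(0,1),(0,2),(6,1),(0,1),(0,2),(0,2),(26,2),(0,1),(0,1),(0,2),(0,1),
    (6,1),(0,2),(6,1),(14,2),(0,2),(0,1),(0,1),(0,2),(1,2),(2,2),(0,1),(0,1),(0,1),(1,2),(14,2),
    (0,2),(1,1),(5,1),(0,2),(1,2),(0,1),(0,2),(0,2),(0,2),(0,1),(0,1),(0,2),(0,1),(0,1),(0,2),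
    (0,2),(0,2),(0,1),(0,1),(0,2),(0,1),(8,2),(0,1),(0,1),(0,1),(0,2),(0,2),(0,1),(0,2),(8,2),
    (0,1),(0,1),(0,1),(0,2),(0,2),(0,1),(0,2),(8,2),(0,1),(0,1),(0,1),(0,2),(0,2),(0,1),(0,2),
    (8,2),(0,1),(0,1),(0,1),(0,2),(0,2),(0,1),(0,2),(24,2),(0,1),(0,1),(0,1),(0,2),(0,2),(0,1),
    (0,2),(8,2),(0,1),(0,1),(0,1),(0,2),(0,2),(0,1),(0,2)],
   [(10,2),(2,1),(5,1),(0,2),(2,2),(3,1),(2,1),(1,2),(0,1),(1,2),(3,2),(0,1),(1,2),(0,1),(14,2),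
    (1,2),(0,1),(3,2),(1,1),(0,2),(1,2),(0,2),(0,2),(2,1),(10,1),(9,2),(12,2),(5,1),(4,1),(0,2),
    (0,2),(0,1),(0,2),(0,2),(0,2),(0,2),(0,2),(0,2),(0,1),(3,2),(1,1),(0,2),(0,2),(0,1),(0,2),
    (0,2),(0,2),(0,2),(3,2),(0,2),(0,1),(1,2),(0,2),(0,1),(2,1),(0,1),(0,1),(0,1),(0,2),(0,2),
    (0,2),(3,1),(1,2),(0,1),(0,1),(0,2),(0,1),(0,1),(0,1),(0,1),(3,1),(0,2),(0,1),(0,1),(0,2),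
    (0,1),(0,2),(0,2),(0,1),(0,2),(0,2),(0,2),(0,2),(0,2),(0,2),(0,1),(3,2),(1,1),(0,2),(0,2),
    (0,1),(0,2),(0,2),(0,2),(0,2),(3,2),(0,2),(0,1),(1,2),(0,1),(1,2),(0,1),(0,2),(1,2),(0,2),
    (3,2),(0,2),(0,1),(1,2),(0,2),(2,2),(1,1),(0,1),(1,2),(2,2),(0,2),(0,2),(1,2)],
   [(0,1),(0,1),(0,2),(2,2),(0,2),(0,1),(6,1),(0,1),(0,2),(0,1),(26,1),(0,1),(0,2),(0,1),(0,1),
    (6,1),(0,1),(6,1),(14,1),(0,2),(0,2),(0,1),(0,1),(1,1),(0,2),(2,2),(0,1),(0,1),(1,1),(14,2),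
    (0,1),(1,1),(5,2),(0,1),(1,1),(8,2),(0,1),(0,1),(0,1),(0,2),(0,2),(0,1),(0,2),(0,1),(0,2),
    (0,2),(0,2),(0,1),(0,1),(0,2),(0,1),(0,1),(0,2),(0,2),(0,2),(0,1),(0,1),(0,2),(0,1),(8,2),
    (0,1),(0,1),(0,1),(0,2),(0,2),(0,1),(0,2),(8,2),(0,1),(0,1),(0,1),(0,2),(0,2),(0,1),(0,2),
    (8,2),(0,1),(0,1),(0,1),(0,2),(0,2),(0,1),(0,2),(8,2),(0,1),(0,1),(0,1),(0,2),(0,2),(0,1),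
    (0,2),(0,2),(0,1),(0,1),(0,1),(0,2),(0,2),(0,1),(0,2),(0,1),(0,2),(0,2),(0,2),(0,1),(0,1),
    (0,2),(0,1),(0,1),(0,2),(0,2),(0,2),(0,1),(0,1),(0,2),(0,1),(0,1),(0,2),(0,2),(0,2),(0,1),
    (0,1),(0,2),(0,1)],
   [(0,1),(0,2),(0,1),(2,1),(0,2),(0,1),(6,1),(0,1),(0,2),(0,2),(26,2),(0,2),(0,1),(0,1),(0,2),
    (6,1),(0,1),(6,2),(14,1),(0,1),(0,1),(0,1),(0,1),(1,2),(0,1),(1,2),(1,1),(0,1),(1,2),(14,1),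
    (0,1),(1,2),(5,1),(0,1),(1,2),(8,2),(0,1),(0,1),(0,1),(0,2),(0,2),(0,1),(0,2),(8,2),(0,1),
    (0,1),(0,1),(0,2),(0,2),(0,1),(0,2),(8,2),(0,1),(0,1),(0,1),(0,2),(0,2),(0,1),(0,2),(0,1),
    (0,2),(0,2),(0,2),(0,1),(0,1),(0,2),(0,1),(0,1),(0,2),(0,2),(0,2),(0,1),(0,1),(0,2),(0,1),
    (8,2),(0,1),(0,1),(0,1),(0,2),(0,2),(0,1),(0,2),(0,2),(0,1),(0,1),(0,1),(0,2),(0,2),(0,1),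
    (0,2),(0,1),(0,2),(0,2),(0,2),(0,1),(0,1),(0,2),(0,1),(0,1),(0,2),(0,2),(0,2),(0,1),(0,1),
    (0,2),(0,1),(0,1),(0,2),(0,2),(0,2),(0,1),(0,1),(0,2),(0,1),(8,2),(0,1),(0,1),(0,1),(0,2),
    (0,2),(0,1),(0,2)],
   [(0,1),(0,2),(0,1),(2,1),(0,2),(0,2),(6,1),(0,1),(0,2),(0,2),(26,1),(0,1),(0,2),(0,2),(0,1),
    (6,1),(0,1),(6,2),(14,2),(0,1),(0,2),(0,2),(0,1),(1,2),(0,1),(1,1),(0,1),(1,2),(1,1),(14,2),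
    (0,2),(1,1),(5,1),(0,1),(1,1),(8,2),(0,1),(0,1),(0,1),(0,2),(0,2),(0,1),(0,2),(8,2),(0,1),
    (0,1),(0,1),(0,2),(0,2),(0,1),(0,2),(0,1),(0,2),(0,2),(0,2),(0,1),(0,1),(0,2),(0,1),(0,1),
    (0,2),(0,2),(0,2),(0,1),(0,1),(0,2),(0,1),(8,2),(0,1),(0,1),(0,1),(0,2),(0,2),(0,1),(0,2),
    (8,2),(0,1),(0,1),(0,1),(0,2),(0,2),(0,1),(0,2),(0,2),(0,1),(0,1),(0,1),(0,2),(0,2),(0,1),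
    (0,2),(0,1),(0,2),(0,2),(0,2),(0,1),(0,1),(0,2),(0,1),(8,2),(0,1),(0,1),(0,1),(0,2),(0,2),
    (0,1),(0,2),(0,1),(0,2),(0,2),(0,2),(0,1),(0,1),(0,2),(0,1),(0,1),(0,2),(0,2),(0,2),(0,1),
    (0,1),(0,2),(0,1)],
   [(0,1),(0,1),(0,1),(2,2),(0,2),(0,1),(6,2),(0,1),(0,2),(0,1),(26,2),(0,2),(0,1),(0,2),(0,2),
    (6,1),(0,1),(6,1),(14,1),(0,1),(0,1),(0,1),(0,2),(1,1),(0,1),(1,1),(0,1),(0,2),(2,1),(14,2),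
    (0,2),(1,1),(5,2),(0,2),(1,2),(8,2),(0,1),(0,1),(0,1),(0,2),(0,2),(0,1),(0,2),(8,2),(0,1),
    (0,1),(0,1),(0,2),(0,2),(0,1),(0,2),(8,2),(0,1),(0,1),(0,1),(0,2),(0,2),(0,1),(0,2),(0,1),
    (0,2),(0,2),(0,2),(0,1),(0,1),(0,2),(0,1),(0,1),(0,2),(0,2),(0,2),(0,1),(0,1),(0,2),(0,1),
    (8,2),(0,1),(0,1),(0,1),(0,2),(0,2),(0,1),(0,2),(0,1),(0,2),(0,2),(0,2),(0,1),(0,1),(0,2),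
    (0,1),(0,1),(0,2),(0,2),(0,2),(0,1),(0,1),(0,2),(0,1),(0,2),(0,1),(0,1),(0,1),(0,2),(0,2),
    (0,1),(0,2),(0,1),(0,2),(0,2),(0,2),(0,1),(0,1),(0,2),(0,1),(8,2),(0,1),(0,1),(0,1),(0,2),
    (0,2),(0,1),(0,2)],
   [(4,1),(6,1),(6,1),(0,1),(3,2),(2,2),(1,2),(1,2),(0,2),(0,1),(1,1),(8,2),(5,2),(7,2),(1,2),
    (0,2),(1,1),(3,1),(3,2),(0,1),(2,2),(2,2),(13,1),(1,2),(0,1),(3,2),(1,1),(2,2),(16,2),(0,1),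
    (0,1),(0,1),(0,1),(0,2),(0,2),(1,2),(0,1),(0,1),(0,1),(0,2),(0,1),(1,1),(0,1),(0,2),(0,1),
    (0,1),(0,1),(1,1),(1,2),(1,1),(0,1),(1,1),(0,1),(6,1),(1,2),(0,2),(0,1),(0,1),(0,1),(1,1),
    (0,1),(0,1),(0,2),(0,1),(0,2),(0,2),(0,1),(1,1),(1,1),(1,2),(0,2),(0,1),(2,2),(5,1),(1,2),
    (0,1),(0,2),(0,2),(0,2),(1,2),(0,2),(0,2),(5,2),(1,1),(1,2),(0,2),(0,2),(0,1),(0,2),(0,2),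
    (0,2),(5,1),(1,2),(0,2),(0,1),(0,1),(0,1),(1,1),(0,1),(0,1),(5,2),(1,1),(1,1),(0,1),(0,1),
    (0,2),(0,1),(0,1),(0,1)],
   [(0,1),(0,1),(0,1),(2,1),(0,1),(0,2),(6,1),(0,1),(0,2),(0,1),(26,1),(0,2),(0,2),(0,2),(0,2),
    (6,1),(0,2),(6,2),(14,2),(0,1),(0,2),(0,1),(0,2),(1,1),(0,2),(1,1),(0,2),(0,1),(0,1),(16,1),
    (0,2),(1,2),(5,2),(0,2),(1,1),(8,2),(0,1),(0,1),(0,1),(0,2),(0,2),(0,1),(0,2),(8,2),(0,1),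
    (0,1),(0,1),(0,2),(0,2),(0,1),(0,2),(0,1),(0,2),(0,2),(0,2),(0,1),(0,1),(0,2),(0,1),(0,1),
    (0,2),(0,2),(0,2),(0,1),(0,1),(0,2),(0,1),(8,2),(0,1),(0,1),(0,1),(0,2),(0,2),(0,1),(0,2),
    (0,1),(0,2),(0,2),(0,2),(0,1),(0,1),(0,2),(0,1),(0,1),(0,2),(0,2),(0,2),(0,1),(0,1),(0,2),
    (0,1),(8,2),(0,1),(0,1),(0,1),(0,2),(0,2),(0,1),(0,2),(0,2),(0,1),(0,1),(0,1),(0,2),(0,2),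
    (0,1),(0,2),(0,1),(0,2),(0,2),(0,2),(0,1),(0,1),(0,2),(0,1),(8,2),(0,1),(0,1),(0,1),(0,2),
    (0,2),(0,1),(0,2)]]

/-- Rows of a matrix. -/
def matB3 : List (List (ℕ × ℕ)) :=
  [[(9,1),(1,1),(0,1),(0,2),(15,2),(1,2),(3,2),(0,1),(0,1),(2,2),(0,1),(1,2),(8,2),(14,2),(1,1),
    (0,2),(3,2),(16,2),(1,1),(1,1),(0,2),(1,2),(2,2),(2,2),(6,1),(2,2),(0,1),(2,2),(1,2),(0,1),
    (0,2),(0,1),(1,2),(4,2),(4,2),(0,1),(0,2),(0,1),(0,2),(1,1),(0,2),(0,2),(2,1),(4,1),(0,2),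
    (1,2),(0,1),(0,2),(0,2),(0,1),(0,1),(2,1),(4,1),(0,2),(0,1),(0,2),(1,2),(0,2),(0,1),(0,1),
    (0,1),(0,1),(1,1),(0,1),(0,1),(0,1),(1,2),(1,2),(0,1),(0,2),(0,2),(0,1),(0,1),(2,1),(3,1),
    (0,2),(0,2),(0,1),(1,1),(1,2),(1,1),(0,2),(0,2),(1,1),(0,1),(0,2),(0,2),(1,2),(0,1),(0,2),
    (0,1),(1,2),(0,1),(0,1),(2,2),(4,2),(0,2),(0,1),(0,2),(1,2),(0,2),(0,1),(0,1),(0,2),(0,1),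
    (1,2),(0,1),(0,2),(0,2)],
   [(10,1),(1,1),(0,2),(14,1),(0,1),(5,2),(0,2),(0,1),(2,1),(1,2),(7,2),(6,1),(3,2),(5,2),(0,1),
    (1,1),(0,2),(3,1),(7,2),(7,1),(2,1),(1,2),(0,1),(0,1),(1,2),(4,1),(0,2),(5,2),(9,1),(0,2),
    (0,1),(1,1),(1,2),(0,1),(0,2),(0,2),(0,1),(0,2),(0,2),(0,2),(0,1),(0,2),(3,2),(1,2),(1,1),
    (0,2),(0,2),(0,1),(0,2),(1,2),(0,1),(0,1),(3,1),(1,2),(0,2),(0,1),(0,2),(0,2),(0,1),(0,2),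
    (0,2),(0,2),(0,2),(0,1),(0,1),(2,2),(1,1),(0,1),(0,2),(0,1),(0,1),(0,2),(0,1),(0,1),(0,1),
    (0,2),(0,2),(3,2),(0,1),(0,2),(0,1),(0,2),(0,1),(0,1),(0,2),(0,1),(0,1),(0,1),(2,1),(0,2),
    (0,1),(1,1),(1,1),(0,2),(0,1),(0,1),(0,2),(0,1),(0,1),(0,1),(0,2),(0,1),(3,1),(1,1),(0,2),
    (0,1),(1,2),(0,1),(1,2),(0,2),(2,1),(0,2),(0,1),(1,1),(1,2),(2,2),(0,1),(0,2)],
   [(11,1),(6,2),(8,1),(1,1),(4,1),(0,1),(0,2),(2,2),(10,1),(2,1),(3,1),(0,1),(1,2),(6,1),(2,1),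
    (0,1),(0,2),(2,1),(0,2),(16,1),(1,1),(0,1),(7,1),(0,2),(0,2),(2,1),(4,2),(3,1),(2,2),(0,1),
    (0,1),(3,1),(0,2),(0,2),(0,2),(0,2),(0,2),(0,2),(0,1),(0,1),(0,2),(1,2),(1,1),(0,1),(0,2),
    (1,1),(0,1),(0,1),(0,1),(0,1),(0,1),(0,2),(0,2),(0,1),(3,2),(0,1),(0,1),(1,2),(0,2),(0,2),
    (0,2),(0,2),(0,2),(0,1),(0,1),(1,1),(0,1),(0,2),(3,1),(0,1),(0,1),(0,1),(0,1),(0,1),(1,2),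
    (2,1),(0,2),(0,2),(3,2),(0,2),(0,2),(1,2),(0,2),(1,1),(0,1),(0,1),(3,2),(0,1),(0,1),(1,1),
    (0,1),(0,1),(0,1),(0,1),(0,1),(0,2),(0,2),(0,2),(0,1),(0,1),(0,1),(3,1),(0,1),(1,1),(0,2),
    (0,1),(0,1),(0,2),(0,2),(1,2),(0,1),(0,1),(3,1),(0,1),(0,1),(0,1),(0,1),(0,1),(0,1),(0,2),
    (0,2)],
   [(9,1),(12,2),(0,2),(1,1),(7,1),(1,2),(13,1),(3,1),(0,2),(3,2),(3,1),(1,2),(6,2),(2,2),(0,1),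
    (0,1),(0,1),(5,2),(2,2),(6,2),(0,2),(0,1),(0,1),(2,2),(4,2),(0,1),(6,2),(5,2),(1,2),(2,2),
    (4,1),(0,1),(0,1),(0,2),(0,2),(0,2),(0,1),(1,2),(2,2),(4,2),(0,2),(1,1),(0,1),(0,1),(0,2),
    (0,1),(0,2),(1,1),(0,1),(4,2),(1,2),(1,1),(0,1),(0,2),(1,2),(2,2),(4,1),(1,1),(0,2),(0,2),
    (0,2),(0,1),(0,2),(1,2),(0,2),(1,2),(0,2),(0,1),(0,1),(0,1),(0,2),(0,2),(0,1),(0,1),(0,1),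
    (0,2),(0,1),(0,1),(0,2),(1,1),(3,2),(0,2),(0,2),(0,2),(0,1),(0,1),(0,1),(0,2),(1,1),(2,1),
    (4,2),(0,2),(0,2),(0,1),(0,1),(0,1),(0,2),(1,1),(2,1),(4,1),(0,1),(1,2),(0,2),(0,2),(0,1),
    (0,2)],
   [(12,2),(5,1),(1,1),(6,1),(1,2),(1,1),(3,1),(0,1),(0,2),(0,2),(4,2),(5,1),(7,2),(7,1),(0,2),
    (0,1),(1,1),(2,2),(3,2),(17,1),(2,1),(1,2),(0,2),(3,1),(1,1),(5,2),(2,1),(2,2),(1,2),(0,2),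
    (1,2),(0,1),(0,1),(2,1),(0,1),(0,1),(0,2),(0,1),(0,1),(0,1),(0,2),(0,2),(2,2),(0,1),(0,2),
    (2,2),(0,2),(0,2),(1,2),(0,2),(0,2),(2,2),(0,1),(3,1),(0,1),(0,2),(0,2),(0,2),(0,1),(0,2),
    (0,2),(0,2),(0,1),(0,2),(2,2),(0,2),(0,1),(2,2),(0,2),(0,2),(0,1),(0,2),(0,2),(0,2),(0,1),
    (0,1),(2,1),(0,1),(0,2),(3,1),(0,1),(0,2),(0,1),(0,1),(0,1),(1,2),(2,2),(0,1),(0,2),(2,2),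
    (1,2),(0,1),(0,2),(1,2),(0,1),(0,1),(0,1),(0,2),(3,2),(0,1),(0,2),(1,2),(0,1),(1,2),(0,2),
    (0,1),(1,2),(0,1),(3,1),(0,1),(0,1),(0,1),(0,1),(0,2),(0,1),(0,1),(0,1),(0,2)],
   [(4,1),(7,1),(6,2),(12,2),(0,1),(2,1),(13,1),(0,1),(2,2),(2,2),(0,1),(0,2),(5,2),(4,2),(0,1),
    (1,2),(2,1),(0,2),(5,2),(7,2),(1,2),(0,1),(3,1),(6,2),(3,1),(2,1),(1,2),(3,2),(1,1),(0,2),
    (0,2),(0,1),(0,1),(0,2),(0,1),(0,2),(3,1),(1,1),(0,2),(0,2),(0,1),(0,2),(0,2),(0,1),(0,1),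
    (0,2),(0,1),(0,2),(0,2),(0,2),(0,1),(1,1),(3,2),(0,1),(0,1),(0,2),(1,1),(1,1),(0,2),(0,1),
    (0,2),(1,1),(4,1),(0,1),(0,2),(0,2),(0,1),(1,1),(3,2),(1,2),(0,1),(0,1),(0,1),(0,2),(1,1),
    (0,1),(1,1),(0,2),(3,2),(1,2),(0,1),(0,1),(0,1),(1,2),(0,1),(0,1),(1,1),(0,2),(0,1),(0,2),
    (0,1),(1,2),(3,2),(0,1),(0,1),(0,2),(0,2),(0,1),(0,2),(0,1),(0,1),(0,2),(0,2),(1,1),(0,1),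
    (0,2),(1,1),(0,2),(0,2),(0,1),(0,1),(0,2),(0,1),(0,2),(0,1),(0,1),(0,2),(1,2)],
   [(4,2),(3,1),(2,2),(7,1),(2,2),(7,2),(1,2),(4,2),(1,2),(0,2),(0,2),(0,1),(11,2),(2,2),(3,2),
    (0,1),(1,2),(0,1),(1,1),(0,1),(0,1),(5,1),(20,2),(0,2),(1,1),(0,2),(4,1),(8,2),(5,2),(0,2),
    (0,2),(0,1),(0,1),(0,2),(0,1),(0,1),(1,1),(0,2),(1,2),(2,1),(0,2),(0,2),(0,2),(2,2),(0,1),
    (0,1),(1,1),(0,2),(1,1),(2,2),(0,2),(1,2),(0,1),(0,1),(1,1),(0,1),(0,1),(2,1),(1,2),(0,2),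
    (1,1),(0,1),(0,1),(0,2),(0,2),(0,1),(0,2),(0,2),(1,1),(0,2),(1,1),(2,2),(0,2),(0,2),(0,2),
    (0,1),(0,1),(0,2),(0,1),(0,1),(1,1),(0,2),(1,2),(2,1),(0,1),(0,1),(1,2),(0,2),(1,2),(0,2),
    (0,2),(2,2),(1,1),(0,1),(1,1),(0,1),(0,1),(1,2),(0,1),(0,2),(2,1),(0,2),(1,1),(2,2),(0,2),
    (0,2),(0,2),(0,1),(0,1),(0,2),(0,1),(0,1),(0,2),(1,1),(0,1),(0,2),(0,2),(0,1)],
   [(3,1),(5,2),(0,1),(2,2),(9,1),(3,1),(0,1),(3,2),(1,2),(18,2),(12,2),(1,1),(0,1),(5,1),(0,2),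
    (6,2),(7,1),(2,2),(2,2),(1,2),(0,1),(0,1),(0,1),(1,1),(0,1),(6,1),(2,1),(2,2),(1,1),(0,2),
    (0,2),(0,1),(0,2),(0,2),(0,1),(0,1),(3,2),(0,1),(0,2),(0,1),(1,1),(0,2),(0,2),(0,1),(0,2),
    (0,2),(5,1),(0,1),(0,2),(0,2),(1,1),(0,2),(1,1),(1,2),(0,1),(0,1),(3,1),(0,2),(0,1),(0,2),
    (1,2),(0,1),(0,1),(0,2),(0,1),(0,1),(0,2),(0,2),(0,1),(0,2),(0,1),(4,2),(0,1),(0,2),(0,2),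
    (1,2),(0,2),(0,1),(4,1),(0,2),(0,1),(0,2),(1,2),(0,1),(0,1),(0,2),(0,1),(0,1),(0,2),(0,2),
    (0,1),(0,2),(0,2),(0,2),(0,1),(2,1),(0,2),(0,1),(0,1),(0,2),(0,1),(0,1),(0,2),(0,2),(0,2),
    (0,1),(0,2),(4,1),(0,1),(0,2),(1,1),(0,2),(1,1),(0,1),(3,2),(0,2),(0,1),(0,1)],
   [(4,2),(4,1),(2,1),(8,1),(0,1),(2,2),(2,1),(2,1),(2,1),(1,1),(13,2),(0,1),(2,1),(9,2),(4,1),
    (4,2),(8,1),(9,2),(6,1),(0,1),(0,2),(0,1),(0,2),(0,2),(5,1),(0,2),(1,2),(3,1),(1,2),(0,1),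
    (0,1),(0,2),(0,1),(0,2),(0,1),(4,2),(0,2),(3,1),(0,2),(1,1),(0,2),(0,1),(0,2),(0,1),(3,2),
    (0,2),(3,2),(0,1),(0,1),(1,1),(0,2),(5,1),(0,1),(3,1),(0,2),(0,2),(0,1),(0,2),(0,1),(1,1),
    (2,2),(0,2),(0,1),(3,2),(0,1),(1,2),(1,2),(1,2),(3,1),(0,1),(3,1),(0,2),(0,2),(0,1),(0,2),
    (0,1),(1,1),(3,1),(0,2),(2,2),(0,1),(0,2),(0,2),(0,1),(0,2),(0,1),(0,2),(1,2),(0,1),(0,2),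
    (1,2),(0,2),(0,1),(0,1),(0,1),(0,2),(0,2),(0,1),(0,2),(0,1),(0,2),(4,1),(0,1)],
   [(11,2),(9,2),(5,2),(1,1),(0,2),(2,1),(1,2),(0,1),(1,2),(15,1),(4,2),(2,2),(2,1),(0,1),(4,2),
    (0,2),(0,1),(26,1),(0,2),(0,1),(0,1),(1,2),(0,1),(2,1),(1,2),(0,2),(1,2),(3,1),(2,1),(0,2),
    (0,1),(0,1),(0,2),(0,2),(1,2),(1,2),(1,1),(1,1),(1,1),(0,1),(0,2),(0,1),(0,1),(0,2),(0,2),
    (0,2),(0,2),(1,1),(1,1),(1,2),(1,1),(0,1),(0,2),(0,1),(0,1),(0,2),(0,2),(0,2),(0,1),(1,1),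
    (1,1),(1,1),(1,1),(0,1),(0,2),(0,1),(1,2),(0,2),(1,2),(1,2),(1,2),(1,2),(1,2),(0,2),(0,1),
    (0,2),(0,2),(0,1),(0,1),(0,1),(1,1),(1,1),(1,2),(0,1),(0,1),(0,1),(0,1),(0,2),(0,1),(0,1),
    (0,2),(0,2),(0,2),(0,1),(1,2),(1,2),(1,1),(1,1),(0,1),(1,1),(0,1),(0,2),(0,2),(1,2),(1,1),
    (1,2),(1,2),(0,2),(0,1),(0,1),(0,2),(0,1),(0,1),(0,2),(2,1),(1,1),(1,2),(1,2)],
   [(10,2),(2,1),(6,1),(7,2),(3,1),(2,1),(0,2),(0,1),(0,2),(0,1),(13,2),(4,1),(1,2),(0,2),(0,1),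
    (1,1),(1,1),(3,2),(4,1),(15,2),(9,1),(0,1),(0,1),(1,1),(0,2),(2,2),(3,2),(4,2),(1,1),(0,1),
    (0,1),(0,1),(0,1),(0,1),(0,2),(0,2),(0,2),(3,2),(0,1),(0,2),(1,1),(0,1),(0,1),(0,1),(0,1),
    (1,2),(2,1),(0,2),(0,1),(0,2),(2,2),(0,2),(0,2),(0,2),(0,2),(0,2),(0,2),(0,1),(0,1),(0,1),
    (3,2),(0,1),(0,1),(1,2),(0,2),(0,2),(0,2),(0,2),(0,2),(0,1),(0,1),(1,2),(0,1),(0,2),(3,2),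
    (0,1),(0,1),(0,1),(0,1),(1,1),(0,2),(1,1),(1,2),(1,1),(0,2),(0,2),(1,2),(0,2),(0,2),(0,2),
    (0,2),(0,2),(0,1),(0,1),(0,1),(3,1),(0,2),(0,1),(1,1),(0,1),(0,1),(0,1),(0,1),(0,1),(0,2),
    (0,2),(1,1),(0,2),(0,1),(3,1),(0,2),(0,1),(0,1),(0,1),(0,1),(0,1),(1,2),(0,1),(3,1),(0,2),
    (0,1)],
   [(4,2),(3,1),(1,2),(7,2),(0,2),(0,2),(3,1),(5,1),(1,1),(1,1),(7,1),(17,1),(1,1),(1,2),(2,2),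
    (2,2),(0,2),(0,1),(0,1),(2,1),(16,2),(1,1),(0,2),(0,1),(2,1),(0,2),(2,1),(6,1),(8,2),(1,1),
    (0,1),(0,2),(0,1),(0,1),(0,1),(5,2),(1,1),(1,2),(0,1),(0,2),(1,2),(0,2),(0,2),(1,1),(1,2),
    (1,1),(1,2),(0,1),(0,2),(0,2),(0,2),(0,1),(0,2),(1,2),(5,1),(1,2),(0,1),(0,2),(0,2),(1,1),
    (0,2),(0,2),(0,2),(0,2),(0,2),(0,1),(0,2),(0,2),(0,2),(0,1),(1,2),(1,1),(0,1),(0,2),(0,1),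
    (0,1),(0,1),(5,2),(1,1),(0,1),(0,2),(0,2),(0,2),(0,1),(0,2),(1,2),(5,2),(1,1),(0,1),(0,2),
    (0,2),(0,2),(0,1),(0,2),(1,2),(5,1),(1,2),(0,2),(1,1),(0,1),(0,2),(0,1),(0,1),(0,1),(5,1),
    (1,2)],
   [(3,2),(4,2),(9,2),(0,2),(0,2),(4,2),(0,2),(3,1),(0,1),(5,2),(3,1),(17,2),(2,2),(5,2),(2,1),
    (0,2),(21,1),(0,2),(0,1),(1,2),(0,1),(0,1),(0,2),(0,2),(0,1),(1,1),(3,1),(4,2),(6,1),(0,1),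
    (0,1),(0,2),(0,2),(1,2),(9,2),(1,2),(0,1),(0,1),(0,2),(0,1),(0,1),(0,1),(0,2),(0,1),(0,1),
    (0,2),(0,2),(0,2),(0,1),(0,2),(0,2),(0,2),(0,1),(0,1),(2,1),(0,2),(0,1),(0,1),(0,2),(0,2),
    (0,2),(0,1),(0,1),(0,2),(1,2),(0,1),(0,1),(0,2),(1,1),(0,1),(0,1),(0,2),(0,2),(0,1),(0,2),
    (0,2),(1,1),(0,1),(0,1),(0,2),(0,2),(1,2),(8,2),(0,1),(0,1),(0,1),(1,2),(1,2),(10,1),(0,1),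
    (0,2),(0,2),(0,1),(0,2),(8,2),(1,1),(0,1),(1,2),(0,1),(0,2)],
   [(4,2),(5,2),(0,1),(0,1),(8,1),(0,2),(2,2),(8,1),(1,2),(4,1),(0,2),(0,1),(7,1),(0,2),(1,2),
    (2,1),(3,2),(2,1),(3,1),(2,1),(3,1),(18,2),(0,2),(1,1),(4,1),(0,2),(2,1),(8,2),(10,1),(0,1),
    (0,1),(0,2),(1,2),(0,1),(0,1),(0,1),(0,2),(5,1),(0,2),(0,1),(1,1),(0,1),(0,1),(0,2),(0,2),
    (0,2),(0,1),(6,1),(0,1),(0,2),(0,1),(0,1),(2,2),(1,1),(6,2),(0,2),(0,1),(1,2),(0,2),(0,1),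
    (0,1),(0,1),(0,2),(6,1),(0,1),(0,1),(0,2),(1,2),(0,1),(0,1),(0,1),(0,2),(0,2),(0,1),(0,2),
    (0,2),(0,1),(0,2),(2,1),(1,2),(0,2),(0,1),(0,1),(0,1),(0,2),(0,1),(0,1),(4,2),(0,2),(0,2),
    (0,1),(1,1),(0,2),(2,1),(6,2),(0,2),(0,1),(1,2),(0,2),(0,1),(0,1),(0,1),(0,2)],
   [(0,1),(0,1),(0,1),(2,1),(0,1),(0,2),(6,1),(0,2),(0,1),(0,1),(26,1),(0,2),(0,1),(0,1),(0,2),
    (6,1),(0,2),(6,2),(14,1),(0,2),(0,1),(0,1),(0,1),(1,2),(0,2),(1,2),(0,1),(0,2),(0,2),(1,1),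
    (15,1),(1,1),(5,1),(0,2),(1,1),(8,2),(0,1),(0,1),(0,1),(0,2),(0,2),(0,1),(0,2),(8,2),(0,1),
    (0,1),(0,1),(0,2),(0,2),(0,1),(0,2),(0,2),(0,1),(0,1),(0,1),(0,2),(0,2),(0,1),(0,2),(0,1),
    (0,2),(0,2),(0,2),(0,1),(0,1),(0,2),(0,1),(8,2),(0,1),(0,1),(0,1),(0,2),(0,2),(0,1),(0,2),
    (0,1),(0,2),(0,2),(0,2),(0,1),(0,1),(0,2),(0,1),(0,1),(0,2),(0,2),(0,2),(0,1),(0,1),(0,2),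
    (0,1),(8,2),(0,1),(0,1),(0,1),(0,2),(0,2),(0,1),(0,2),(0,1),(0,2),(0,2),(0,2),(0,1),(0,1),
    (0,2),(0,1),(0,1),(0,2),(0,2),(0,2),(0,1),(0,1),(0,2),(0,1),(8,2),(0,1),(0,1),(0,1),(0,2),
    (0,2),(0,1),(0,2)],
   [(0,1),(0,2),(0,2),(2,1),(0,2),(0,1),(6,1),(0,2),(0,2),(0,1),(26,1),(0,1),(0,1),(0,2),(0,2),
    (6,2),(0,2),(6,1),(14,1),(0,2),(0,2),(0,1),(0,1),(1,1),(0,2),(1,1),(0,1),(0,2),(0,2),(1,2),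
    (14,1),(2,2),(5,1),(0,1),(1,2),(8,2),(0,1),(0,1),(0,1),(0,2),(0,2),(0,1),(0,2),(0,1),(0,2),
    (0,2),(0,2),(0,1),(0,1),(0,2),(0,1),(0,1),(0,2),(0,2),(0,2),(0,1),(0,1),(0,2),(0,1),(8,2),
    (0,1),(0,1),(0,1),(0,2),(0,2),(0,1),(0,2),(8,2),(0,1),(0,1),(0,1),(0,2),(0,2),(0,1),(0,2),
    (8,2),(0,1),(0,1),(0,1),(0,2),(0,2),(0,1),(0,2),(8,2),(0,1),(0,1),(0,1),(0,2),(0,2),(0,1),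
    (0,2),(0,1),(0,2),(0,2),(0,2),(0,1),(0,1),(0,2),(0,1),(0,1),(0,2),(0,2),(0,2),(0,1),(0,1),
    (0,2),(0,1),(0,2),(0,1),(0,1),(0,1),(0,2),(0,2),(0,1),(0,2),(0,1),(0,2),(0,2),(0,2),(0,1),
    (0,1),(0,2),(0,1)],
   [(4,2),(8,1),(5,1),(2,1),(0,2),(1,2),(8,2),(6,2),(0,2),(7,2),(0,2),(0,2),(0,2),(5,1),(8,2),
    (1,2),(2,2),(9,1),(2,2),(8,1),(2,1),(3,1),(0,2),(1,1),(3,1),(1,1),(1,2),(0,1),(7,2),(0,2),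
    (0,1),(0,1),(0,2),(0,1),(0,1),(0,2),(0,2),(0,1),(0,1),(0,2),(0,1),(0,2),(1,1),(1,1),(0,2),
    (0,2),(0,1),(0,2),(8,1),(1,2),(0,2),(0,1),(1,2),(0,1),(0,2),(0,1),(0,2),(0,1),(0,1),(0,1),
    (0,2),(0,2),(0,1),(0,2),(1,2),(0,1),(1,2),(0,1),(0,2),(0,1),(0,2),(0,2),(0,1),(0,2),(0,1),
    (0,1),(1,1),(0,1),(0,1),(0,2),(0,2),(1,2),(8,2),(0,1),(0,1),(0,1),(1,2),(1,2),(10,1),(0,1),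
    (0,2),(0,2),(0,1),(0,2),(8,2),(1,1),(0,1),(1,2),(0,1),(0,2)],
   [(0,1),(0,1),(0,1),(2,2),(0,2),(0,2),(6,2),(0,2),(0,1),(0,1),(26,1),(0,1),(0,1),(0,2),(0,1),
    (6,1),(0,1),(6,1),(14,1),(0,2),(0,1),(0,2),(0,1),(1,2),(0,1),(1,1),(0,2),(0,1),(0,1),(1,2),
    (14,1),(0,2),(7,1),(0,2),(1,1),(8,2),(0,1),(0,1),(0,1),(0,2),(0,2),(0,1),(0,2),(8,2),(0,1),
    (0,1),(0,1),(0,2),(0,2),(0,1),(0,2),(0,2),(0,1),(0,1),(0,1),(0,2),(0,2),(0,1),(0,2),(0,1),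
    (0,2),(0,2),(0,2),(0,1),(0,1),(0,2),(0,1),(8,2),(0,1),(0,1),(0,1),(0,2),(0,2),(0,1),(0,2),
    (8,2),(0,1),(0,1),(0,1),(0,2),(0,2),(0,1),(0,2),(0,1),(0,2),(0,2),(0,2),(0,1),(0,1),(0,2),
    (0,1),(0,1),(0,2),(0,2),(0,2),(0,1),(0,1),(0,2),(0,1),(8,2),(0,1),(0,1),(0,1),(0,2),(0,2),
    (0,1),(0,2),(0,1),(0,2),(0,2),(0,2),(0,1),(0,1),(0,2),(0,1),(0,1),(0,2),(0,2),(0,2),(0,1),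
    (0,1),(0,2),(0,1)],
   [(4,1),(4,2),(1,2),(6,1),(2,1),(0,2),(0,1),(1,1),(0,2),(3,2),(2,1),(9,1),(5,1),(8,2),(1,2),
    (1,2),(1,1),(0,1),(0,1),(2,2),(3,1),(2,1),(16,1),(7,1),(0,2),(1,1),(4,1),(1,1),(12,1),(1,1),
    (1,2),(0,1),(0,1),(0,1),(0,1),(0,2),(0,2),(5,1),(1,1),(1,2),(0,1),(0,1),(1,1),(0,2),(6,1),
    (1,1),(1,1),(0,2),(1,2),(0,2),(0,1),(0,1),(0,1),(0,2),(0,2),(0,1),(0,1),(1,1),(1,1),(1,1),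
    (0,1),(0,1),(0,1),(0,2),(0,2),(0,2),(4,1),(1,1),(1,2),(0,1),(0,1),(0,1),(0,1),(0,2),(0,2),
    (1,1),(1,1),(1,2),(1,2),(1,2),(1,1),(0,1),(0,1),(2,2),(4,1),(1,1),(1,1),(0,2),(1,2),(0,2),
    (0,1),(0,1),(0,1),(3,2),(0,1),(1,2),(1,1),(0,2),(1,2),(0,2),(0,1),(0,1),(0,1)],
   [(3,2),(5,1),(8,1),(1,1),(2,2),(7,1),(0,1),(1,1),(3,2),(1,1),(1,2),(0,2),(5,1),(0,2),(2,1),
    (7,2),(3,1),(4,1),(0,2),(0,2),(21,2),(1,2),(0,2),(0,1),(1,1),(0,2),(0,2),(9,1),(7,2),(0,2),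
    (0,1),(3,2),(1,2),(1,1),(0,2),(0,1),(3,1),(0,1),(0,2),(0,2),(0,1),(0,2),(0,1),(0,2),(1,2),
    (3,2),(0,2),(0,2),(0,2),(0,2),(0,1),(1,2),(0,1),(1,1),(1,1),(0,1),(2,2),(0,2),(0,2),(0,2),
    (1,1),(0,1),(1,1),(0,2),(0,1),(0,2),(0,2),(3,2),(0,1),(0,2),(0,1),(0,1),(0,2),(0,2),(0,1),
    (0,2),(0,1),(0,2),(1,1),(3,1),(0,1),(0,1),(0,1),(0,1),(0,2),(0,2),(0,1),(0,2),(0,1),(0,2),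
    (1,2),(3,2),(0,2),(0,2),(0,1),(0,1),(0,2),(0,2),(0,1),(0,2),(0,1),(0,2),(0,2),(1,2),(0,2),
    (0,2),(3,1),(0,1),(0,2),(0,2),(0,1),(0,2),(0,1),(0,2),(0,1),(1,1),(0,1),(0,1)],
   [(3,1),(5,2),(2,1),(5,2),(4,2),(5,1),(1,1),(2,2),(4,1),(3,2),(5,1),(7,1),(0,1),(1,2),(0,2),
    (0,2),(1,2),(0,1),(0,1),(0,1),(0,2),(1,2),(1,1),(10,1),(19,2),(5,2),(3,1),(4,2),(1,2),(0,1),
    (0,2),(0,1),(2,2),(0,1),(1,2),(0,2),(0,2),(0,2),(0,2),(0,2),(0,1),(0,2),(0,2),(0,2),(0,1),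
    (2,1),(0,1),(0,1),(1,2),(0,2),(0,2),(0,2),(0,2),(0,1),(4,1),(0,2),(3,2),(0,2),(0,2),(0,2),
    (0,2),(0,2),(0,1),(4,1),(0,2),(2,1),(0,2),(0,2),(0,2),(0,2),(0,2),(1,1),(3,2),(0,1),(0,1),
    (2,2),(1,1),(0,1),(0,1),(0,1),(0,1),(0,2),(4,2),(0,1),(2,2),(0,1),(1,1),(0,1),(1,1),(1,1),
    (0,1),(0,2),(0,1),(2,1),(0,1),(0,2),(0,1),(1,1),(1,1),(0,1),(5,1),(0,2),(2,1),(0,2),(0,2),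
    (0,2),(0,2),(0,2),(1,1)],
   [(3,2),(5,1),(1,2),(0,1),(5,2),(4,1),(8,2),(4,1),(1,2),(0,2),(1,1),(15,1),(1,2),(0,2),(4,1),
    (2,1),(2,2),(2,1),(17,2),(1,2),(2,2),(0,2),(1,2),(0,2),(2,2),(3,1),(4,1),(0,1),(4,1),(0,1),
    (0,2),(0,1),(0,1),(0,2),(0,2),(0,2),(0,1),(1,2),(1,2),(1,1),(1,1),(0,1),(0,2),(0,1),(0,1),
    (0,2),(0,2),(0,2),(1,1),(1,2),(1,1),(1,2),(1,2),(0,1),(1,2),(0,1),(0,1),(0,1),(1,1),(1,2),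
    (1,1),(1,2),(0,2),(0,2),(0,1),(2,1),(0,1),(0,1),(0,2),(1,2),(1,1),(1,1),(1,1),(0,1),(0,2),
    (0,1),(0,1),(0,2),(0,2),(0,2),(0,1),(1,2),(1,2),(1,1),(1,2),(0,2),(0,1),(0,2),(0,2),(0,1),
    (0,1),(0,1),(0,1),(0,2),(0,2),(1,1),(1,2),(0,1),(0,1),(0,1),(0,2),(0,1),(0,1),(2,2),(0,1),
    (1,1),(1,2),(1,2),(1,1),(0,1),(1,1),(0,1),(1,2),(0,2),(1,1),(1,2),(1,1),(1,2)],
   [(4,2),(15,1),(2,2),(3,2),(0,2),(0,1),(0,2),(6,2),(1,1),(3,1),(7,1),(2,2),(4,2),(0,1),(9,1),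
    (0,1),(0,1),(0,2),(2,1),(0,1),(8,1),(6,1),(3,1),(2,1),(5,2),(7,1),(0,1),(2,1),(1,2),(0,2),
    (1,1),(0,2),(0,1),(0,1),(0,2),(3,1),(0,1),(0,1),(0,2),(0,1),(0,2),(0,2),(2,1),(0,2),(0,1),
    (0,1),(0,2),(1,2),(0,2),(0,2),(0,2),(0,1),(0,2),(0,1),(0,2),(2,2),(0,2),(0,2),(0,2),(0,1),
    (0,2),(0,1),(0,1),(0,1),(1,2),(0,1),(2,1),(0,2),(5,2),(0,1),(1,1),(1,2),(0,1),(2,2),(0,1),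
    (4,2),(0,1),(0,2),(0,2),(0,2),(0,2),(1,2),(2,2),(0,1),(4,1),(1,1),(0,1),(0,1),(0,1),(0,2),
    (0,1),(2,1),(0,2),(4,2),(1,2),(0,2),(0,2),(0,2),(0,1),(0,2),(2,1),(0,2),(4,1),(0,2),(0,1),
    (0,1),(0,1),(0,1),(1,1)],
   [(0,1),(0,1),(0,1),(2,2),(0,2),(0,2),(6,1),(0,1),(0,1),(0,2),(26,1),(0,1),(0,2),(0,2),(0,2),
    (6,2),(0,2),(6,2),(14,1),(0,2),(0,1),(0,2),(0,2),(1,1),(0,1),(1,2),(0,1),(0,1),(0,2),(1,2),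
    (14,1),(0,1),(1,1),(6,1),(1,2),(8,2),(0,1),(0,1),(0,1),(0,2),(0,2),(0,1),(0,2),(8,2),(0,1),
    (0,1),(0,1),(0,2),(0,2),(0,1),(0,2),(0,2),(0,1),(0,1),(0,1),(0,2),(0,2),(0,1),(0,2),(0,1),
    (0,2),(0,2),(0,2),(0,1),(0,1),(0,2),(0,1),(8,2),(0,1),(0,1),(0,1),(0,2),(0,2),(0,1),(0,2),
    (8,2),(0,1),(0,1),(0,1),(0,2),(0,2),(0,1),(0,2),(0,2),(0,1),(0,1),(0,1),(0,2),(0,2),(0,1),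
    (0,2),(0,1),(0,2),(0,2),(0,2),(0,1),(0,1),(0,2),(0,1),(8,2),(0,1),(0,1),(0,1),(0,2),(0,2),
    (0,1),(0,2),(0,2),(0,1),(0,1),(0,1),(0,2),(0,2),(0,1),(0,2),(0,1),(0,2),(0,2),(0,2),(0,1),
    (0,1),(0,2),(0,1)],
   [(0,2),(0,1),(0,1),(2,1),(0,2),(0,2),(6,2),(0,1),(0,2),(0,1),(26,2),(0,1),(0,2),(0,1),(0,1),
    (6,2),(0,1),(6,2),(14,1),(0,2),(0,2),(0,1),(0,2),(1,2),(0,2),(1,1),(0,1),(0,1),(0,2),(1,2),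
    (14,2),(0,1),(1,2),(5,1),(2,2),(8,1),(0,2),(0,2),(0,2),(0,1),(0,1),(0,2),(0,1),(0,1),(0,2),
    (0,2),(0,2),(0,1),(0,1),(0,2),(0,1),(0,2),(0,1),(0,1),(0,1),(0,2),(0,2),(0,1),(0,2),(8,1),
    (0,2),(0,2),(0,2),(0,1),(0,1),(0,2),(0,1),(8,1),(0,2),(0,2),(0,2),(0,1),(0,1),(0,2),(0,1),
    (0,2),(0,1),(0,1),(0,1),(0,2),(0,2),(0,1),(0,2),(0,2),(0,1),(0,1),(0,1),(0,2),(0,2),(0,1),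
    (0,2),(0,2),(0,1),(0,1),(0,1),(0,2),(0,2),(0,1),(0,2),(0,2),(0,1),(0,1),(0,1),(0,2),(0,2),
    (0,1),(0,2),(8,1),(0,2),(0,2),(0,2),(0,1),(0,1),(0,2),(0,1),(8,1),(0,2),(0,2),(0,2),(0,1),
    (0,1),(0,2),(0,1)],
   [(4,1),(3,2),(10,2),(2,2),(6,2),(0,1),(0,1),(2,2),(4,1),(1,1),(1,2),(5,1),(4,2),(6,2),(8,2),
    (12,2),(9,2),(1,1),(0,2),(0,2),(0,2),(1,2),(0,1),(0,1),(0,2),(9,2),(1,1),(2,1),(1,1),(0,2),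
    (1,2),(0,1),(0,1),(0,1),(0,2),(0,1),(0,2),(0,1),(0,1),(0,1),(0,1),(0,2),(1,1),(0,1),(2,2),
    (0,1),(0,2),(0,2),(0,2),(0,1),(0,2),(2,2),(0,1),(1,1),(0,1),(2,2),(0,1),(0,1),(0,1),(0,1),
    (0,2),(1,1),(1,1),(1,1),(2,1),(0,2),(4,1),(0,2),(0,1),(0,1),(0,1),(0,1),(1,1),(2,2),(0,1),
    (4,2),(0,1),(0,2),(0,2),(0,2),(0,2),(1,2),(2,2),(0,1),(4,1),(1,1),(0,1),(0,1),(0,1),(0,2),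
    (0,1),(2,1),(0,2),(4,2),(1,2),(0,2),(0,2),(0,2),(0,1),(0,2),(2,1),(0,2),(4,1),(0,2),(0,1),
    (0,1),(0,1),(0,1),(1,1)],
   [(0,1),(0,2),(0,1),(2,2),(0,1),(0,1),(6,1),(0,1),(0,1),(0,1),(26,2),(0,1),(0,1),(0,1),(0,2),
    (6,2),(0,1),(6,2),(14,2),(0,2),(0,2),(0,2),(0,1),(1,2),(0,2),(1,1),(0,2),(0,1),(0,2),(1,1),
    (14,1),(0,2),(1,1),(5,2),(0,2),(10,2),(0,1),(0,1),(0,1),(0,2),(0,2),(0,1),(0,2),(8,2),(0,1),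
    (0,1),(0,1),(0,2),(0,2),(0,1),(0,2),(8,2),(0,1),(0,1),(0,1),(0,2),(0,2),(0,1),(0,2),(0,2),
    (0,1),(0,1),(0,1),(0,2),(0,2),(0,1),(0,2),(0,1),(0,2),(0,2),(0,2),(0,1),(0,1),(0,2),(0,1),
    (0,1),(0,2),(0,2),(0,2),(0,1),(0,1),(0,2),(0,1),(0,1),(0,2),(0,2),(0,2),(0,1),(0,1),(0,2),
    (0,1),(8,2),(0,1),(0,1),(0,1),(0,2),(0,2),(0,1),(0,2),(8,2),(0,1),(0,1),(0,1),(0,2),(0,2),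
    (0,1),(0,2),(0,1),(0,2),(0,2),(0,2),(0,1),(0,1),(0,2),(0,1),(0,1),(0,2),(0,2),(0,2),(0,1),
    (0,1),(0,2),(0,1)],
   [(0,2),(1,1),(3,2),(0,1),(0,2),(0,1),(0,1),(0,2),(0,2),(0,2),(4,1),(0,2),(0,1),(2,2),(1,2),
    (0,2),(1,1),(0,2),(0,1),(2,2),(1,1),(0,2),(0,2),(0,1),(1,1),(1,2),(0,1),(0,1),(0,2),(5,1),
    (0,2),(0,1),(3,1),(2,1),(0,2),(2,1),(1,1),(0,2),(0,1),(0,2),(0,1),(0,2),(1,1),(0,2),(0,2),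
    (0,1),(0,2),(3,2),(1,1),(1,2),(0,2),(4,1),(1,1),(2,1),(0,1),(0,2),(0,1),(0,2),(0,1),(1,2),
    (0,1),(7,1),(0,1),(0,2),(0,1),(2,2),(1,2),(0,1),(0,1),(0,2),(2,1),(1,2),(2,1),(1,2),(0,2),
    (0,1),(1,2),(0,2),(1,2),(0,1),(0,2),(1,1),(0,1),(1,1),(1,2),(2,2),(0,1),(1,1),(0,2),(0,2),
    (1,2),(0,1),(0,2),(0,2),(1,1),(1,1),(0,1),(0,1),(1,2),(0,2),(0,1),(0,1),(0,2),(1,1),(0,1),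
    (2,1),(0,1),(0,2),(0,1),(1,1),(0,2),(0,2),(1,1),(0,1),(0,2),(0,1),(0,2),(1,1),(0,2),(0,2),
    (1,2),(1,1),(0,2),(0,2),(1,1),(0,1),(0,2),(0,2),(0,1),(0,2),(1,2),(3,1),(1,2),(0,2),(0,1),
    (0,2),(2,1),(0,1),(1,1),(0,2),(0,2),(0,1),(0,2),(0,2),(0,1),(2,2),(1,1),(0,1),(0,1),(1,1),
    (0,2),(0,1),(0,1),(1,1)],
   [(0,1),(1,2),(0,1),(0,1),(1,1),(0,2),(0,2),(2,2),(1,2),(4,1),(0,2),(0,1),(0,2),(1,1),(0,1),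
    (1,1),(1,2),(0,2),(0,1),(1,2),(0,1),(2,1),(0,1),(0,1),(1,1),(0,2),(0,1),(0,1),(0,2),(0,1),
    (3,1),(0,2),(1,2),(1,2),(2,1),(0,1),(0,1),(0,2),(0,2),(0,2),(1,2),(0,1),(1,1),(0,2),(0,1),
    (0,2),(2,2),(0,2),(0,1),(0,1),(4,1),(1,1),(1,1),(0,1),(4,2),(1,2),(1,1),(1,1),(0,1),(0,1),
    (0,1),(0,2),(0,2),(0,2),(1,2),(6,1),(0,2),(0,2),(0,1),(2,1),(1,1),(2,2),(0,2),(0,2),(4,1),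
    (2,2),(0,1),(0,1),(0,2),(0,1),(0,1),(0,1),(2,1),(0,2),(0,1),(1,2),(0,2),(1,2),(0,2),(0,2),
    (0,2),(0,1),(1,1),(0,1),(0,2),(0,2),(0,2),(0,1),(1,2),(2,2),(0,1),(0,2),(1,2),(0,1),(0,1),
    (3,1),(1,1),(0,1),(0,1),(0,1),(0,1),(0,1),(0,1),(0,2),(1,2),(0,1),(0,2),(0,1),(1,1),(0,1),
    (2,2),(0,1),(1,2),(0,1),(0,2),(1,1),(0,2),(0,2),(0,1),(1,1),(3,2),(0,2),(1,2),(0,1),(0,2),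
    (0,1),(1,2),(0,2),(1,1),(2,1),(0,1),(1,1),(0,2),(0,2),(2,2),(1,1),(1,1),(0,2),(0,1),(0,2),
    (1,1),(1,2),(0,2)],
   [(0,1),(1,2),(0,1),(0,2),(1,1),(0,2),(0,2),(1,2),(1,1),(5,1),(0,1),(0,1),(0,2),(2,1),(0,1),
    (0,2),(1,1),(6,1),(0,2),(0,2),(1,1),(2,1),(0,1),(0,2),(0,1),(6,1),(1,1),(2,2),(1,1),(0,2),
    (0,1),(0,1),(1,2),(0,1),(1,1),(0,2),(0,2),(0,1),(2,1),(0,2),(2,1),(3,1),(1,1),(1,1),(0,1),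
    (4,2),(1,1),(0,2),(0,2),(2,1),(0,1),(0,1),(0,2),(0,1),(0,2),(0,2),(0,2),(3,1),(2,2),(0,1),
    (0,1),(5,1),(2,2),(1,2),(1,2),(1,2),(1,2),(0,2),(1,1),(0,1),(0,1),(3,2),(0,2),(1,1),(1,2),
    (2,1),(0,2),(0,1),(0,2),(1,2),(0,1),(0,2),(2,1),(2,2),(1,1),(0,1),(0,2),(0,2),(0,1),(1,2),
    (0,1),(0,1),(2,1),(0,2),(0,2),(0,1),(4,1),(0,2),(0,1),(0,1),(2,1),(0,2),(0,2),(0,2),(4,2),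
    (0,2),(0,1),(0,2),(1,1),(0,2),(0,2),(1,1),(1,1),(0,2),(0,1),(3,2),(1,2),(1,2),(0,1),(0,1),
    (1,2),(1,2),(0,1),(0,1),(0,1),(0,1),(1,1),(0,1),(0,1),(2,1),(0,1),(1,2),(0,2),(0,2),(1,1),
    (0,1),(0,1),(0,1),(0,1),(0,1),(0,1)],
   [(0,1),(1,2),(0,2),(0,1),(1,1),(0,2),(0,1),(0,2),(0,2),(1,2),(0,1),(4,1),(0,1),(0,2),(1,1),
    (0,2),(1,1),(0,2),(0,2),(0,1),(0,2),(0,2),(1,1),(0,1),(1,2),(0,2),(0,2),(0,1),(0,2),(0,2),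
    (3,2),(0,1),(3,2),(1,1),(0,2),(0,2),(0,2),(2,2),(0,1),(0,2),(0,2),(1,2),(1,2),(0,2),(1,1),
    (0,2),(0,2),(0,2),(0,2),(0,1),(0,1),(1,1),(5,1),(1,2),(1,1),(0,2),(4,2),(1,2),(0,1),(0,2),
    (0,1),(0,1),(0,2),(0,2),(0,2),(0,1),(0,2),(0,2),(0,2),(0,2),(3,1),(3,2),(0,2),(0,2),(2,1),
    (1,2),(0,2),(0,2),(0,2),(0,1),(0,1),(0,2),(0,1),(0,2),(1,1),(0,2),(0,2),(1,1),(0,1),(5,2),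
    (1,1),(0,2),(2,1),(0,2),(1,1),(1,1),(1,2),(1,1),(0,1),(0,2),(0,1),(0,2),(0,1),(1,2),(0,1),
    (2,2),(1,2),(0,1),(0,1),(2,1),(0,2),(0,2),(1,1),(0,2),(0,1),(0,2),(0,1),(0,1),(0,2),(1,1),
    (0,1),(0,2),(1,2),(3,2),(0,1),(0,2),(0,2),(0,1),(0,2),(0,1),(0,1),(2,1),(0,2),(0,2),(0,2),
    (0,2),(0,1),(0,2),(0,1),(1,2),(1,2),(0,1),(0,1),(0,2),(0,2),(0,1),(3,1),(0,1),(1,2),(1,1),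
    (0,1),(0,1),(0,1),(1,2),(0,2),(0,1),(1,1),(2,1),(1,2),(0,1),(0,1),(0,1),(0,1)]]

/-- Rows of a matrix. -/
def matB4 : List (List (ℕ × ℕ)) :=
  [[(0,2),(1,1),(0,1),(0,2),(1,2),(0,1),(2,1),(1,1),(0,1),(4,2),(0,2),(0,2),(0,1),(0,1),(0,1),
    (0,2),(1,1),(1,1),(0,2),(0,2),(0,1),(0,2),(0,2),(0,1),(0,2),(0,2),(0,1),(0,1),(1,2),(1,1),
    (0,1),(0,1),(0,2),(4,2),(1,1),(0,2),(3,2),(0,2),(0,2),(0,1),(0,1),(0,2),(1,1),(0,1),(1,2),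
    (1,2),(0,2),(0,1),(0,1),(0,2),(0,2),(0,2),(0,1),(0,1),(3,2),(1,2),(1,2),(0,1),(4,2),(2,2),
    (2,2),(0,2),(0,2),(0,1),(0,2),(0,2),(0,2),(0,1),(0,1),(3,2),(1,2),(2,2),(0,1),(2,2),(2,2),
    (1,1),(0,1),(0,2),(0,2),(0,2),(0,1),(0,1),(0,1),(2,1),(0,1),(1,1),(0,1),(0,1),(3,1),(0,2),
    (0,2),(0,2),(0,2),(0,2),(2,2),(0,1),(0,2),(0,2),(1,1),(0,2),(0,2),(0,2),(0,2),(2,1),(1,2),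
    (1,1),(0,1),(1,2),(0,1),(0,1),(2,1),(0,2),(1,1),(0,2),(1,2),(0,1),(1,1),(1,1),(0,2),(0,2),
    (1,2),(0,1),(0,1),(1,1),(0,1),(0,2),(1,2),(0,2),(0,2),(1,1),(0,2),(0,2),(1,2),(0,1),(0,1),
    (1,1),(0,2),(1,2),(0,1),(1,1),(0,1),(1,2),(0,2),(0,1),(2,2),(0,2),(0,1),(1,1),(0,2),(1,1),
    (1,2),(0,1),(2,2),(0,1),(0,1),(2,2),(0,2),(1,2),(0,1),(0,2),(0,1)],
   [(0,2),(1,1),(1,1),(1,2),(0,1),(0,1),(0,2),(1,1),(1,2),(4,1),(0,1),(1,1),(0,1),(0,2),(0,1),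
    (0,2),(0,2),(1,2),(1,1),(1,2),(1,2),(2,1),(0,1),(0,2),(0,2),(0,2),(0,2),(1,1),(0,2),(5,2),
    (0,2),(0,2),(4,2),(2,1),(2,1),(0,2),(0,1),(0,1),(0,1),(0,2),(0,2),(0,1),(1,1),(0,2),(0,2),
    (1,2),(3,2),(1,1),(1,2),(0,1),(4,1),(1,1),(3,2),(0,1),(0,1),(0,1),(0,1),(0,1),(0,2),(0,2),
    (0,1),(3,2),(4,1),(0,2),(2,2),(2,2),(0,2),(0,1),(0,2),(0,1),(1,2),(1,1),(2,1),(0,1),(0,1),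
    (0,2),(1,2),(0,2),(0,2),(0,1),(0,1),(0,2),(4,1),(0,1),(1,1),(0,2),(0,1),(1,2),(1,1),(0,1),
    (0,2),(0,1),(0,1),(0,1),(0,2),(0,1),(0,2),(0,2),(2,1),(1,2),(0,2),(0,1),(0,1),(0,1),(0,2),
    (0,2),(0,1),(1,2),(0,2),(0,2),(1,1),(2,2),(0,2),(0,2),(0,1),(1,1),(1,2),(1,2),(0,2),(1,2),
    (0,2),(0,2),(0,2),(0,1),(0,1),(0,1),(1,2),(1,2),(0,2),(1,2),(2,2),(0,2),(1,2),(2,2),(0,1),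
    (0,2),(0,1),(0,1),(1,1),(2,2),(0,2),(0,1),(1,2),(2,2),(0,1),(0,2),(0,1),(1,2),(0,1),(1,1),
    (0,2),(1,1)],
   [(0,1),(1,2),(0,2),(0,2),(1,1),(0,2),(0,1),(1,2),(2,1),(4,2),(1,1),(0,2),(3,1),(0,2),(0,1),
    (0,1),(0,2),(2,1),(0,1),(2,1),(0,1),(0,1),(0,2),(0,1),(1,2),(0,1),(0,2),(0,1),(6,1),(0,1),
    (3,2),(0,1),(0,2),(0,1),(4,1),(0,1),(2,1),(0,1),(0,1),(1,2),(0,2),(0,1),(1,2),(3,1),(1,1),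
    (1,1),(0,1),(4,1),(2,2),(3,2),(0,2),(0,2),(0,2),(0,1),(0,1),(0,2),(1,2),(2,1),(1,2),(0,1),
    (0,1),(0,1),(0,2),(2,2),(1,1),(2,2),(0,2),(2,2),(0,2),(0,1),(0,1),(4,1),(1,2),(0,2),(0,2),
    (0,1),(0,1),(0,2),(2,2),(0,2),(0,2),(1,2),(4,1),(0,2),(0,1),(1,1),(2,1),(1,1),(0,1),(1,1),
    (0,1),(0,1),(0,1),(0,2),(0,2),(0,1),(0,2),(0,2),(1,1),(0,1),(3,2),(2,2),(1,1),(0,2),(0,2),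
    (0,1),(1,1),(0,2),(0,2),(1,2),(1,1),(2,2),(1,2),(0,1),(0,2),(0,1),(1,1),(0,1),(0,2),(1,2),
    (0,1),(0,1),(2,2),(0,1),(0,2),(1,2),(1,1),(1,2),(1,1),(1,2),(2,2),(1,2),(0,1),(2,1),(0,2),
    (0,1),(0,1),(0,2),(0,1),(3,1),(0,2)],
   [(0,2),(1,1),(0,2),(2,2),(0,1),(1,2),(0,1),(0,2),(1,2),(4,1),(0,2),(0,2),(0,1),(0,2),(0,1),
    (0,2),(0,2),(0,2),(1,1),(0,2),(0,2),(0,2),(1,2),(2,2),(0,2),(2,2),(1,2),(0,1),(0,1),(0,2),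
    (5,1),(0,1),(0,1),(0,2),(2,1),(0,2),(0,1),(0,2),(0,2),(3,2),(0,2),(0,1),(0,1),(1,1),(0,2),
    (1,2),(2,2),(0,1),(3,2),(1,1),(1,2),(0,1),(8,2),(2,1),(0,2),(0,2),(2,1),(0,2),(0,1),(0,2),
    (2,2),(3,2),(0,1),(0,1),(2,1),(3,2),(0,1),(0,2),(0,2),(0,2),(0,1),(1,2),(1,1),(0,2),(3,2),
    (0,1),(0,1),(0,1),(2,1),(0,2),(0,1),(1,1),(2,2),(1,2),(0,1),(1,2),(1,1),(0,1),(0,2),(0,1),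
    (0,2),(1,2),(0,2),(0,2),(1,1),(0,2),(0,2),(0,2),(2,2),(2,1),(1,2),(0,2),(1,1),(0,2),(1,2),
    (0,1),(0,2),(0,1),(0,1),(0,2),(1,2),(2,2),(1,2),(0,2),(0,2),(0,2),(2,1),(2,1),(0,2),(0,1),
    (0,2),(0,2),(0,2),(1,2),(1,2),(0,2),(3,1),(0,1),(0,1),(0,2),(1,2),(0,1),(1,1),(2,1),(0,2),
    (0,2),(2,1),(0,1),(0,1),(0,2),(1,2),(1,2),(0,1),(1,1),(0,1),(1,2)],
   [(1,1),(0,1),(0,2),(0,1),(0,1),(0,2),(0,1),(0,2),(0,1),(0,2),(0,2),(2,1),(0,1),(0,1),(0,2),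
    (2,2),(0,2),(0,1),(1,1),(1,1),(0,1),(0,1),(1,2),(0,2),(0,1),(0,1),(0,2),(0,2),(1,1),(0,2),
    (1,2),(0,1),(0,2),(1,1),(0,2),(0,1),(0,2),(0,2),(0,2),(0,1),(0,1),(1,1),(0,2),(0,2),(0,1),
    (2,2),(1,1),(0,1),(0,1),(0,1),(0,2),(2,2),(0,1),(1,2),(0,2),(0,1),(0,1),(0,2),(0,1),(0,1),
    (0,1),(0,1),(0,2),(0,2),(0,1),(1,1),(0,2),(0,1),(0,1),(0,1),(0,1),(0,1),(0,1),(0,1),(1,1),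
    (0,1),(0,2),(0,2),(4,1),(0,1),(2,2),(0,1),(0,1),(0,2),(0,1),(0,1),(0,1),(1,2),(1,1),(0,2),
    (0,2),(0,1),(0,2),(2,2),(0,1),(1,2),(1,1),(0,2),(0,2),(0,1),(0,2),(0,1),(0,1),(0,2),(0,1),
    (0,2),(1,2),(0,2),(0,1),(0,1),(0,1),(0,2),(1,2),(0,2),(0,2),(0,1),(1,1),(0,1),(0,2),(2,1),
    (0,2),(1,1),(2,1),(0,2),(1,1),(0,2),(1,1),(0,1),(0,2),(2,1),(1,1),(0,2),(0,2),(1,2),(0,2),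
    (0,2),(0,2),(0,2),(0,1),(0,2),(2,1),(0,1),(0,2),(0,1),(2,1),(0,1),(3,1),(0,2),(1,1),(2,1),
    (1,1),(1,1),(1,1),(1,2),(1,2),(0,2),(0,1),(3,1),(0,2),(2,2),(0,1),(0,1),(0,2),(1,1),(0,2),
    (0,2),(0,2),(0,2),(0,1),(0,2),(1,1),(0,2),(0,2),(2,2),(0,1),(0,1)],
   [(1,2),(0,2),(0,1),(1,2),(0,1),(0,2),(0,1),(0,2),(0,2),(0,1),(1,2),(0,2),(0,2),(0,2),(0,1),
    (0,2),(0,1),(1,2),(0,2),(1,1),(1,2),(0,2),(0,2),(0,1),(1,1),(0,1),(0,1),(0,1),(0,2),(1,2),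
    (0,1),(0,2),(1,1),(0,2),(0,1),(0,2),(0,1),(0,2),(0,1),(0,1),(0,2),(0,1),(0,1),(0,2),(0,1),
    (1,1),(0,2),(0,1),(1,2),(2,1),(0,2),(0,1),(0,1),(0,1),(1,1),(0,2),(1,2),(1,2),(2,2),(0,1),
    (0,2),(0,2),(0,1),(0,1),(0,2),(0,1),(0,2),(0,1),(0,1),(0,2),(0,2),(0,2),(0,2),(0,2),(0,2),
    (1,2),(0,1),(0,2),(0,2),(1,2),(6,1),(0,2),(0,2),(0,1),(0,2),(0,2),(1,1),(2,2),(0,1),(0,1),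
    (0,2),(2,2),(1,1),(0,1),(0,1),(0,2),(0,2),(1,2),(0,1),(0,1),(1,1),(0,1),(0,2),(0,2),(0,1),
    (0,2),(1,1),(1,2),(0,2),(1,1),(0,1),(0,2),(1,2),(0,1),(5,2),(0,2),(1,2),(0,2),(0,2),(0,1),
    (0,2),(0,1),(0,1),(0,2),(1,1),(0,1),(0,2),(2,2),(5,2),(0,1),(1,1),(0,1),(0,2),(0,1),(0,1),
    (0,2),(0,1),(0,2),(0,2),(0,1),(1,2),(0,1),(0,1),(0,1),(0,1),(0,2),(1,1),(0,1),(2,1),(0,1),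
    (0,2),(2,1),(0,2),(1,2),(0,1),(2,2),(0,1),(0,1),(1,2),(1,2),(2,2),(0,1),(0,1),(0,1),(0,1),
    (4,2),(0,1),(1,2),(2,2),(0,1),(0,1),(0,1),(0,2),(1,2)],
   [(1,2),(0,2),(0,2),(0,1),(0,2),(0,1),(0,2),(0,1),(0,1),(0,2),(0,1),(2,2),(0,2),(0,2),(0,1),
    (0,2),(4,2),(0,1),(2,2),(3,1),(0,2),(1,1),(0,1),(0,1),(1,2),(1,2),(1,1),(0,1),(0,2),(0,1),
    (0,2),(0,1),(0,1),(0,1),(0,2),(0,1),(2,2),(0,1),(0,2),(0,1),(0,1),(0,1),(1,2),(0,1),(0,2),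
    (0,1),(0,1),(0,1),(1,1),(0,2),(0,2),(1,1),(2,1),(0,1),(1,2),(0,2),(0,1),(0,1),(0,2),(0,2),
    (0,2),(0,1),(0,2),(0,2),(0,2),(0,2),(0,2),(0,2),(0,2),(0,1),(0,1),(0,1),(0,2),(0,2),(1,1),
    (2,1),(4,2),(0,2),(0,1),(0,2),(0,2),(0,2),(0,1),(0,1),(1,2),(0,1),(0,2),(0,2),(1,1),(1,1),
    (0,1),(1,1),(1,2),(0,2),(1,1),(0,1),(1,1),(0,1),(1,1),(0,2),(0,1),(0,2),(1,1),(1,1),(1,2),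
    (0,1),(0,2),(0,1),(0,1),(0,1),(0,1),(0,2),(0,1),(1,1),(0,1),(0,1),(0,1),(0,1),(1,2),(1,1),
    (0,2),(0,2),(0,1),(0,2),(0,1),(1,2),(2,2),(2,1),(0,2),(0,1),(0,2),(0,2),(0,1),(0,2),(1,1),
    (0,2),(0,2),(2,1),(2,1),(2,1),(0,2),(1,2),(0,2),(0,1),(1,1),(1,2),(0,1),(0,2),(0,1),(0,1),
    (0,1),(0,2),(0,1),(0,1),(1,2),(0,1),(0,1),(0,2),(0,2),(0,2),(2,2),(1,1),(2,2),(0,2),(1,1),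
    (1,1),(0,2),(3,2),(0,2),(0,2),(2,2),(1,2),(0,2),(0,1)],
   [(1,2),(0,2),(2,2),(0,1),(0,2),(0,1),(0,2),(0,1),(0,1),(0,1),(1,2),(0,2),(0,2),(0,1),(0,1),
    (1,2),(0,1),(1,2),(2,2),(0,1),(1,2),(0,2),(1,1),(2,1),(0,2),(1,1),(0,1),(0,2),(0,2),(0,1),
    (0,2),(0,2),(0,1),(0,2),(0,1),(0,1),(0,2),(0,2),(0,2),(0,1),(0,1),(0,2),(0,1),(0,2),(0,1),
    (0,1),(2,1),(0,1),(0,2),(0,1),(0,1),(0,1),(0,1),(0,2),(3,2),(1,2),(0,1),(0,1),(0,1),(0,2),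
    (0,2),(0,1),(0,1),(0,2),(1,2),(0,1),(1,2),(0,2),(0,2),(0,2),(0,2),(0,2),(1,1),(0,1),(0,1),
    (0,1),(0,2),(1,1),(0,1),(4,1),(0,2),(0,2),(0,2),(0,2),(0,2),(0,1),(0,1),(1,2),(0,2),(0,1),
    (0,2),(0,2),(0,1),(1,2),(0,2),(3,1),(0,1),(0,1),(0,1),(0,1),(1,2),(5,1),(0,1),(3,1),(1,1),
    (0,2),(0,2),(0,1),(0,1),(0,1),(0,1),(0,2),(0,2),(0,2),(1,1),(0,2),(1,2),(0,2),(1,1),(0,2),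
    (0,1),(0,1),(3,1),(0,2),(4,1),(0,1),(0,1),(0,2),(0,1),(0,2),(0,1),(0,2),(2,2),(0,1),(0,2),
    (0,2),(1,2),(0,1),(1,1),(0,2),(0,2),(0,1),(0,2),(0,2),(0,1),(0,2),(0,2),(0,2),(0,1),(1,2),
    (1,2),(1,2),(0,1),(2,2),(0,1),(1,2),(0,1),(2,1),(1,2),(0,1),(1,1),(0,2),(0,1),(0,1),(0,2),
    (1,2),(0,1),(0,1),(0,1),(0,1),(0,1),(1,2),(0,1),(0,1),(0,2),(0,2),(0,1),(0,2),(1,2)],
   [(1,1),(0,1),(2,1),(0,2),(0,1),(0,1),(0,1),(0,2),(1,2),(0,2),(0,1),(0,1),(0,1),(0,2),(0,2),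
    (2,2),(0,2),(0,2),(0,1),(0,1),(2,2),(2,1),(0,1),(0,1),(0,1),(0,2),(2,2),(0,1),(0,2),(2,2),
    (0,1),(0,2),(0,1),(0,2),(0,2),(0,2),(0,2),(0,2),(0,1),(1,2),(0,2),(0,1),(1,2),(0,1),(1,1),
    (0,2),(0,1),(0,1),(0,1),(0,2),(1,1),(0,2),(0,1),(3,2),(1,1),(0,1),(0,1),(0,1),(0,2),(0,2),
    (0,1),(0,2),(0,1),(0,2),(1,1),(0,1),(0,1),(0,1),(0,1),(0,1),(1,2),(0,1),(0,1),(0,2),(1,1),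
    (0,2),(0,1),(0,2),(0,1),(2,2),(0,1),(0,1),(0,2),(0,1),(0,2),(0,2),(0,1),(0,1),(0,2),(0,1),
    (0,2),(0,2),(0,1),(2,2),(0,2),(1,1),(1,2),(0,2),(0,1),(0,1),(1,2),(2,1),(0,1),(0,2),(1,1),
    (0,2),(0,1),(0,2),(0,1),(2,1),(0,1),(0,2),(1,1),(1,2),(1,2),(0,1),(0,2),(0,1),(0,2),(3,1),
    (0,2),(1,1),(0,2),(1,2),(1,1),(0,1),(1,1),(0,1),(1,1),(0,2),(0,2),(1,1),(1,2),(1,2),(0,2),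
    (0,2),(0,1),(0,2),(0,2),(1,2),(2,1),(3,1),(0,1),(1,2),(0,1),(0,1),(0,1),(0,2),(0,1),(0,2),
    (0,2),(1,1),(0,1),(0,1),(2,1),(2,2),(0,1),(0,1),(0,2),(2,1),(2,1),(1,2),(0,1),(0,1),(0,1),
    (3,1),(2,1),(0,1),(0,2),(0,2),(0,2),(0,2),(0,2),(0,2),(0,2)],
   [(1,1),(0,1),(1,1),(0,1),(0,2),(0,1),(0,2),(3,1),(1,1),(0,1),(0,1),(0,2),(1,1),(1,1),(0,2),
    (3,2),(0,1),(1,2),(0,1),(0,2),(0,2),(0,2),(0,1),(0,1),(3,1),(2,1),(1,1),(0,2),(0,1),(0,2),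
    (0,2),(0,2),(0,1),(0,1),(2,2),(0,2),(0,1),(1,1),(1,2),(0,1),(0,1),(0,1),(2,1),(0,1),(0,1),
    (0,1),(0,2),(1,2),(0,2),(0,2),(1,2),(0,1),(0,1),(0,1),(0,2),(0,2),(0,1),(1,1),(0,2),(1,1),
    (0,1),(0,1),(0,1),(0,2),(0,1),(1,1),(0,1),(0,1),(0,2),(0,2),(1,1),(2,2),(0,1),(1,2),(0,1),
    (0,1),(0,1),(0,1),(0,1),(1,1),(1,2),(0,1),(0,2),(0,2),(0,1),(0,2),(0,2),(2,1),(0,1),(2,1),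
    (2,2),(2,2),(3,2),(1,1),(0,2),(1,2),(1,2),(0,1),(0,1),(0,1),(1,1),(1,1),(0,1),(7,2),(0,1),
    (2,2),(0,2),(0,2),(0,2),(2,1),(0,2),(1,2),(0,2),(1,1),(0,1),(0,1),(1,2),(0,1),(0,1),(1,1),
    (0,2),(0,2),(1,2),(2,1),(0,1),(1,2),(0,1),(0,2),(1,1),(0,2),(1,2),(3,1),(0,1),(1,1),(0,1),
    (0,1),(1,1),(1,1),(0,1),(0,1),(2,2),(0,1),(0,1),(0,1),(0,2),(0,2),(0,1),(0,2),(1,1),(0,1),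
    (0,2),(0,1),(2,1),(0,1),(0,1),(1,1),(0,2),(0,1),(0,1),(0,1),(1,1),(1,2)],
   [(1,2),(0,2),(1,1),(0,2),(0,1),(0,2),(2,2),(1,2),(1,2),(0,2),(0,2),(0,1),(3,2),(0,2),(1,1),
    (2,1),(1,2),(0,1),(0,1),(0,1),(0,1),(0,1),(0,2),(1,1),(0,1),(0,2),(1,2),(2,2),(0,1),(0,2),
    (0,1),(0,1),(0,1),(1,1),(2,1),(0,1),(0,2),(0,1),(0,2),(1,1),(0,1),(0,2),(0,2),(0,2),(1,1),
    (0,2),(0,2),(0,2),(0,1),(0,1),(0,1),(0,1),(2,1),(0,2),(0,2),(0,2),(0,1),(0,1),(0,2),(0,2),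
    (0,2),(0,1),(0,1),(0,2),(0,2),(0,2),(0,2),(1,2),(1,1),(0,2),(0,2),(0,2),(0,1),(1,2),(1,2),
    (0,1),(2,2),(0,2),(0,2),(0,2),(0,2),(0,1),(1,1),(0,2),(0,1),(0,2),(0,1),(0,1),(0,2),(0,2),
    (0,1),(0,1),(0,1),(0,1),(0,1),(2,1),(0,1),(0,1),(2,2),(0,1),(1,1),(4,2),(0,2),(0,2),(0,2),
    (0,1),(2,1),(2,2),(0,1),(0,2),(0,1),(0,1),(0,2),(1,1),(0,2),(1,1),(1,2),(1,1),(0,2),(0,2),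
    (0,2),(0,2),(1,1),(0,1),(0,1),(1,2),(4,2),(0,1),(1,1),(0,1),(0,2),(2,1),(0,1),(0,2),(0,1),
    (0,2),(0,2),(1,2),(1,2),(1,1),(1,1),(1,1),(0,1),(0,1),(0,1),(0,1),(1,1),(0,1),(0,1),(0,1),
    (0,1),(0,1),(1,2),(0,1),(0,1),(0,1),(1,1),(0,2),(0,2),(0,2),(0,1),(0,2),(1,2),(1,1),(0,1),
    (2,2),(3,2),(0,1),(0,2),(3,2),(0,2),(0,1),(0,2)],
   [(1,1),(0,1),(0,1),(1,1),(0,2),(0,1),(0,1),(2,1),(2,1),(0,1),(0,1),(0,2),(4,2),(0,2),(0,1),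
    (0,2),(0,1),(0,1),(0,2),(2,1),(0,1),(0,1),(0,2),(0,1),(1,2),(0,1),(2,1),(0,1),(0,2),(0,1),
    (0,2),(0,1),(0,2),(0,2),(1,1),(0,1),(0,2),(0,1),(0,2),(0,2),(0,1),(0,1),(0,1),(1,2),(0,1),
    (0,1),(0,1),(2,1),(0,2),(0,2),(0,2),(1,1),(4,1),(0,1),(0,1),(0,1),(0,2),(0,2),(0,1),(1,1),
    (0,2),(1,1),(0,1),(0,1),(0,1),(0,2),(0,1),(0,1),(0,1),(0,2),(1,1),(0,1),(0,2),(4,2),(1,1),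
    (0,1),(0,1),(0,1),(0,1),(2,2),(1,2),(0,1),(0,2),(1,1),(0,1),(0,1),(0,1),(0,1),(1,2),(0,1),
    (1,2),(0,1),(0,1),(1,1),(2,2),(0,1),(0,2),(0,1),(0,1),(0,1),(0,2),(4,1),(0,1),(0,1),(3,2),
    (1,2),(0,2),(1,1),(0,1),(0,2),(0,1),(0,1),(0,2),(0,1),(0,1),(1,1),(0,2),(0,2),(1,2),(0,2),
    (0,2),(0,2),(0,1),(0,2),(1,1),(0,1),(0,1),(1,1),(0,1),(0,2),(0,2),(1,1),(0,1),(0,2),(0,2),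
    (1,2),(0,2),(1,2),(1,2),(3,2),(1,2),(1,1),(0,1),(1,1),(1,1),(0,1),(0,1),(2,2),(0,1),(1,1),
    (2,2),(1,2),(0,1),(0,2),(0,2),(0,1),(3,2),(0,2),(0,1),(2,1),(0,1),(1,2),(0,1),(0,2),(0,1),
    (0,1),(0,1),(2,2),(0,2)],
   [(3,2),(0,1),(3,2),(0,1),(0,1),(1,1),(0,2),(0,2),(1,1),(0,2),(0,2),(1,2),(0,1),(1,1),(0,1),
    (1,2),(1,2),(0,1),(0,1),(1,1),(1,2),(0,1),(0,2),(0,1),(1,2),(0,1),(12,1),(0,2),(3,1),(0,2),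
    (3,2),(0,1),(0,2),(0,1),(0,1),(1,2),(0,2),(0,1),(1,1),(0,2),(1,1),(1,2),(0,1),(0,1),(1,1),
    (0,2),(0,1),(1,2),(0,2),(3,2),(1,2),(0,2),(0,1),(0,1),(0,1),(0,2),(0,1),(0,2),(0,2),(0,2),
    (0,2),(4,2),(3,2),(0,1),(0,2),(0,1),(1,2),(0,2),(2,2),(0,1),(1,1),(2,2),(0,1),(0,2),(2,1),
    (1,1),(0,1),(0,1),(0,1),(1,2),(1,1),(0,1),(0,1),(0,2),(0,2),(1,1),(0,2),(1,1),(1,2),(0,1),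
    (0,1),(0,1),(0,2),(2,2),(2,2),(0,2),(0,2),(0,2),(0,1),(0,1),(0,1),(2,2),(0,1),(0,2),(0,1),
    (0,2),(1,1),(1,2),(0,2),(0,2),(1,2),(1,1),(0,1),(1,1),(1,1),(0,2),(0,1),(0,2),(0,2),(0,1),
    (0,2),(0,1),(0,1),(0,2),(1,1),(0,1),(0,2),(2,1),(0,2),(0,1),(0,2),(2,2),(0,2),(0,1),(0,1),
    (0,1),(0,1),(1,2),(0,1),(0,1),(3,1),(0,1),(0,1),(0,1),(0,2),(2,2),(0,1),(0,2),(2,2),(0,2),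
    (0,1),(1,1),(1,2),(0,1),(2,2)],
   [(3,1),(0,1),(3,1),(0,1),(0,2),(2,2),(0,1),(1,2),(0,1),(0,2),(1,2),(3,2),(0,2),(0,1),(1,1),
    (0,1),(0,1),(0,2),(1,2),(0,2),(1,1),(0,2),(1,1),(0,1),(0,2),(0,1),(6,2),(0,1),(0,1),(0,1),
    (0,2),(0,1),(2,2),(1,1),(0,2),(1,1),(0,1),(0,2),(0,2),(0,1),(1,1),(0,1),(1,2),(1,2),(0,2),
    (0,2),(1,2),(0,1),(0,2),(0,2),(1,2),(0,2),(0,2),(1,1),(0,1),(3,1),(1,1),(0,1),(3,1),(0,1),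
    (0,1),(0,1),(0,2),(0,2),(0,1),(0,1),(2,1),(0,2),(2,2),(0,1),(0,2),(0,1),(1,1),(0,2),(1,2),
    (0,1),(2,1),(0,2),(0,2),(0,1),(0,2),(0,2),(0,1),(1,2),(2,2),(0,1),(0,1),(0,1),(0,2),(1,1),
    (0,2),(0,2),(0,2),(0,1),(0,2),(0,1),(0,1),(0,1),(2,2),(0,1),(0,1),(0,1),(0,2),(1,2),(0,1),
    (0,1),(3,2),(1,2),(0,2),(1,2),(0,2),(0,1),(0,1),(0,1),(0,1),(0,1),(0,2),(0,2),(1,2),(0,1),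
    (0,2),(0,2),(0,1),(0,2),(1,2),(0,2),(0,2),(3,1),(1,2),(0,2),(1,2),(0,2),(1,2),(2,2),(5,2),
    (0,2),(0,1),(0,2),(0,1),(0,1),(1,1),(0,1),(2,2),(0,1),(2,2),(0,2),(0,1),(1,1),(4,2),(0,2),
    (0,1),(3,2),(0,1),(4,1),(1,1)],
   [(3,1),(0,2),(3,2),(0,2),(2,1),(0,1),(0,1),(1,2),(0,1),(0,2),(1,2),(0,1),(2,2),(0,2),(0,2),
    (1,2),(0,2),(0,1),(1,1),(0,1),(0,2),(0,2),(0,2),(0,1),(0,2),(1,2),(1,1),(8,2),(0,2),(0,1),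
    (4,2),(0,1),(0,2),(1,2),(0,1),(1,1),(0,1),(0,2),(0,1),(0,2),(0,2),(2,1),(0,2),(0,1),(0,2),
    (1,1),(0,2),(0,2),(1,2),(0,2),(0,2),(1,1),(0,1),(3,2),(1,2),(1,1),(2,1),(0,1),(0,1),(1,1),
    (0,2),(0,2),(3,1),(3,1),(0,1),(0,1),(2,1),(2,2),(0,1),(2,1),(0,2),(0,2),(0,1),(1,1),(0,2),
    (2,2),(1,1),(1,1),(1,1),(0,1),(1,1),(3,1),(0,1),(2,2),(0,1),(1,2),(0,2),(0,2),(1,1),(0,1),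
    (1,1),(0,2),(2,2),(0,1),(0,2),(2,2),(0,2),(0,1),(1,1),(1,1),(1,1),(1,2),(0,1),(1,1),(1,1),
    (0,1),(0,2),(0,1),(0,2),(0,1),(0,2),(0,2),(0,1),(0,2),(0,2),(0,2),(1,2),(2,2),(2,1),(0,2),
    (0,2),(0,2),(2,2),(0,2),(1,2),(0,1),(0,2),(3,2),(0,1),(1,1),(1,2),(0,2),(0,2),(1,1),(0,1),
    (0,1),(1,2),(0,2),(0,2),(0,2),(3,2),(0,1),(4,2),(0,1)],
   [(3,2),(0,1),(3,1),(0,2),(0,2),(1,2),(0,1),(0,1),(1,2),(0,1),(0,2),(0,2),(0,1),(0,2),(0,2),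
    (0,1),(0,1),(1,2),(0,1),(0,2),(0,1),(0,2),(2,1),(0,2),(0,1),(0,2),(0,1),(2,2),(1,1),(0,1),
    (5,1),(3,2),(4,1),(0,2),(1,1),(0,2),(0,1),(0,2),(0,1),(0,1),(2,2),(0,1),(0,1),(0,2),(0,1),
    (0,1),(0,1),(0,1),(0,1),(0,1),(0,2),(0,2),(1,2),(0,1),(0,2),(1,2),(0,1),(3,2),(1,1),(2,1),
    (0,1),(0,2),(1,2),(0,2),(0,2),(0,2),(0,1),(0,1),(2,1),(0,2),(2,1),(0,2),(0,2),(2,1),(3,1),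
    (3,2),(0,2),(0,1),(0,2),(0,2),(0,1),(0,1),(0,1),(2,1),(0,2),(0,2),(0,1),(0,1),(1,1),(0,2),
    (0,1),(1,2),(0,1),(0,2),(0,1),(0,2),(1,2),(1,2),(0,2),(0,2),(1,1),(0,1),(1,2),(0,2),(0,2),
    (0,1),(0,1),(0,1),(1,1),(0,2),(0,1),(0,1),(1,2),(1,2),(1,2),(2,1),(0,1),(0,2),(0,2),(0,1),
    (1,1),(0,1),(1,1),(1,2),(1,1),(1,1),(0,1),(0,1),(1,1),(0,1),(0,2),(0,1),(1,1),(0,2),(0,2),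
    (1,2),(0,2),(0,1),(1,1),(0,2),(1,1),(0,2),(1,2),(0,2),(0,1),(1,2),(0,2),(0,2),(0,1),(0,1),
    (0,1),(0,2),(0,1),(1,2),(0,1),(1,2),(1,1),(0,1),(0,2),(0,2),(0,2),(1,1),(0,2),(0,2),(1,2),
    (0,1),(0,1)],
   [(3,1),(0,2),(4,1),(0,1),(1,2),(0,1),(0,2),(1,1),(0,2),(0,1),(0,1),(1,2),(0,1),(0,2),(1,1),
    (0,1),(1,2),(0,1),(0,2),(0,1),(0,2),(0,1),(1,2),(1,2),(1,1),(0,1),(1,1),(7,1),(0,1),(0,2),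
    (0,2),(0,1),(3,2),(0,2),(0,1),(1,2),(0,2),(0,1),(0,2),(0,1),(0,1),(0,2),(1,1),(0,2),(0,2),
    (1,2),(0,1),(2,2),(0,1),(0,1),(1,1),(0,1),(0,1),(1,1),(0,2),(3,2),(3,2),(1,2),(0,2),(1,1),
    (0,1),(0,2),(0,2),(1,2),(2,2),(0,1),(1,2),(0,2),(1,2),(0,2),(1,2),(0,1),(1,2),(1,2),(2,1),
    (0,1),(1,2),(1,2),(0,1),(0,2),(0,1),(1,1),(2,1),(1,2),(0,2),(1,2),(0,1),(1,1),(1,1),(2,2),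
    (1,2),(0,2),(0,2),(1,1),(0,1),(2,2),(0,2),(1,2),(0,1),(0,1),(0,2),(0,1),(0,2),(1,2),(0,1),
    (0,2),(0,2),(0,2),(1,1),(2,2),(1,2),(0,1),(0,2),(0,1),(1,2),(2,1),(0,2),(0,1),(0,1),(0,2),
    (0,1),(0,2),(1,2),(3,1),(0,2),(1,2),(1,1),(0,1),(3,2),(3,1),(2,2),(0,1),(1,2),(0,2),(2,1),
    (0,1),(0,1),(0,1),(0,1),(0,1),(0,1),(0,1),(0,1),(0,2),(0,2),(0,2),(0,2),(0,1),(1,2),(1,2),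
    (0,1),(0,1),(0,2),(0,1)],
   [(3,1),(0,1),(3,1),(0,2),(0,2),(0,1),(1,2),(0,2),(1,1),(0,2),(0,2),(0,2),(0,1),(1,2),(0,1),
    (0,2),(0,1),(0,2),(2,2),(0,1),(2,1),(2,2),(2,1),(0,2),(0,1),(0,2),(0,1),(8,1),(0,2),(0,1),
    (2,1),(1,1),(0,1),(2,2),(0,2),(0,1),(2,2),(0,2),(1,2),(1,1),(0,2),(0,1),(0,1),(1,2),(0,1),
    (0,1),(1,1),(0,2),(0,1),(1,1),(0,2),(5,2),(0,1),(0,2),(1,1),(0,1),(0,1),(0,1),(0,2),(0,1),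
    (1,1),(0,2),(0,2),(1,2),(0,1),(2,1),(1,1),(0,1),(1,2),(0,2),(1,1),(1,2),(0,2),(1,1),(0,1),
    (1,1),(0,1),(2,1),(0,2),(0,2),(0,2),(0,1),(0,1),(1,1),(0,2),(1,2),(1,1),(1,2),(1,1),(3,1),
    (3,1),(0,2),(0,1),(2,2),(1,2),(0,1),(0,2),(0,1),(0,2),(0,1),(2,2),(0,1),(0,2),(0,1),(0,2),
    (0,2),(0,2),(1,1),(1,2),(0,1),(3,1),(3,1),(0,2),(0,2),(1,1),(1,1),(0,2),(0,1),(1,1),(1,2),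
    (1,2),(0,1),(0,2),(3,2),(1,2),(0,2),(1,1),(0,1),(0,1),(0,1),(1,2),(1,1),(3,1),(1,2),(0,1),
    (0,1),(0,2),(1,2),(0,2),(3,2),(1,1),(1,1),(0,1),(1,1)],
   [(3,2),(0,2),(3,2),(0,1),(0,2),(0,2),(2,1),(1,2),(0,1),(0,1),(0,2),(0,2),(2,2),(0,2),(0,2),
    (0,2),(0,2),(0,2),(0,1),(0,2),(2,2),(0,1),(1,1),(2,2),(0,1),(1,2),(8,1),(0,2),(0,1),(0,2),
    (4,2),(0,1),(0,2),(1,1),(0,2),(0,2),(0,2),(1,1),(0,1),(0,2),(3,2),(0,2),(0,2),(1,1),(0,2),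
    (0,2),(1,2),(0,2),(0,2),(1,1),(0,1),(3,2),(1,1),(1,1),(2,2),(0,2),(1,1),(0,1),(0,1),(0,1),
    (0,1),(0,1),(1,1),(0,2),(1,2),(0,2),(0,2),(0,1),(0,2),(1,1),(0,1),(1,2),(0,1),(2,1),(0,2),
    (0,2),(0,1),(0,1),(1,1),(1,2),(1,2),(1,1),(0,2),(0,1),(0,2),(1,2),(0,1),(0,1),(0,1),(1,2),
    (0,1),(0,1),(0,2),(0,1),(3,2),(0,2),(1,2),(0,1),(1,2),(0,2),(0,2),(0,2),(0,1),(0,1),(0,2),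
    (0,1),(0,2),(1,1),(1,1),(1,2),(1,1),(0,2),(0,1),(1,2),(3,2),(2,1),(0,2),(0,2),(1,1),(0,2),
    (0,2),(0,2),(0,2),(0,1),(3,2),(1,1),(0,1),(1,2),(1,1),(1,2),(1,2),(0,2),(0,2),(0,2),(0,2),
    (0,1),(0,1),(0,1),(0,2),(0,2),(0,2),(1,2),(0,2),(0,1),(1,2),(0,1),(0,1),(1,2),(1,2),(3,1),
    (1,1),(1,2),(2,2),(0,1),(0,1)],
   [(3,2),(0,2),(4,2),(0,2),(0,1),(1,2),(0,2),(1,1),(0,2),(0,2),(0,1),(0,1),(1,2),(0,2),(0,1),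
    (0,1),(0,2),(2,1),(0,2),(0,1),(0,1),(0,1),(0,2),(1,2),(0,1),(0,2),(0,2),(0,2),(0,1),(0,2),
    (9,2),(0,1),(0,2),(2,1),(1,1),(3,2),(0,2),(0,1),(2,2),(0,2),(0,2),(0,1),(1,2),(0,1),(0,1),
    (2,2),(0,1),(0,1),(1,1),(0,2),(0,1),(1,1),(0,2),(5,1),(0,1),(3,1),(0,2),(1,2),(0,1),(1,1),
    (0,2),(0,2),(1,2),(0,1),(2,1),(0,2),(0,1),(0,2),(1,2),(0,1),(2,2),(0,1),(0,1),(0,2),(2,2),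
    (0,1),(0,2),(2,1),(0,2),(0,2),(1,1),(0,2),(1,1),(0,2),(1,1),(1,2),(0,1),(1,1),(0,2),(0,2),
    (0,2),(0,1),(0,2),(0,2),(0,1),(0,1),(0,2),(0,1),(1,2),(1,2),(1,2),(0,1),(0,1),(1,2),(0,1),
    (2,2),(0,1),(0,2),(0,1),(0,2),(1,1),(0,1),(0,2),(0,1),(1,2),(0,2),(3,2),(2,1),(1,1),(0,1),
    (0,2),(0,2),(1,1),(0,2),(0,2),(0,1),(2,1),(0,2),(1,2),(2,2),(0,2),(0,1),(0,2),(1,2),(0,2),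
    (0,2),(0,2),(0,1),(2,2),(0,2),(0,1),(0,1),(0,2),(0,2),(2,1),(1,2),(0,2),(0,1),(0,2),(1,2),
    (0,2),(0,1),(0,1),(2,1),(1,2),(2,2)],
   [(0,1),(0,1),(2,2),(0,1),(0,1),(0,2),(0,1),(0,2),(1,2),(2,2),(0,1),(0,2),(0,1),(2,1),(0,2),
    (0,2),(0,1),(1,2),(0,1),(0,1),(1,1),(1,1),(0,2),(0,2),(0,1),(0,1),(0,2),(0,1),(0,2),(0,1),
    (0,1),(0,1),(2,2),(0,1),(0,1),(0,2),(0,2),(0,2),(0,2),(0,1),(1,1),(1,2),(0,1),(0,1),(0,2),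
    (0,2),(1,1),(0,1),(0,2),(2,1),(4,2),(0,1),(0,1),(0,1),(1,1),(0,1),(0,2),(0,2),(0,1),(0,1),
    (0,2),(1,2),(0,1),(1,2),(0,1),(0,1),(0,1),(0,1),(0,1),(2,2),(0,1),(0,1),(0,1),(3,1),(2,2),
    (1,1),(0,2),(1,1),(0,1),(1,2),(1,1),(0,1),(0,1),(0,1),(0,1),(0,1),(0,1),(1,2),(0,2),(2,1),
    (0,2),(0,2),(0,1),(0,1),(2,2),(1,2),(0,2),(2,1),(0,1),(0,1),(0,2),(2,2),(3,2),(0,1),(0,1),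
    (1,1),(1,1),(0,1),(0,2),(1,1),(0,2),(1,1),(0,1),(0,2),(0,2),(0,2),(0,1),(4,2),(0,1),(0,1),
    (1,2),(0,2),(0,1),(2,2),(0,2),(0,1),(1,1),(1,1),(0,1),(1,1),(3,2),(0,2),(2,1),(0,2),(0,2),
    (0,2),(0,2),(0,2),(0,2),(0,2),(0,2),(0,1),(0,1),(1,2),(0,2),(1,2),(1,2),(1,1),(1,2),(0,2),
    (1,1),(0,1),(0,2),(0,1),(0,2),(0,2),(0,2),(1,1),(0,2),(0,2),(0,1),(0,1),(0,2),(1,2),(0,2),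
    (2,2),(2,2),(1,1)],
   [(0,2),(0,2),(3,2),(0,2),(0,1),(0,2),(1,2),(1,1),(0,2),(0,1),(0,2),(0,1),(0,2),(0,2),(0,2),
    (1,2),(0,1),(0,2),(1,2),(0,1),(0,2),(2,1),(0,2),(0,2),(0,1),(0,2),(0,1),(0,1),(0,1),(0,1),
    (0,2),(1,1),(1,2),(0,1),(0,2),(0,2),(0,1),(0,1),(0,2),(0,2),(0,1),(0,1),(0,2),(0,1),(0,1),
    (0,2),(0,2),(1,1),(2,1),(0,1),(1,2),(0,2),(4,2),(0,2),(0,1),(0,1),(1,2),(0,1),(0,1),(0,1),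
    (0,2),(0,2),(0,1),(0,1),(0,1),(0,2),(1,1),(0,2),(0,2),(0,2),(1,2),(1,2),(0,2),(0,1),(0,1),
    (0,1),(0,2),(3,2),(0,2),(0,2),(0,2),(0,2),(0,1),(1,2),(0,2),(0,1),(1,2),(1,2),(0,2),(0,2),
    (0,2),(0,1),(1,2),(1,2),(1,2),(6,2),(0,1),(1,2),(0,1),(1,2),(3,1),(2,1),(0,2),(0,1),(0,1),
    (0,1),(0,2),(0,1),(0,1),(0,2),(0,1),(0,2),(0,2),(0,2),(0,1),(0,2),(1,2),(0,2),(1,2),(1,2),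
    (0,2),(1,1),(0,1),(0,1),(1,2),(0,1),(0,2),(0,1),(0,2),(1,2),(2,1),(1,2),(0,1),(2,2),(0,2),
    (2,2),(1,1),(0,1),(0,1),(2,1),(0,1),(1,2),(0,1),(0,2),(0,1),(1,2),(0,1),(0,2),(1,2),(0,1),
    (2,2),(1,1),(1,2),(0,2),(1,1),(0,1),(0,1),(1,2),(0,1),(0,1),(1,2),(0,2),(0,2),(0,2),(0,1),
    (0,2),(0,2),(0,2),(0,1),(0,1),(2,2),(1,2),(0,1),(0,2)],
   [(0,2),(0,2),(2,2),(0,2),(0,2),(0,1),(0,2),(0,1),(1,1),(2,1),(0,2),(0,1),(0,2),(0,1),(1,2),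
    (0,1),(0,1),(2,1),(1,2),(0,1),(0,1),(0,1),(0,2),(0,1),(1,2),(0,2),(0,1),(1,2),(0,1),(0,2),
    (0,2),(1,2),(0,1),(0,2),(0,2),(0,1),(0,1),(0,1),(0,1),(0,1),(3,1),(0,2),(0,2),(0,1),(0,2),
    (1,2),(0,1),(0,1),(2,2),(2,2),(0,2),(1,2),(1,2),(0,1),(0,1),(1,1),(0,1),(0,2),(0,2),(0,1),
    (0,1),(0,1),(0,2),(1,1),(0,2),(0,2),(0,2),(0,2),(0,2),(0,2),(0,1),(0,2),(1,1),(0,2),(0,1),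
    (2,2),(0,1),(1,1),(0,2),(0,2),(0,1),(1,2),(0,2),(1,1),(1,1),(0,2),(0,2),(0,1),(0,2),(1,2),
    (2,2),(1,2),(0,1),(0,2),(0,1),(0,2),(0,1),(0,1),(0,1),(1,1),(1,2),(0,1),(0,1),(0,1),(0,2),
    (0,2),(1,2),(0,1),(0,1),(0,1),(3,1),(2,1),(0,2),(2,1),(0,1),(2,1),(0,2),(0,1),(0,2),(1,2),
    (0,1),(0,1),(1,1),(0,2),(2,2),(0,2),(0,2),(0,1),(1,2),(0,2),(0,2),(0,1),(0,2),(1,2),(0,1),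
    (0,2),(0,2),(0,2),(0,2),(1,1),(1,2),(1,2),(2,2),(0,2),(0,1),(1,2),(0,1),(1,1),(0,1),(0,2),
    (0,1),(1,2),(0,1),(1,1),(1,1),(0,2),(0,1),(2,1),(0,2),(1,2),(1,1),(0,1),(0,2),(1,2),(0,1),
    (0,2),(0,2),(0,1),(0,1),(1,2),(0,2),(3,1),(0,2),(0,1),(0,2),(0,2)],
   [(0,2),(0,2),(1,2),(1,2),(0,2),(0,1),(0,2),(0,1),(1,1),(0,2),(1,1),(0,2),(0,1),(0,2),(0,1),
    (1,2),(1,2),(1,2),(0,2),(1,1),(0,2),(3,2),(2,2),(2,1),(0,1),(0,1),(0,2),(1,1),(0,1),(0,2),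
    (0,2),(0,1),(0,1),(0,2),(1,2),(0,2),(0,1),(0,2),(0,1),(0,2),(0,2),(0,1),(2,1),(0,1),(0,1),
    (0,1),(0,1),(0,2),(2,1),(2,1),(2,1),(0,1),(0,1),(0,1),(0,1),(0,2),(0,2),(0,1),(1,1),(0,2),
    (0,1),(0,1),(0,2),(0,2),(0,2),(0,2),(0,2),(1,1),(0,2),(0,2),(3,2),(0,1),(1,2),(0,1),(0,2),
    (0,2),(0,2),(0,1),(1,2),(2,1),(0,1),(0,1),(0,2),(0,2),(1,2),(0,1),(0,2),(1,1),(0,2),(0,1),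
    (0,2),(1,2),(0,1),(0,1),(0,2),(0,1),(0,1),(1,1),(0,1),(0,1),(0,1),(0,2),(2,1),(0,1),(1,2),
    (0,1),(1,1),(0,1),(0,1),(0,2),(0,1),(0,2),(1,2),(2,2),(0,2),(0,2),(1,2),(0,1),(0,2),(0,2),
    (1,2),(2,2),(0,2),(1,1),(2,1),(2,2),(0,1),(2,2),(0,2),(0,1),(0,2),(1,1),(1,1),(0,1),(1,2),
    (1,1),(0,1),(1,1),(0,2),(0,2),(0,1),(0,1),(0,2),(0,1),(0,2),(0,1),(1,2),(0,2),(0,2),(1,2),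
    (0,1),(1,1),(2,2),(1,2),(0,2),(1,1),(0,1),(0,2),(0,1),(0,1),(0,1),(0,2),(1,2),(0,2),(0,2),
    (1,1),(0,1),(1,2),(0,2),(0,1),(1,1),(0,1),(2,2),(0,2)],
   [(0,1),(0,1),(1,2),(1,1),(0,1),(0,2),(0,2),(0,1),(1,2),(0,1),(0,2),(0,2),(0,1),(0,2),(0,1),
    (0,1),(2,2),(0,1),(2,1),(1,1),(1,1),(0,1),(0,2),(0,2),(0,1),(0,2),(0,1),(0,1),(1,2),(0,1),
    (0,2),(0,1),(0,2),(0,1),(0,2),(0,1),(0,1),(0,2),(0,2),(1,1),(0,2),(0,1),(1,2),(0,2),(0,1),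
    (2,1),(1,1),(0,2),(0,2),(2,1),(1,1),(1,2),(1,2),(3,1),(0,1),(0,2),(0,2),(0,1),(0,1),(0,2),
    (0,2),(0,2),(0,1),(0,1),(0,2),(0,1),(0,1),(0,1),(1,1),(1,2),(0,2),(0,2),(0,1),(0,2),(0,2),
    (0,2),(0,1),(0,2),(0,1),(1,2),(0,1),(0,1),(0,2),(1,1),(0,2),(1,1),(1,1),(0,1),(0,1),(1,1),
    (2,1),(0,2),(1,1),(2,2),(0,2),(0,2),(0,2),(0,2),(0,1),(0,1),(0,1),(0,2),(0,1),(1,1),(0,1),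
    (0,1),(0,1),(0,2),(1,1),(1,1),(0,2),(0,1),(1,2),(0,2),(0,2),(1,1),(0,2),(2,2),(0,2),(0,2),
    (0,1),(1,2),(0,1),(0,2),(0,1),(0,2),(0,1),(0,2),(0,1),(1,1),(1,1),(1,2),(0,2),(0,1),(2,2),
    (0,2),(0,2),(0,1),(1,1),(0,2),(0,1),(0,2),(0,2),(0,1),(0,1),(0,1),(0,2),(0,1),(0,1),(0,1),
    (1,1),(0,1),(1,1),(0,1),(0,1),(1,2),(1,1),(0,1),(0,2),(0,1),(0,1),(0,1),(0,1),(0,1),(0,2),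
    (0,1),(0,2),(0,1),(0,1),(0,1),(1,2),(0,2),(1,2),(0,1),(1,1),(1,1),(0,1),(0,2),(1,1),(0,2),
    (0,2),(0,1),(1,2),(0,2),(0,1),(1,2),(1,1)],
   [(0,1),(0,1),(1,2),(0,1),(0,1),(0,1),(0,2),(2,1),(0,1),(2,2),(0,1),(0,2),(0,1),(1,2),(1,1),
    (0,1),(0,2),(0,2),(0,2),(0,2),(1,2),(2,1),(0,1),(0,1),(0,2),(0,2),(0,1),(1,2),(2,2),(1,2),
    (0,2),(0,1),(0,1),(0,2),(0,2),(0,2),(0,2),(0,1),(2,2),(0,2),(0,1),(0,2),(0,1),(2,1),(0,1),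
    (0,2),(0,2),(0,2),(0,2),(0,2),(0,2),(1,1),(1,1),(0,2),(3,1),(0,2),(0,2),(0,1),(0,1),(0,2),
    (0,2),(0,2),(0,1),(0,2),(0,2),(0,1),(0,1),(0,1),(0,2),(0,1),(1,1),(0,2),(0,2),(0,1),(2,1),
    (3,2),(0,1),(0,1),(0,1),(0,2),(1,1),(0,1),(0,1),(0,1),(0,2),(0,1),(0,1),(0,1),(0,1),(0,1),
    (0,2),(0,2),(0,2),(3,2),(0,2),(0,1),(1,1),(0,1),(5,1),(1,2),(2,2),(0,2),(1,1),(1,1),(0,1),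
    (0,2),(1,2),(0,2),(0,1),(1,2),(1,2),(1,2),(0,2),(0,2),(0,1),(0,1),(0,2),(0,1),(0,2),(0,2),
    (0,1),(1,2),(0,1),(0,1),(0,2),(0,2),(0,1),(0,2),(1,1),(0,2),(0,2),(0,1),(0,1),(1,2),(1,1),
    (2,2),(3,1),(0,2),(2,1),(0,2),(0,2),(0,1),(2,2),(0,1),(0,1),(1,2),(0,2),(3,1),(1,2),(1,1),
    (0,2),(1,2),(0,1),(0,1),(0,2),(1,1),(2,2),(0,2),(6,2),(0,1),(0,1),(2,1),(1,1),(0,1),(0,1),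
    (2,1)],
   [(0,2),(0,2),(1,2),(0,1),(0,2),(0,2),(0,1),(0,2),(0,1),(1,1),(2,1),(0,2),(0,1),(0,2),(3,2),
    (0,1),(0,1),(1,1),(1,1),(0,2),(2,2),(0,2),(0,1),(0,2),(0,1),(0,1),(0,2),(1,2),(1,2),(0,2),
    (0,2),(0,1),(0,2),(0,2),(0,1),(0,1),(0,1),(0,1),(0,1),(3,1),(0,2),(0,2),(0,2),(1,1),(0,1),
    (0,2),(0,1),(1,1),(0,2),(3,1),(0,2),(1,2),(0,2),(1,1),(0,2),(0,1),(0,1),(0,2),(0,2),(0,1),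
    (0,2),(0,1),(0,2),(1,1),(0,2),(0,2),(0,2),(0,2),(0,2),(2,1),(0,1),(0,1),(2,1),(1,1),(2,1),
    (0,1),(0,2),(0,1),(1,2),(1,1),(0,1),(1,2),(0,2),(0,2),(0,2),(0,2),(1,2),(0,1),(0,1),(0,2),
    (0,1),(3,2),(0,1),(0,1),(0,1),(0,1),(2,1),(1,2),(3,1),(0,2),(0,2),(0,1),(1,1),(2,1),(0,1),
    (1,2),(0,1),(5,2),(1,2),(0,2),(1,2),(1,2),(1,2),(0,2),(0,2),(1,1),(0,1),(1,2),(0,1),(0,2),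
    (1,2),(0,2),(0,1),(2,2),(1,2),(0,2),(0,1),(0,2),(1,2),(1,2),(1,2),(0,1),(0,1),(1,1),(0,1),
    (0,1),(0,1),(0,2),(0,1),(0,1),(1,1),(0,1),(0,2),(0,2),(1,2),(0,1),(0,2),(0,1),(0,2),(0,1),
    (1,2),(0,2),(0,2),(1,1),(0,1),(1,1),(0,2),(0,1),(0,1),(0,1),(0,2),(0,2),(2,1),(1,2),(0,1),
    (0,2),(0,2),(0,1),(1,2),(0,1)],
   [(0,1),(0,1),(3,1),(0,1),(0,2),(0,2),(1,1),(0,1),(0,2),(1,2),(0,1),(0,2),(0,1),(4,1),(2,1),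
    (0,1),(0,1),(1,2),(0,1),(0,2),(0,2),(0,1),(0,1),(0,2),(0,2),(0,2),(0,1),(0,1),(3,1),(0,2),
    (0,1),(0,1),(0,2),(0,2),(0,2),(0,2),(0,1),(0,2),(0,2),(0,2),(0,2),(0,1),(0,2),(0,1),(1,1),
    (0,1),(0,1),(0,2),(0,2),(0,2),(0,1),(0,1),(3,2),(0,1),(1,1),(0,2),(1,1),(0,2),(0,2),(0,1),
    (0,1),(0,2),(1,2),(0,1),(0,1),(0,2),(0,1),(0,1),(0,1),(1,1),(0,2),(0,1),(0,1),(0,2),(2,1),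
    (3,1),(0,1),(0,1),(0,2),(0,1),(0,2),(1,1),(1,1),(0,2),(0,1),(0,1),(0,1),(0,1),(1,1),(1,2),
    (0,2),(1,1),(0,2),(1,2),(0,1),(0,1),(0,1),(0,1),(2,2),(3,1),(0,2),(0,2),(2,1),(0,1),(0,2),
    (0,1),(0,2),(0,2),(0,2),(0,1),(0,1),(1,2),(1,2),(0,2),(0,2),(2,2),(0,2),(0,1),(0,1),(0,2),
    (0,2),(0,2),(0,1),(0,2),(0,2),(0,1),(0,1),(0,2),(4,2),(0,2),(2,1),(1,1),(0,2),(0,1),(1,2),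
    (0,2),(0,1),(0,2),(1,2),(0,2),(0,1),(0,2),(0,2),(1,1),(1,2),(0,2),(0,1),(1,2),(0,2),(0,1),
    (0,1),(0,1),(1,2),(2,2),(0,1),(0,1),(0,2),(0,2),(0,1),(1,2),(0,2),(3,1),(0,2),(0,1),(0,1),
    (0,2),(0,2),(0,1),(0,1),(0,2),(0,1),(1,1),(0,2),(0,1),(1,1),(0,2),(0,2),(0,1),(0,1),(0,1),
    (0,1),(0,1)],
   [(1,1),(1,1),(0,1),(0,2),(3,2),(0,1),(2,1),(2,1),(1,1),(0,2),(2,1),(0,2),(0,2),(0,2),(0,1),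
    (0,2),(0,2),(0,2),(6,1),(0,2),(2,1),(1,2),(4,1),(3,2),(0,2),(1,1),(4,1),(2,1),(1,2),(0,2),
    (1,2),(0,2),(0,1),(1,1),(1,2),(0,1),(1,2),(1,1),(0,2),(0,1),(2,2),(2,1),(2,2),(2,2),(0,1),
    (0,2),(0,2),(0,1),(1,1),(0,1),(0,2),(0,1),(0,2),(0,1),(0,2),(0,2),(1,1),(1,2),(0,1),(1,1),
    (2,2),(0,1),(1,2),(1,2),(0,2),(1,1),(0,2),(0,1),(1,1),(0,1),(1,1),(0,1),(0,2),(0,1),(0,1),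
    (0,2),(0,2),(0,2),(3,1),(1,2),(0,1),(0,1),(1,1),(0,2),(0,2),(2,2),(0,1),(0,2),(1,2),(0,1),
    (0,1),(0,1),(0,2),(0,2),(0,2),(0,1),(0,2),(1,2),(2,2),(0,2),(1,2),(1,2),(0,1),(0,1),(0,1),
    (0,1),(1,1),(1,1),(0,1),(0,1),(0,1),(0,2),(0,2),(0,2),(1,1),(1,2),(0,2),(0,1),(2,1),(3,1),
    (1,1),(0,1),(0,1),(0,1),(0,1),(0,1),(0,2),(0,1),(1,1),(0,1),(3,2),(0,2),(0,2),(0,1),(0,1),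
    (1,1),(0,1),(0,1),(0,1),(0,2),(0,1),(0,2),(0,2),(0,2),(1,2),(0,1),(0,2),(0,1),(0,1),(0,1),
    (0,1),(1,1),(0,1),(0,2),(0,2),(1,2),(0,1)],
   [(1,2),(2,1),(0,1),(6,2),(0,1),(2,2),(1,1),(0,2),(0,2),(0,1),(0,1),(0,1),(0,1),(0,1),(0,2),
    (0,2),(0,1),(0,2),(0,1),(1,2),(0,2),(1,1),(1,1),(3,2),(0,1),(4,2),(1,2),(0,1),(0,1),(0,2),
    (0,1),(4,2),(0,2),(0,1),(3,1),(0,2),(3,2),(0,2),(0,2),(1,1),(0,1),(0,1),(0,1),(0,1),(0,2),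
    (0,1),(0,2),(2,2),(2,2),(2,1),(2,1),(1,2),(2,1),(0,2),(1,1),(0,2),(0,2),(0,1),(0,1),(0,1),
    (1,2),(2,2),(1,1),(1,1),(0,1),(0,2),(1,2),(1,1),(0,1),(0,2),(1,2),(3,2),(1,2),(0,2),(1,1),
    (0,2),(1,1),(0,1),(0,2),(0,2),(0,2),(2,2),(1,1),(1,2),(0,2),(0,1),(0,2),(0,2),(0,1),(1,2),
    (0,1),(1,2),(1,1),(0,2),(1,2),(0,2),(1,2),(3,2),(0,2),(0,2),(0,1),(1,2),(0,1),(0,1),(3,1),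
    (0,2),(1,2),(0,1),(0,1),(0,1),(0,1),(0,1),(0,2),(1,2),(1,2),(0,2),(0,1),(1,1),(0,1),(0,2),
    (0,1),(0,2),(1,2),(4,2),(0,1),(0,1),(0,1),(1,1),(2,1),(4,2),(0,2),(0,2),(0,1),(2,1),(1,1),
    (0,2),(0,1),(0,1),(2,2),(0,1),(0,2),(0,1),(0,2),(0,1),(0,1),(0,1),(0,1),(0,1),(0,2),(1,2)],
   [(1,2),(1,2),(0,2),(0,1),(3,1),(0,2),(2,2),(2,2),(1,1),(0,1),(0,2),(1,2),(0,2),(0,1),(0,1),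
    (0,1),(0,2),(0,2),(0,1),(0,1),(2,1),(2,2),(0,2),(0,2),(0,2),(0,2),(1,1),(4,2),(4,1),(0,2),
    (0,2),(4,2),(0,1),(3,1),(0,1),(1,1),(0,1),(2,1),(0,2),(0,2),(0,1),(0,2),(2,2),(0,1),(0,2),
    (8,1),(2,1),(0,1),(2,2),(0,2),(0,2),(0,1),(1,2),(0,1),(0,1),(0,1),(0,1),(1,2),(1,1),(0,2),
    (1,2),(1,2),(1,2),(5,1),(0,2),(1,2),(0,1),(0,2),(2,1),(0,2),(0,2),(1,1),(0,2),(0,1),(0,1),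
    (0,2),(0,2),(0,2),(1,2),(0,1),(0,1),(0,2),(0,1),(3,1),(1,2),(0,2),(0,2),(2,1),(0,2),(0,1),
    (0,2),(2,1),(0,2),(0,2),(1,1),(0,1),(3,2),(0,1),(1,2),(0,1),(3,1),(0,2),(1,2),(0,2),(2,1),
    (0,1),(0,1),(0,2),(0,2),(0,1),(1,2),(0,1),(1,2),(0,1),(0,1),(1,1),(1,2),(0,2),(0,1),(0,2),
    (0,2),(1,1),(0,1),(3,2),(0,1),(0,1),(2,1),(2,2),(0,2),(0,1),(0,1),(1,1),(0,1),(1,2),(0,2),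
    (0,2),(0,2),(1,2),(0,1),(0,1),(3,2),(0,2),(1,1),(0,1),(1,2)]]

/-- Rows of a matrix. -/
def matB5 : List (List (ℕ × ℕ)) :=
  [[(1,2),(3,1),(4,2),(2,2),(2,2),(1,1),(0,1),(0,1),(2,2),(0,2),(0,1),(0,1),(1,2),(0,2),(0,2),
    (1,2),(0,1),(2,2),(0,2),(1,2),(2,1),(0,1),(3,2),(1,2),(1,1),(0,2),(0,1),(0,2),(4,1),(0,1),
    (0,1),(2,1),(2,1),(0,1),(1,2),(0,1),(0,2),(0,2),(0,2),(0,2),(1,2),(0,2),(0,1),(0,2),(8,1),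
    (2,1),(0,2),(2,2),(1,1),(0,2),(0,2),(1,2),(0,1),(0,1),(0,1),(1,2),(1,1),(0,2),(5,2),(3,1),
    (0,1),(0,2),(1,1),(1,2),(4,2),(0,1),(1,1),(0,2),(0,1),(0,1),(0,2),(0,2),(0,2),(1,2),(0,1),
    (1,1),(0,2),(0,2),(0,1),(0,2),(1,2),(1,1),(1,1),(0,1),(1,1),(3,1),(0,1),(0,2),(0,2),(1,1),
    (5,1),(1,2),(0,2),(0,2),(0,1),(0,2),(1,1),(0,2),(0,1),(0,1),(0,2),(1,2),(1,1),(0,1),(1,2),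
    (0,2),(0,2),(0,1),(1,1),(1,2),(0,1),(0,2),(0,2),(0,2),(3,2),(0,1),(0,1),(1,2),(0,2),(1,2),
    (0,2),(0,2),(0,1),(0,2),(0,1),(0,1),(2,1),(0,2),(2,1),(0,1),(0,1),(0,1),(0,1),(0,1),(0,1),
    (3,2),(0,2),(1,1),(0,2),(0,1),(0,2),(1,2),(1,2)],
   [(1,1),(1,2),(0,2),(0,2),(2,2),(0,2),(0,1),(2,2),(2,1),(1,2),(1,1),(2,1),(0,2),(0,2),(0,2),
    (0,1),(0,2),(0,2),(0,2),(0,1),(1,1),(0,2),(1,2),(0,1),(1,1),(0,1),(1,1),(4,1),(1,1),(0,1),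
    (1,1),(0,1),(5,1),(0,2),(3,2),(0,2),(1,2),(0,2),(1,2),(0,2),(0,1),(0,1),(0,1),(0,2),(0,1),
    (1,1),(0,2),(0,1),(2,1),(2,2),(2,2),(2,2),(0,1),(1,1),(3,2),(1,2),(0,2),(0,1),(0,2),(0,2),
    (1,1),(1,2),(0,1),(0,2),(0,1),(0,2),(0,1),(0,1),(0,1),(1,1),(1,2),(0,1),(1,1),(0,2),(0,1),
    (0,1),(0,1),(0,1),(1,1),(1,2),(1,2),(1,2),(0,2),(3,1),(1,2),(0,1),(0,2),(2,2),(2,2),(0,2),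
    (2,1),(1,2),(1,2),(1,1),(0,1),(0,2),(3,1),(0,1),(0,1),(0,1),(2,2),(0,1),(3,2),(0,2),(1,2),
    (0,2),(0,1),(0,2),(1,2),(0,1),(1,1),(0,1),(0,1),(1,2),(1,2),(0,1),(0,2),(0,2),(1,1),(0,1),
    (0,2),(0,1),(0,2),(0,2),(1,2),(0,2),(0,2),(1,2),(0,2),(0,2),(0,2),(1,2),(2,2),(5,2),(0,2),
    (2,2),(0,2),(0,1),(0,2),(0,2),(0,1),(3,2),(1,2),(0,2),(0,2),(1,1),(1,2)],
   [(1,1),(1,2),(0,1),(0,2),(3,1),(0,2),(0,2),(0,2),(0,1),(2,1),(1,1),(0,1),(0,1),(0,2),(0,1),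
    (0,2),(0,1),(0,2),(0,1),(0,2),(0,1),(0,1),(0,1),(1,2),(0,1),(0,1),(0,1),(0,2),(0,1),(2,2),
    (0,2),(1,1),(3,1),(3,1),(0,2),(4,2),(0,1),(0,2),(0,2),(1,2),(1,1),(0,1),(0,1),(0,1),(2,2),
    (0,2),(1,2),(0,1),(0,2),(2,1),(0,2),(0,1),(2,2),(2,2),(2,2),(1,2),(0,2),(0,1),(0,2),(0,2),
    (2,2),(1,1),(0,1),(0,1),(0,1),(0,1),(0,2),(1,1),(2,1),(1,2),(0,1),(0,2),(0,1),(0,1),(1,2),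
    (1,2),(0,2),(1,1),(0,2),(0,1),(1,1),(0,2),(0,2),(0,1),(0,1),(0,1),(2,1),(2,1),(0,1),(0,1),
    (0,2),(0,2),(0,1),(0,1),(0,2),(3,2),(1,2),(0,1),(0,2),(0,1),(1,2),(0,2),(0,1),(0,1),(1,1),
    (0,1),(0,1),(2,2),(0,2),(0,2),(0,1),(0,1),(0,1),(1,2),(0,1),(1,2),(0,1),(0,1),(1,2),(1,1),
    (0,2),(0,2),(2,2),(1,1),(0,2),(0,1),(0,2),(0,2),(0,1),(1,1),(0,1),(1,2),(0,1),(3,1),(0,1),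
    (0,1),(0,1),(0,2),(1,1),(0,1),(0,2),(1,1),(0,2),(1,2),(1,2),(1,1),(0,1),(0,1),(1,2),(1,1),
    (4,2),(0,1),(0,1),(0,1),(2,2),(1,2),(0,1),(3,2),(0,2),(0,2)],
   [(1,2),(1,1),(1,1),(3,2),(0,2),(1,1),(0,2),(2,2),(1,2),(0,1),(1,2),(0,2),(0,1),(2,1),(1,2),
    (0,2),(0,2),(1,1),(0,2),(1,2),(1,1),(2,1),(1,2),(4,2),(5,2),(4,1),(0,1),(0,2),(0,2),(0,1),
    (4,1),(0,1),(0,2),(0,1),(0,2),(1,1),(0,1),(0,1),(2,2),(0,1),(0,2),(2,2),(2,2),(2,1),(2,1),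
    (0,2),(1,2),(1,2),(1,2),(0,2),(1,1),(0,2),(2,2),(0,2),(1,1),(0,2),(0,2),(2,2),(0,1),(0,2),
    (1,2),(2,2),(0,1),(0,2),(0,2),(0,2),(0,1),(0,2),(1,2),(0,1),(0,2),(0,2),(1,1),(0,1),(1,2),
    (0,1),(0,1),(0,1),(0,1),(0,1),(1,2),(0,2),(0,1),(0,2),(4,1),(1,2),(0,1),(1,1),(1,2),(0,2),
    (2,1),(0,2),(0,2),(1,1),(0,2),(0,1),(0,1),(0,1),(1,2),(0,1),(1,1),(1,1),(0,2),(3,2),(0,1),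
    (0,2),(0,2),(0,2),(2,1),(1,1),(0,1),(0,1),(0,1),(0,1),(2,1),(0,1),(0,1),(0,2),(0,1),(0,1),
    (0,2),(0,2),(0,2),(0,1),(0,2),(0,2),(0,1),(0,2),(0,2),(0,1),(0,1),(1,1),(0,1),(0,1),(5,1),
    (0,1),(0,1),(0,2),(0,2),(1,2),(0,2),(0,2),(0,2),(0,1),(0,1),(0,1),(1,1),(0,2),(2,1),(0,2),
    (0,1),(0,2),(0,1)],
   [(1,1),(1,1),(0,2),(0,2),(2,1),(0,1),(0,2),(0,1),(0,1),(3,1),(1,1),(0,2),(1,1),(1,1),(0,2),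
    (1,1),(0,2),(0,2),(0,2),(1,2),(1,1),(1,2),(0,2),(0,2),(0,2),(1,2),(1,2),(4,1),(3,2),(1,2),
    (3,1),(0,2),(0,2),(0,1),(1,1),(1,1),(0,1),(0,2),(0,1),(0,2),(1,1),(0,1),(1,1),(0,2),(0,2),
    (0,1),(1,1),(0,2),(0,1),(2,2),(2,2),(2,2),(1,1),(0,2),(0,2),(0,1),(2,2),(0,2),(0,2),(0,2),
    (1,1),(0,2),(0,1),(1,2),(0,1),(1,2),(0,1),(1,2),(1,2),(0,1),(0,1),(1,2),(1,2),(0,2),(1,1),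
    (0,2),(0,1),(1,1),(0,1),(1,1),(3,2),(0,2),(0,2),(0,1),(5,2),(1,1),(0,1),(0,2),(0,2),(0,2),
    (2,1),(0,1),(0,1),(1,2),(0,1),(0,2),(0,2),(0,1),(0,2),(0,2),(0,1),(0,1),(0,2),(0,2),(2,2),
    (0,2),(0,2),(0,1),(1,2),(0,1),(0,2),(1,1),(0,2),(0,2),(1,1),(2,1),(0,2),(0,1),(1,2),(1,2),
    (1,2),(0,2),(0,2),(0,2),(2,1),(0,1),(0,1),(0,2),(0,2),(0,2),(0,2),(0,2),(0,2),(0,2),(0,1),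
    (0,2),(0,1),(0,2),(1,2),(0,2),(0,2),(0,1),(0,1),(7,1),(0,1),(2,1),(1,2),(1,2),(0,2),(0,2),
    (0,2),(0,1),(0,2),(1,1),(0,1),(0,2),(0,1),(0,1),(0,2),(0,1)],
   [(0,1),(0,2),(0,2),(2,2),(0,1),(1,1),(0,2),(1,1),(0,2),(1,1),(0,1),(0,2),(0,2),(0,2),(1,1),
    (0,1),(0,1),(3,1),(0,1),(1,2),(1,2),(0,2),(1,1),(4,1),(0,2),(0,1),(1,2),(0,2),(0,1),(0,1),
    (0,1),(0,2),(1,2),(0,1),(0,2),(1,2),(0,2),(0,1),(1,1),(4,1),(0,1),(0,2),(0,1),(0,2),(3,1),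
    (0,2),(3,1),(0,1),(0,2),(0,2),(0,1),(0,1),(0,1),(0,1),(0,1),(0,1),(0,1),(0,1),(0,1),(0,2),
    (0,1),(0,1),(0,2),(1,1),(0,1),(0,1),(0,1),(0,1),(0,2),(2,2),(0,2),(1,2),(0,1),(0,2),(0,1),
    (0,1),(0,2),(0,2),(3,2),(0,2),(0,2),(0,2),(0,1),(0,1),(0,1),(1,2),(1,1),(1,2),(1,2),(0,1),
    (0,2),(3,1),(1,1),(0,1),(0,2),(2,2),(1,1),(0,2),(1,2),(0,2),(0,2),(0,2),(0,2),(0,2),(0,2),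
    (0,2),(3,2),(0,1),(0,1),(0,2),(0,1),(1,1),(0,1),(2,2),(0,2),(0,1),(0,2),(0,2),(0,2),(0,2),
    (0,1),(0,1),(0,1),(0,2),(0,2),(2,1),(2,1),(0,1),(1,1),(2,1),(0,2),(1,1),(1,2),(0,1),(0,1),
    (0,1),(1,1),(0,2),(1,2),(0,1),(0,2),(0,2),(0,2),(1,2),(0,2),(1,1),(0,1),(1,2),(0,1),(0,2),
    (0,1),(0,1),(1,2),(1,1),(0,1),(0,2),(0,2),(0,1),(0,2),(1,2),(1,2),(1,1),(0,1),(1,1),(1,2),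
    (0,1),(0,2),(0,1),(1,1),(0,1)],
   [(0,2),(0,1),(0,1),(1,2),(0,1),(0,2),(4,2),(0,2),(0,2),(0,2),(0,2),(0,1),(0,1),(1,2),(1,1),
    (0,2),(3,2),(0,2),(1,1),(0,2),(0,1),(0,2),(1,2),(3,2),(0,2),(0,1),(0,1),(2,1),(0,2),(0,2),
    (0,2),(0,1),(0,1),(0,2),(0,1),(2,1),(0,1),(0,2),(1,1),(2,2),(1,2),(0,2),(1,2),(0,1),(3,2),
    (0,1),(1,1),(1,2),(0,1),(0,1),(0,1),(0,2),(0,2),(0,2),(1,2),(0,2),(0,1),(0,2),(0,2),(0,1),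
    (0,2),(0,2),(0,1),(1,2),(0,1),(1,1),(0,2),(6,1),(0,2),(0,1),(0,2),(0,2),(0,1),(0,1),(0,2),
    (0,1),(0,2),(0,1),(0,1),(0,1),(0,1),(0,2),(0,2),(1,2),(0,1),(1,1),(0,1),(2,2),(1,2),(1,2),
    (0,1),(0,1),(2,2),(0,2),(0,2),(0,2),(0,2),(0,2),(0,2),(3,2),(0,2),(1,2),(0,2),(3,1),(0,1),
    (1,2),(0,2),(1,1),(4,2),(0,2),(1,1),(1,1),(0,2),(1,2),(2,2),(0,2),(0,2),(1,1),(0,2),(0,2),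
    (1,1),(0,2),(1,2),(0,1),(1,2),(0,2),(0,1),(1,1),(0,2),(2,2),(1,2),(0,2),(0,1),(0,1),(0,2),
    (0,2),(0,2),(0,1),(2,1),(0,1),(0,2),(0,1),(0,1),(1,1),(0,2),(1,2),(0,2),(0,2),(1,1),(0,2),
    (0,2),(0,2),(1,1),(2,2),(2,1),(0,2),(1,2),(0,2),(1,1),(1,1),(0,2),(0,2)],
   [(0,2),(0,1),(0,1),(2,1),(0,2),(1,2),(0,2),(0,1),(1,1),(1,2),(0,2),(0,1),(0,1),(3,2),(0,2),
    (0,2),(3,2),(0,1),(0,1),(0,2),(0,1),(1,2),(0,2),(0,1),(0,2),(0,1),(0,1),(0,1),(3,1),(0,1),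
    (0,2),(0,2),(0,2),(0,1),(0,2),(0,1),(1,2),(0,2),(1,1),(0,2),(0,1),(3,2),(0,1),(0,2),(0,1),
    (0,2),(0,2),(0,1),(1,2),(0,1),(1,1),(0,2),(0,2),(0,2),(0,1),(0,2),(0,1),(0,1),(0,2),(0,2),
    (0,2),(1,2),(0,2),(0,1),(0,2),(0,2),(0,1),(0,2),(0,2),(0,1),(0,2),(0,1),(0,1),(0,1),(0,1),
    (0,1),(3,2),(2,2),(0,2),(0,1),(0,2),(0,1),(0,1),(1,2),(0,1),(1,2),(0,1),(0,1),(1,2),(0,2),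
    (0,2),(2,1),(0,2),(1,2),(0,1),(0,2),(0,2),(1,1),(0,1),(1,2),(0,2),(2,2),(0,2),(1,2),(2,2),
    (0,1),(0,2),(0,1),(0,1),(0,2),(0,1),(0,2),(0,2),(1,1),(0,1),(0,1),(1,2),(0,1),(0,1),(0,1),
    (0,2),(0,2),(0,2),(0,2),(0,1),(0,1),(0,1),(1,1),(0,2),(0,1),(0,2),(1,1),(1,1),(0,2),(0,2),
    (0,2),(0,2),(0,2),(0,2),(3,1),(1,2),(0,2),(0,2),(3,1),(0,2),(0,1),(0,1),(1,2),(5,2),(1,2),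
    (1,1),(1,2),(0,1),(0,1),(5,2),(0,1),(0,2),(0,1),(0,2),(0,1),(0,2),(2,2),(0,2),(0,1),(1,2),
    (0,2),(1,1),(0,2),(0,1),(1,2),(3,2),(0,2),(0,1)],
   [(0,2),(0,1),(0,1),(0,1),(0,1),(0,1),(0,2),(1,2),(0,1),(2,1),(1,2),(0,2),(0,1),(0,1),(2,1),
    (0,2),(0,1),(0,2),(0,2),(2,1),(0,1),(2,1),(0,2),(0,2),(0,2),(1,1),(0,2),(0,2),(0,1),(1,2),
    (1,2),(0,1),(0,2),(0,2),(0,2),(0,1),(0,1),(4,2),(0,1),(0,2),(0,1),(0,2),(0,2),(1,1),(0,1),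
    (0,2),(0,1),(0,2),(0,2),(0,2),(0,1),(0,1),(2,2),(0,1),(1,2),(0,1),(0,1),(0,1),(0,1),(0,2),
    (0,2),(0,2),(0,2),(0,2),(0,2),(1,2),(0,2),(0,1),(0,2),(0,2),(0,1),(1,1),(0,1),(1,2),(1,2),
    (0,2),(0,2),(3,2),(1,1),(0,2),(0,2),(0,1),(0,1),(1,1),(0,1),(0,2),(0,1),(0,1),(0,2),(0,2),
    (2,1),(0,2),(1,1),(0,1),(0,2),(0,2),(0,1),(1,1),(0,2),(1,2),(0,1),(0,2),(2,1),(1,2),(0,2),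
    (0,2),(0,1),(0,2),(0,2),(0,1),(1,1),(0,2),(0,1),(0,1),(0,2),(0,1),(0,1),(0,2),(0,1),(0,1),
    (0,1),(2,2),(0,2),(0,1),(0,1),(0,1),(1,1),(0,2),(0,1),(0,1),(1,1),(0,1),(1,1),(1,2),(0,1),
    (0,2),(0,2),(0,2),(0,2),(0,1),(0,2),(0,1),(0,2),(0,2),(1,2),(0,1),(1,1),(0,2),(0,1),(2,2),
    (0,2),(0,2),(0,2),(0,1),(0,2),(0,1),(1,2),(0,1),(1,1),(0,1),(0,1),(1,1),(1,1),(0,2),(0,2),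
    (0,1),(0,2),(0,1),(0,1),(1,1),(0,2),(7,2),(0,1),(0,2),(2,2),(1,2),(0,1),(1,2),(0,1),(0,2),
    (2,2)],
   [(0,1),(0,2),(0,2),(0,1),(0,1),(0,2),(0,1),(1,2),(0,1),(1,1),(0,2),(0,2),(0,1),(0,1),(0,2),
    (0,2),(4,2),(0,2),(3,1),(1,1),(0,2),(0,1),(0,2),(0,1),(0,2),(0,2),(0,1),(0,2),(0,1),(0,1),
    (1,1),(0,2),(0,2),(0,2),(0,1),(0,1),(0,1),(0,2),(0,1),(1,2),(1,2),(1,2),(0,1),(0,2),(0,1),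
    (2,1),(0,2),(0,1),(0,1),(0,2),(0,1),(0,2),(2,2),(1,1),(0,1),(2,1),(1,2),(0,2),(0,1),(0,1),
    (0,1),(1,1),(0,1),(1,1),(0,1),(0,2),(0,1),(1,2),(1,2),(0,1),(0,2),(0,1),(0,2),(1,1),(0,2),
    (0,2),(0,1),(1,1),(1,2),(0,1),(0,2),(0,2),(0,1),(1,1),(1,2),(0,2),(0,2),(1,1),(0,1),(1,1),
    (0,1),(0,2),(0,2),(0,1),(0,2),(1,2),(0,1),(0,2),(3,1),(0,2),(0,2),(0,2),(0,1),(0,2),(0,1),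
    (0,1),(0,1),(0,1),(1,1),(0,2),(0,2),(0,2),(1,2),(0,2),(1,2),(0,2),(2,2),(0,1),(0,1),(1,2),
    (0,1),(1,2),(0,1),(0,1),(0,1),(2,2),(1,1),(0,2),(0,2),(0,1),(0,2),(0,1),(0,1),(0,1),(0,2),
    (0,1),(0,2),(1,1),(0,1),(0,1),(0,1),(0,1),(0,2),(1,2),(0,2),(1,1),(1,1),(0,2),(2,1),(0,2),
    (0,2),(0,2),(0,2),(1,1),(1,2),(0,1),(1,1),(1,2),(0,2),(0,1),(1,1),(0,1),(2,2),(2,1),(1,1),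
    (0,1),(2,2),(1,2),(2,1),(0,2),(1,2),(1,1),(0,1),(0,1),(0,1),(1,2),(0,2)],
   [(0,1),(0,2),(0,2),(0,1),(1,2),(0,1),(1,1),(1,2),(1,1),(1,1),(0,1),(0,2),(0,2),(0,2),(0,1),
    (1,2),(0,2),(1,2),(1,2),(1,1),(2,2),(2,2),(0,1),(0,2),(0,1),(0,1),(0,1),(0,2),(0,2),(1,1),
    (0,2),(0,1),(0,1),(0,1),(0,2),(0,1),(0,2),(0,1),(0,1),(0,1),(1,2),(0,1),(0,1),(1,2),(1,1),
    (0,1),(0,1),(2,2),(3,1),(4,1),(0,2),(0,1),(0,2),(0,2),(0,1),(0,1),(0,1),(0,2),(0,1),(0,1),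
    (1,1),(0,1),(0,2),(0,1),(0,2),(0,2),(1,1),(0,1),(0,2),(0,1),(1,1),(0,2),(2,2),(0,2),(0,1),
    (0,1),(0,2),(0,1),(0,2),(0,2),(0,2),(0,1),(0,1),(0,2),(1,2),(0,2),(0,2),(0,1),(1,2),(0,2),
    (2,2),(2,1),(0,1),(0,2),(0,1),(0,1),(0,2),(0,1),(1,2),(1,1),(0,1),(0,1),(0,2),(0,1),(0,1),
    (0,2),(0,2),(0,2),(0,2),(0,1),(0,1),(0,2),(0,2),(1,2),(0,2),(0,2),(2,2),(0,2),(0,1),(1,2),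
    (0,1),(0,2),(1,1),(0,1),(2,2),(0,1),(0,2),(1,1),(0,2),(0,2),(0,1),(0,2),(0,2),(2,2),(1,1),
    (1,2),(0,2),(1,1),(1,2),(1,1),(1,1),(0,2),(1,1),(0,2),(2,2),(0,2),(0,1),(0,1),(1,2),(4,2),
    (2,2),(0,2),(0,1),(0,1),(0,1),(2,2),(2,1),(0,1),(0,1),(0,2),(2,2),(0,2),(0,1),(2,1),(0,2),
    (1,2),(0,2),(1,2),(1,1),(0,1),(0,1)],
   [(0,2),(0,1),(0,1),(0,1),(1,1),(0,2),(1,2),(2,2),(0,2),(1,2),(0,2),(0,1),(0,1),(0,2),(3,2),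
    (4,1),(0,2),(3,2),(2,2),(2,2),(1,2),(0,2),(0,2),(0,1),(0,1),(0,2),(0,2),(0,2),(0,1),(0,2),
    (0,1),(0,1),(0,1),(0,1),(0,1),(0,1),(0,2),(0,1),(0,1),(0,2),(0,2),(0,1),(0,2),(0,2),(0,1),
    (2,2),(0,2),(1,2),(0,1),(0,1),(1,1),(1,1),(0,2),(0,1),(0,1),(0,2),(0,2),(0,2),(1,2),(0,2),
    (0,2),(0,2),(0,2),(0,1),(0,2),(0,2),(0,1),(1,1),(0,2),(0,1),(0,1),(1,1),(0,1),(1,2),(0,2),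
    (1,1),(1,1),(0,2),(0,1),(0,1),(0,2),(0,1),(0,1),(1,1),(0,1),(0,1),(1,2),(0,1),(0,1),(0,2),
    (1,1),(1,1),(0,1),(0,2),(0,1),(0,2),(0,1),(0,2),(0,2),(0,2),(0,1),(0,1),(0,2),(0,2),(1,1),
    (0,1),(0,2),(1,2),(3,2),(0,2),(1,2),(0,2),(4,2),(1,2),(2,2),(0,1),(0,1),(0,1),(0,2),(1,2),
    (1,1),(2,2),(3,2),(5,1),(1,2),(0,1),(0,1),(0,2),(0,1),(1,1),(0,2),(0,1),(0,2),(5,1),(0,1),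
    (2,2),(0,2),(1,2),(0,2),(0,1),(3,2),(0,2),(0,1),(1,1),(0,2),(0,2),(0,1),(2,1),(1,1),(0,2),
    (0,2),(1,1),(0,1),(0,1),(2,1),(0,1),(0,2),(1,1),(0,1),(0,1),(0,1),(1,1),(0,1),(0,2),(0,1),
    (0,1)],
   [(0,1),(0,2),(0,2),(1,2),(0,2),(0,1),(1,2),(1,2),(0,2),(0,1),(1,1),(0,1),(0,2),(0,2),(0,1),
    (0,1),(1,2),(0,2),(0,2),(2,2),(0,1),(1,2),(0,2),(0,1),(0,2),(1,1),(3,2),(0,1),(0,2),(0,1),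
    (1,2),(0,2),(0,1),(0,1),(0,1),(0,2),(0,1),(1,1),(2,2),(0,2),(0,1),(1,2),(0,2),(0,2),(0,1),
    (0,1),(0,1),(2,2),(0,2),(3,2),(0,2),(0,2),(0,1),(1,1),(0,1),(0,2),(0,2),(0,1),(0,1),(0,1),
    (0,2),(0,1),(0,1),(1,1),(0,1),(0,2),(0,1),(0,2),(0,2),(0,2),(0,1),(0,2),(1,2),(6,1),(0,2),
    (0,2),(0,2),(0,1),(0,1),(0,2),(0,2),(0,1),(0,2),(0,1),(0,2),(0,2),(0,2),(0,2),(0,1),(0,1),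
    (0,2),(0,1),(0,2),(0,1),(1,1),(0,2),(1,2),(0,1),(2,2),(0,2),(0,2),(0,1),(0,2),(1,1),(0,2),
    (0,2),(0,1),(0,2),(0,2),(0,2),(0,2),(0,2),(0,1),(0,2),(0,2),(0,1),(2,1),(0,1),(0,1),(0,2),
    (0,1),(2,2),(0,1),(1,1),(0,1),(1,1),(1,1),(2,2),(1,1),(1,2),(1,2),(0,2),(4,1),(0,2),(0,2),
    (0,2),(1,1),(1,1),(3,1),(0,2),(1,1),(0,1),(0,2),(3,2),(0,2),(0,2),(0,2),(1,2),(1,2),(0,2),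
    (1,1),(0,1),(0,1),(0,1),(2,1),(0,2),(4,1),(0,1),(0,2),(2,1),(0,1),(0,1),(0,2),(0,2),(1,1),
    (0,2),(0,2),(0,1),(2,2),(1,2)],
   [(3,2),(0,2),(5,2),(0,2),(0,1),(0,2),(1,1),(0,1),(2,1),(0,1),(1,1),(0,1),(0,2),(0,2),(1,2),
    (0,1),(0,2),(0,2),(2,1),(0,1),(0,2),(0,1),(0,1),(4,1),(3,1),(1,1),(0,2),(0,1),(1,2),(0,1),
    (1,2),(0,2),(2,1),(0,2),(0,1),(2,1),(0,2),(1,2),(0,2),(0,2),(0,1),(0,2),(1,2),(0,2),(0,2),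
    (1,2),(0,2),(0,2),(0,2),(2,1),(2,1),(1,2),(1,2),(0,1),(1,1),(0,1),(1,1),(0,1),(1,2),(0,1),
    (0,2),(0,2),(0,1),(0,2),(0,2),(3,2),(1,1),(0,1),(1,1),(4,1),(0,1),(4,1),(0,1),(0,2),(0,1),
    (1,2),(1,2),(0,2),(0,2),(0,2),(0,1),(2,2),(0,1),(0,1),(0,2),(0,1),(0,1),(0,2),(0,1),(1,2),
    (0,1),(1,2),(2,1),(1,1),(0,2),(0,2),(1,2),(0,2),(0,1),(0,1),(0,1),(1,2),(2,2),(0,2),(0,1),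
    (0,2),(0,2),(0,2),(0,2),(0,1),(0,1),(0,2),(0,1),(0,2),(0,2),(0,1),(3,1),(1,1),(0,1),(0,2),
    (0,1),(0,2),(0,2),(1,2),(1,2),(3,1),(1,2),(0,2),(1,2),(1,1),(0,1),(0,1),(0,2),(1,2),(1,1),
    (3,2),(0,2),(1,1),(0,1),(1,2),(1,1),(1,1),(0,1),(2,2),(0,1),(1,1),(0,1),(0,1),(0,2),(0,2),
    (0,2),(1,2),(1,2)],
   [(3,1),(0,2),(4,1),(0,1),(0,1),(1,2),(1,2),(0,2),(2,1),(1,2),(0,1),(0,2),(0,1),(0,1),(0,1),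
    (0,1),(0,2),(0,2),(0,2),(1,2),(0,2),(0,2),(0,1),(0,2),(4,2),(0,2),(3,2),(1,2),(0,1),(1,1),
    (0,2),(0,2),(1,1),(0,1),(1,2),(0,2),(0,1),(0,2),(0,1),(1,2),(0,2),(1,1),(0,1),(0,1),(0,2),
    (0,1),(2,2),(0,1),(2,1),(0,1),(0,1),(2,1),(2,2),(1,1),(1,1),(0,2),(1,2),(0,2),(0,2),(2,2),
    (0,2),(0,2),(0,1),(0,2),(0,1),(0,1),(0,1),(3,1),(1,1),(2,1),(4,2),(1,2),(0,2),(0,2),(0,2),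
    (1,1),(0,2),(0,1),(0,1),(0,1),(3,2),(2,2),(0,2),(0,1),(0,2),(5,1),(1,1),(1,2),(0,2),(0,2),
    (0,2),(2,1),(0,1),(0,1),(0,2),(0,2),(1,1),(0,2),(3,1),(0,2),(0,1),(0,1),(0,2),(2,2),(0,2),
    (0,1),(1,1),(0,1),(0,1),(0,1),(1,2),(0,2),(0,2),(0,1),(2,1),(3,2),(0,1),(1,2),(0,1),(0,1),
    (0,1),(0,2),(1,2),(0,1),(0,1),(1,2),(0,2),(1,1),(1,1),(0,2),(0,1),(0,2),(0,1),(3,2),(0,2),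
    (1,2),(0,2),(0,2),(0,2),(1,2),(0,2),(0,1),(1,2),(0,1),(1,1),(1,2),(1,1),(0,2),(0,2),(1,1),
    (0,1),(0,2),(0,2),(0,2),(0,1)],
   [(3,1),(0,1),(4,2),(1,2),(0,1),(2,2),(0,2),(1,1),(0,2),(0,1),(1,1),(0,1),(0,1),(1,2),(0,1),
    (0,1),(0,1),(0,2),(2,1),(0,1),(0,2),(0,1),(0,1),(0,2),(0,1),(0,1),(5,2),(1,2),(1,2),(0,2),
    (0,1),(0,1),(0,2),(0,1),(0,1),(2,2),(0,1),(0,1),(0,2),(2,1),(1,1),(1,2),(0,1),(0,2),(1,2),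
    (0,2),(0,2),(0,2),(0,2),(0,1),(0,1),(0,1),(2,1),(2,2),(1,1),(1,1),(0,1),(1,1),(0,2),(0,2),
    (2,2),(0,2),(0,2),(0,1),(0,1),(0,1),(0,1),(6,2),(0,2),(1,2),(0,2),(2,2),(0,2),(0,2),(0,1),
    (0,1),(0,1),(0,1),(0,2),(0,2),(1,2),(0,1),(1,1),(0,1),(2,2),(1,2),(0,2),(0,1),(2,1),(2,1),
    (1,2),(0,2),(0,2),(0,2),(0,1),(0,2),(0,2),(2,1),(0,1),(0,1),(0,2),(0,1),(0,1),(1,1),(1,2),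
    (0,1),(1,2),(0,1),(1,1),(0,1),(0,2),(0,1),(0,2),(0,2),(0,2),(1,1),(1,2),(0,2),(0,1),(0,1),
    (0,2),(0,1),(0,2),(1,1),(2,1),(0,1),(0,2),(1,2),(0,2),(0,2),(1,1),(0,2),(0,1),(0,2),(0,1),
    (0,1),(0,1),(1,1),(0,2),(0,1),(0,1),(0,2),(0,1),(0,1),(0,1),(2,2),(2,1),(0,2),(1,2),(1,2),
    (0,1),(2,2),(1,2),(0,2),(1,1),(0,1),(0,2),(1,1),(0,2),(0,2),(3,1),(1,2)],
   [(3,2),(0,2),(4,2),(0,1),(0,2),(0,1),(0,1),(1,2),(0,2),(1,1),(1,2),(2,1),(0,2),(0,1),(0,2),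
    (1,1),(0,2),(0,1),(1,1),(0,1),(0,1),(0,2),(0,1),(0,1),(1,2),(0,1),(1,2),(0,2),(2,2),(1,2),
    (0,1),(0,2),(1,2),(0,2),(0,1),(0,1),(0,1),(2,1),(2,1),(1,2),(0,1),(2,1),(0,2),(0,2),(0,2),
    (0,2),(0,2),(0,1),(0,2),(0,1),(1,1),(0,1),(0,1),(2,2),(2,1),(1,1),(1,1),(0,1),(3,1),(0,1),
    (0,1),(0,1),(0,1),(0,1),(0,2),(0,2),(0,1),(1,1),(3,1),(1,2),(0,2),(2,1),(2,1),(0,2),(0,2),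
    (0,1),(0,1),(0,1),(0,1),(0,2),(0,2),(2,2),(0,2),(0,2),(0,1),(0,1),(0,1),(0,2),(0,2),(0,1),
    (0,1),(1,2),(0,2),(1,2),(1,1),(0,1),(0,2),(0,1),(0,1),(0,2),(0,1),(1,2),(3,1),(0,1),(0,2),
    (0,2),(1,1),(0,1),(0,2),(0,1),(2,1),(0,2),(0,1),(0,1),(2,2),(1,2),(0,1),(1,2),(0,2),(1,1),
    (1,2),(0,1),(0,1),(0,2),(0,2),(0,1),(0,1),(1,1),(2,1),(1,2),(0,1),(0,2),(0,2),(1,1),(0,2),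
    (1,1),(2,1),(0,1),(0,2),(0,2),(1,1),(2,1),(0,1),(0,2),(1,2),(0,1),(0,1),(1,2),(0,1),(0,1),
    (1,2),(0,1),(3,1),(1,1),(1,2),(0,1),(0,1),(0,2),(1,2),(0,2),(0,2),(0,2),(0,1),(0,2)],
   [(3,1),(0,1),(3,2),(0,1),(0,2),(0,1),(0,1),(2,1),(0,1),(1,2),(0,1),(0,2),(2,2),(0,2),(0,2),
    (0,1),(0,1),(0,1),(0,2),(0,1),(0,1),(1,1),(1,2),(0,1),(0,2),(2,2),(1,2),(3,1),(1,1),(2,2),
    (0,1),(0,2),(1,2),(0,2),(0,1),(2,2),(0,2),(0,2),(1,1),(1,1),(0,2),(0,2),(0,2),(0,2),(0,1),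
    (0,2),(1,2),(0,2),(1,1),(0,2),(0,2),(0,2),(2,2),(2,2),(1,2),(1,2),(0,2),(1,1),(3,1),(0,1),
    (0,1),(0,2),(0,1),(1,1),(0,2),(0,2),(3,2),(3,2),(5,1),(0,1),(4,1),(0,1),(0,2),(5,2),(0,1),
    (0,2),(0,1),(0,1),(1,2),(0,1),(0,1),(0,1),(0,1),(1,1),(0,2),(2,1),(1,2),(0,2),(0,1),(0,2),
    (4,1),(0,2),(0,1),(0,2),(2,2),(1,2),(0,2),(1,1),(1,2),(0,1),(1,1),(0,1),(1,1),(0,2),(2,2),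
    (0,1),(0,1),(0,1),(1,2),(0,2),(0,1),(1,2),(0,1),(0,2),(0,1),(0,2),(1,1),(0,2),(0,2),(0,2),
    (1,1),(1,1),(0,2),(0,1),(1,2),(0,1),(0,1),(0,1),(2,1),(0,2),(0,1),(0,1),(0,2),(0,1),(1,1),
    (0,2),(0,1),(0,2),(0,1),(1,2),(2,1),(0,2),(0,2),(0,1),(0,2),(0,1),(1,1),(1,1),(2,2),(0,2),
    (3,1)],
   [(3,1),(0,2),(4,2),(0,1),(1,2),(2,1),(0,1),(1,1),(0,2),(0,2),(0,1),(1,1),(0,1),(1,2),(0,1),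
    (0,2),(0,1),(0,2),(1,2),(3,1),(3,1),(0,2),(1,2),(2,1),(1,1),(1,2),(1,2),(0,2),(1,2),(0,2),
    (0,1),(0,1),(1,2),(0,1),(2,2),(0,1),(0,1),(0,1),(0,2),(1,2),(0,1),(1,2),(0,2),(0,2),(0,2),
    (0,1),(0,2),(0,2),(0,2),(2,1),(2,2),(1,2),(1,2),(2,1),(0,1),(2,2),(0,2),(0,2),(0,2),(0,2),
    (0,1),(0,1),(0,1),(0,2),(5,2),(0,2),(0,1),(0,2),(4,1),(0,1),(4,1),(0,2),(1,1),(3,1),(1,1),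
    (0,2),(0,2),(0,1),(0,1),(1,2),(0,2),(1,2),(0,2),(2,1),(0,1),(0,2),(0,1),(3,1),(0,1),(0,2),
    (0,2),(0,2),(1,2),(0,2),(0,1),(0,1),(0,1),(1,2),(1,2),(1,2),(1,1),(0,2),(0,2),(0,1),(1,1),
    (0,1),(1,2),(1,2),(0,2),(0,1),(0,2),(0,1),(0,2),(0,2),(0,1),(0,2),(1,1),(1,1),(0,2),(1,1),
    (0,2),(1,1),(0,1),(0,1),(0,2),(1,1),(0,1),(1,1),(0,2),(5,1),(2,1),(0,2),(0,2),(1,1),(0,2),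
    (1,2),(0,1),(2,2),(0,2),(1,2),(0,1),(0,2),(2,1),(3,2),(0,2),(0,2),(2,2),(0,2)],
   [(3,2),(0,1),(5,1),(0,1),(0,2),(0,1),(1,2),(0,2),(1,2),(0,2),(0,1),(0,1),(0,2),(0,2),(0,1),
    (0,1),(2,1),(0,2),(0,1),(0,2),(0,2),(0,2),(0,1),(1,2),(0,2),(2,2),(5,2),(1,2),(1,1),(0,2),
    (0,1),(0,1),(1,1),(0,1),(1,1),(0,1),(0,2),(3,2),(2,1),(0,1),(0,1),(0,1),(0,1),(1,1),(0,2),
    (0,1),(0,2),(0,1),(0,1),(0,1),(0,1),(2,1),(2,2),(1,1),(1,1),(0,2),(1,2),(5,1),(0,1),(1,1),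
    (0,2),(0,1),(0,1),(0,1),(2,1),(2,1),(1,2),(4,2),(0,2),(1,1),(0,1),(0,1),(0,1),(0,2),(2,2),
    (0,2),(1,1),(0,2),(1,1),(0,1),(0,1),(1,2),(0,2),(0,1),(0,2),(0,1),(0,1),(0,2),(3,2),(0,1),
    (1,2),(0,2),(2,1),(0,1),(0,1),(0,2),(0,2),(1,2),(0,1),(0,2),(0,1),(1,1),(0,2),(0,2),(0,1),
    (0,2),(1,2),(0,1),(1,1),(1,2),(2,1),(2,1),(0,2),(0,2),(0,1),(0,2),(2,2),(0,2),(1,2),(1,1),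
    (0,1),(0,2),(1,2),(0,2),(0,1),(1,1),(0,1),(0,1),(1,2),(0,2),(0,1),(0,1),(0,1),(2,1),(0,2),
    (0,1),(1,2),(0,1),(0,2),(1,1),(0,1),(1,1),(0,2),(0,1),(0,1),(0,1),(0,1),(0,2),(0,2),(1,2),
    (3,2),(0,1),(0,1),(0,2),(0,1),(0,1),(0,1),(1,1)],
   [(3,2),(0,1),(3,1),(0,2),(0,1),(2,2),(1,1),(0,1),(1,1),(0,1),(0,2),(0,2),(1,2),(1,2),(0,2),
    (0,1),(0,1),(0,2),(0,1),(0,1),(1,1),(0,1),(0,1),(1,1),(0,2),(1,1),(1,1),(3,1),(1,1),(1,2),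
    (1,1),(0,1),(1,2),(0,2),(0,1),(0,2),(0,2),(0,1),(0,2),(0,2),(1,2),(0,1),(0,1),(0,1),(1,2),
    (0,1),(0,2),(1,1),(0,1),(2,2),(0,2),(0,2),(0,2),(2,1),(2,2),(1,2),(1,2),(2,2),(0,2),(0,2),
    (2,2),(0,1),(0,1),(0,2),(1,2),(0,1),(1,1),(2,2),(1,2),(0,2),(1,2),(4,1),(1,1),(0,2),(0,2),
    (0,2),(0,2),(1,1),(0,1),(4,2),(0,2),(0,2),(0,2),(0,1),(0,1),(1,2),(0,2),(1,2),(0,1),(0,1),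
    (0,2),(1,1),(0,1),(2,1),(0,1),(0,2),(0,2),(3,1),(0,1),(0,2),(2,2),(0,2),(2,2),(0,2),(0,2),
    (1,1),(0,1),(1,2),(0,1),(0,1),(0,2),(0,1),(0,2),(0,2),(0,1),(1,1),(0,1),(1,1),(0,2),(2,2),
    (1,2),(1,1),(0,2),(0,2),(0,2),(0,1),(0,1),(0,2),(1,1),(3,2),(1,2),(0,2),(0,2),(0,2),(0,1),
    (0,2),(0,2),(0,2),(0,1),(0,1),(0,2),(0,1),(1,1),(0,2),(0,2),(0,1),(1,2),(0,2),(1,2),(0,1),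
    (0,1),(0,1),(0,2),(1,2),(0,1),(0,1),(1,2),(0,2),(0,1),(0,1),(0,2),(0,1),(0,1)],
   [(0,1),(0,1),(0,2),(1,1),(0,1),(0,1),(0,2),(0,2),(3,2),(0,1),(0,1),(0,2),(0,2),(0,2),(2,2),
    (1,2),(0,1),(4,1),(0,2),(1,1),(0,2),(0,1),(0,2),(3,2),(0,2),(0,1),(0,1),(1,2),(1,1),(0,2),
    (0,2),(0,1),(0,1),(0,2),(0,1),(1,1),(0,1),(0,1),(0,2),(0,2),(0,2),(2,1),(0,2),(0,1),(0,1),
    (0,1),(4,2),(0,1),(3,1),(0,1),(1,2),(0,2),(0,1),(0,1),(0,1),(0,1),(0,1),(0,1),(1,1),(0,2),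
    (0,1),(0,2),(0,2),(0,1),(0,2),(0,2),(0,2),(0,2),(0,1),(2,2),(1,1),(1,1),(0,2),(0,2),(0,1),
    (0,1),(0,1),(0,1),(1,1),(0,2),(0,1),(1,1),(0,2),(0,2),(0,2),(0,1),(1,2),(0,2),(1,2),(0,1),
    (1,2),(2,1),(0,1),(4,2),(1,2),(1,2),(0,1),(2,2),(0,2),(0,1),(1,2),(0,2),(1,1),(0,1),(0,1),
    (0,2),(1,2),(0,1),(0,2),(0,1),(1,1),(0,1),(0,1),(0,2),(1,2),(0,1),(0,1),(0,2),(0,2),(0,1),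
    (1,1),(0,1),(1,1),(1,1),(0,1),(0,2),(0,2),(0,1),(2,2),(0,1),(0,2),(0,2),(0,1),(1,2),(0,1),
    (1,1),(2,2),(2,2),(0,1),(0,2),(0,2),(1,1),(0,1),(1,2),(0,2),(1,2),(0,1),(1,2),(2,1),(1,2),
    (2,2),(0,2),(0,1),(0,1),(0,2),(4,1),(1,1),(0,2),(3,2),(0,1),(0,2),(0,1),(0,2),(2,2),(0,1)],
   [(0,2),(0,2),(0,1),(2,2),(0,2),(0,1),(0,1),(0,2),(1,1),(0,2),(1,2),(0,1),(0,1),(0,1),(0,1),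
    (0,1),(1,2),(0,1),(0,1),(1,1),(1,2),(0,2),(1,1),(1,2),(0,1),(1,2),(2,1),(2,1),(1,1),(1,2),
    (0,1),(0,1),(0,2),(0,1),(0,2),(0,1),(0,1),(0,1),(0,2),(0,2),(0,1),(1,2),(2,2),(0,2),(0,2),
    (0,1),(1,2),(3,1),(0,1),(0,2),(1,1),(0,1),(0,2),(0,1),(0,1),(0,1),(0,2),(0,2),(0,2),(1,2),
    (0,2),(1,2),(0,1),(0,2),(0,1),(1,2),(0,2),(0,1),(0,2),(1,1),(1,2),(0,1),(2,1),(0,1),(0,2),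
    (1,2),(0,2),(0,2),(0,2),(0,2),(0,1),(0,1),(1,1),(0,2),(0,1),(0,1),(0,1),(0,1),(0,1),(0,1),
    (1,1),(0,1),(0,1),(0,2),(0,2),(1,1),(0,1),(0,2),(0,1),(1,1),(0,1),(0,2),(0,1),(1,1),(0,2),
    (0,2),(0,1),(0,2),(0,1),(0,2),(1,2),(1,1),(0,2),(0,1),(2,2),(1,1),(2,1),(3,2),(0,1),(0,2),
    (1,1),(1,2),(0,1),(1,1),(1,1),(0,1),(0,2),(1,1),(1,1),(0,2),(4,1),(1,2),(0,2),(0,1),(0,1),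
    (0,1),(0,1),(0,1),(0,1),(0,1),(0,2),(0,1),(0,1),(1,1),(1,2),(1,1),(0,2),(0,2),(1,2),(1,1),
    (2,1),(0,1),(0,1),(0,2),(1,2),(0,1),(1,2),(0,2),(0,2),(0,2),(2,1),(0,1),(0,1),(0,1),(1,1),
    (1,1),(0,1),(0,1),(0,2),(0,1),(0,1),(0,2),(0,2),(0,1),(0,2)],
   [(0,2),(0,2),(0,1),(1,1),(0,2),(0,2),(0,1),(0,1),(2,1),(0,1),(0,2),(0,2),(0,1),(0,1),(0,1),
    (0,1),(2,1),(0,1),(3,1),(0,2),(1,1),(0,2),(0,2),(0,1),(1,1),(0,1),(0,2),(0,1),(2,2),(0,2),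
    (3,2),(0,1),(0,1),(0,2),(0,2),(0,1),(0,1),(2,1),(0,2),(0,1),(0,1),(0,1),(2,2),(0,2),(0,2),
    (0,2),(0,1),(0,2),(2,2),(2,2),(0,2),(0,1),(1,1),(0,2),(0,1),(0,1),(0,2),(0,2),(0,2),(1,2),
    (0,2),(1,2),(0,1),(0,2),(0,1),(0,1),(0,2),(1,2),(0,2),(0,2),(0,1),(1,1),(0,2),(0,1),(0,1),
    (0,2),(0,2),(0,2),(0,1),(0,2),(0,2),(0,1),(0,2),(0,2),(1,1),(0,1),(0,2),(0,2),(0,1),(0,2),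
    (0,1),(1,1),(1,1),(0,2),(2,2),(2,2),(0,1),(0,2),(0,1),(1,1),(6,1),(0,1),(0,2),(0,2),(0,1),
    (1,2),(0,1),(0,2),(0,2),(0,1),(2,1),(0,2),(0,1),(0,1),(0,1),(0,2),(0,2),(0,1),(0,2),(0,1),
    (0,2),(1,2),(0,2),(0,1),(2,1),(0,1),(0,2),(0,2),(4,2),(1,1),(0,2),(0,1),(2,1),(0,2),(0,2),
    (0,1),(1,1),(1,2),(0,1),(0,1),(0,2),(0,1),(0,2),(1,2),(1,2),(0,1),(1,1),(0,1),(0,1),(0,2),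
    (0,2),(0,1),(0,2),(0,2),(0,2),(0,1),(0,1),(0,1),(0,2),(1,2),(0,2),(0,1),(0,2),(0,1),(0,2),
    (1,2),(0,1),(0,2),(1,2),(0,1),(0,2),(1,2),(0,2),(1,2),(1,2),(1,1),(2,1)],
   [(0,2),(0,2),(0,1),(0,2),(1,2),(0,2),(0,1),(0,1),(2,1),(0,1),(0,2),(0,2),(0,1),(0,1),(0,1),
    (0,2),(1,2),(0,1),(0,2),(1,2),(0,2),(0,2),(0,1),(0,2),(2,2),(0,2),(1,1),(1,1),(0,2),(0,1),
    (0,2),(0,1),(0,2),(1,2),(1,2),(0,1),(0,1),(0,2),(0,1),(0,1),(0,2),(0,2),(0,1),(0,1),(0,2),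
    (0,1),(0,1),(1,1),(1,1),(0,2),(0,2),(0,1),(0,2),(0,2),(2,1),(0,2),(1,1),(0,1),(2,1),(0,1),
    (0,1),(0,1),(0,2),(0,2),(0,2),(0,1),(0,2),(0,2),(0,2),(0,2),(0,1),(0,2),(0,1),(0,1),(0,2),
    (0,2),(0,2),(0,2),(0,1),(0,2),(0,1),(2,1),(1,1),(0,1),(0,1),(0,1),(0,2),(0,2),(0,1),(0,2),
    (0,2),(1,1),(2,2),(0,1),(0,2),(0,1),(1,1),(1,2),(1,2),(2,2),(1,1),(0,2),(1,1),(1,1),(0,2),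
    (0,2),(0,2),(0,1),(1,1),(1,2),(0,1),(2,2),(0,1),(0,2),(5,2),(0,2),(1,2),(0,2),(0,2),(0,2),
    (0,2),(0,1),(0,1),(0,2),(1,2),(0,1),(0,1),(0,1),(0,2),(0,2),(2,1),(0,1),(0,1),(1,2),(1,1),
    (0,2),(1,1),(1,1),(0,1),(1,2),(0,1),(1,1),(2,1),(0,2),(0,2),(0,1),(0,2),(0,2),(0,1),(1,1),
    (0,1),(0,2),(2,1),(0,2),(1,1),(0,1),(0,2),(0,2),(2,2),(0,2),(0,2),(0,2),(0,1),(5,1),(1,1),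
    (0,1),(2,1),(1,1),(0,2),(0,2),(1,1),(0,2),(1,2),(1,1),(0,1)],
   [(0,1),(0,1),(0,2),(0,2),(1,1),(0,1),(0,2),(0,1),(2,2),(0,2),(1,1),(0,2),(0,2),(0,2),(0,2),
    (2,2),(0,1),(3,2),(0,1),(0,2),(0,1),(0,2),(0,2),(0,2),(0,1),(0,1),(0,2),(1,2),(2,1),(1,1),
    (0,2),(1,1),(0,2),(0,2),(0,1),(0,1),(0,1),(0,2),(0,1),(1,1),(0,1),(0,2),(0,2),(0,2),(3,1),
    (0,1),(0,1),(0,2),(0,1),(2,1),(2,2),(0,1),(1,2),(0,1),(0,1),(0,2),(0,2),(0,1),(0,1),(0,1),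
    (1,1),(0,1),(0,1),(0,1),(0,2),(0,1),(0,2),(0,2),(0,1),(0,2),(0,1),(0,2),(0,1),(0,1),(1,2),
    (1,2),(0,1),(1,1),(0,1),(0,2),(0,1),(0,1),(0,2),(0,1),(0,2),(1,1),(0,2),(0,2),(0,1),(0,2),
    (0,2),(0,2),(0,1),(0,1),(1,1),(0,2),(0,2),(1,1),(0,2),(0,2),(0,2),(0,1),(0,1),(1,2),(1,2),
    (0,1),(0,1),(0,1),(0,2),(1,2),(0,1),(1,2),(0,2),(0,1),(1,2),(0,2),(1,1),(0,1),(0,1),(2,2),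
    (1,2),(1,2),(0,2),(0,2),(0,1),(3,2),(0,1),(1,2),(1,2),(1,2),(0,1),(1,2),(1,1),(0,1),(0,1),
    (2,2),(0,2),(1,2),(0,1),(0,1),(0,2),(1,2),(0,2),(0,1),(0,1),(0,2),(0,2),(0,2),(0,2),(0,2),
    (1,2),(0,1),(2,1),(0,2),(0,2),(1,2),(0,2),(0,1),(3,1),(0,1),(0,2),(0,2),(0,1),(1,1),(1,2),
    (2,1),(0,2),(0,2),(0,2),(0,1),(0,2),(0,1),(2,1),(1,1),(0,1),(3,1),(0,2),(0,1),(0,1)],
   [(0,1),(0,1),(0,2),(0,1),(0,1),(0,1),(0,1),(0,2),(1,2),(0,2),(0,1),(0,1),(0,2),(0,1),(0,2),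
    (0,2),(0,2),(0,2),(0,1),(1,1),(0,1),(0,2),(0,2),(2,1),(3,1),(0,1),(0,1),(0,1),(2,1),(0,2),
    (0,2),(1,2),(1,1),(1,1),(0,2),(0,2),(0,1),(0,1),(1,1),(2,1),(0,1),(0,2),(0,1),(1,1),(1,1),
    (0,2),(0,1),(3,2),(4,1),(2,1),(0,2),(0,1),(0,2),(0,2),(0,1),(0,1),(0,1),(0,1),(0,1),(0,1),
    (0,2),(0,1),(0,2),(0,1),(0,2),(1,1),(0,2),(0,2),(1,1),(0,1),(0,1),(5,1),(0,2),(0,2),(0,1),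
    (0,1),(0,1),(0,1),(0,1),(0,1),(0,1),(2,1),(0,2),(0,2),(0,2),(0,1),(0,1),(1,2),(0,1),(0,2),
    (0,2),(0,2),(0,2),(0,1),(0,2),(0,2),(1,2),(0,1),(0,1),(0,2),(0,2),(1,2),(1,2),(4,2),(2,1),
    (0,2),(0,1),(1,2),(0,2),(0,1),(0,2),(5,2),(0,2),(0,2),(3,2),(0,1),(0,2),(3,1),(0,2),(0,2),
    (0,1),(1,1),(0,1),(1,2),(0,1),(1,1),(1,1),(0,1),(0,1),(2,1),(1,1),(0,2),(2,1),(0,1),(0,2),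
    (0,1),(0,2),(0,1),(1,1),(0,2),(1,2),(0,2),(0,1),(0,2),(2,2),(1,1),(0,2),(0,2),(1,2),(0,2),
    (0,1),(2,1),(0,2),(0,2),(0,2),(0,1),(0,2),(0,2),(0,2),(2,2),(2,1),(0,1),(0,2),(0,2),(4,2)],
   [(0,2),(0,2),(0,1),(0,1),(0,1),(0,2),(0,2),(0,1),(0,1),(0,2),(0,1),(0,1),(0,2),(0,1),(0,2),
    (0,1),(0,1),(0,1),(4,1),(0,2),(2,2),(0,1),(3,2),(0,2),(0,1),(0,1),(4,1),(0,2),(0,2),(0,1),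
    (0,1),(1,2),(0,1),(0,1),(0,2),(0,2),(0,1),(0,1),(2,2),(0,2),(0,1),(0,1),(0,2),(0,1),(0,2),
    (0,1),(0,1),(0,2),(0,1),(6,1),(0,2),(1,2),(0,1),(0,1),(0,2),(0,1),(0,1),(0,2),(0,2),(0,2),
    (1,2),(0,2),(0,2),(0,2),(0,1),(0,2),(0,1),(1,2),(0,2),(0,2),(0,1),(0,2),(0,1),(0,2),(3,1),
    (1,2),(0,1),(0,2),(0,2),(0,2),(0,2),(0,2),(0,1),(0,2),(1,2),(0,1),(0,2),(0,1),(1,1),(0,2),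
    (0,1),(0,1),(0,1),(4,2),(1,1),(0,1),(0,2),(0,1),(1,1),(1,2),(0,1),(0,2),(0,2),(0,1),(1,2),
    (0,2),(1,2),(1,2),(0,1),(0,1),(1,1),(2,2),(0,2),(0,1),(1,1),(0,1),(0,1),(0,2),(0,2),(0,1),
    (0,2),(2,1),(1,2),(0,1),(0,2),(0,2),(1,1),(0,2),(0,2),(0,1),(0,2),(0,1),(0,2),(0,1),(0,1),
    (0,2),(0,1),(0,1),(0,1),(0,1),(0,1),(1,2),(0,2),(0,2),(0,2),(1,1),(1,1),(0,1),(0,2),(0,2),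
    (1,2),(0,1),(2,1),(0,2),(1,2),(2,2),(2,2),(1,2),(0,2),(0,1),(0,2),(0,2),(0,1),(0,2),(0,2),
    (0,2),(1,1),(0,1),(0,1),(1,1),(0,2),(1,2),(1,2),(1,1),(0,1),(0,1),(0,1),(0,2),(0,2),(0,2),
    (0,1),(0,2)],
   [(0,1),(0,1),(0,2),(2,1),(0,1),(0,2),(0,1),(0,2),(0,2),(0,1),(0,1),(0,2),(0,1),(0,2),(0,2),
    (0,2),(3,1),(0,1),(4,1),(0,1),(0,1),(0,1),(0,2),(0,2),(0,2),(0,2),(0,1),(2,1),(0,2),(1,1),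
    (1,2),(1,1),(0,2),(0,2),(0,1),(1,2),(0,1),(0,2),(0,1),(1,1),(0,2),(0,1),(0,1),(0,1),(0,2),
    (0,1),(0,2),(0,1),(2,2),(0,1),(1,2),(0,1),(0,1),(0,1),(0,2),(0,1),(0,1),(0,1),(0,1),(0,2),
    (0,2),(0,1),(0,1),(0,1),(0,2),(0,1),(0,1),(0,1),(0,1),(0,2),(0,1),(0,2),(0,1),(0,1),(1,2),
    (1,1),(0,2),(0,2),(0,1),(0,1),(2,1),(1,1),(0,1),(0,1),(0,1),(0,2),(0,1),(0,1),(0,1),(0,2),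
    (1,2),(0,1),(0,2),(0,2),(0,2),(0,1),(0,1),(0,2),(0,1),(0,1),(0,1),(1,2),(0,2),(0,1),(0,2),
    (0,2),(1,1),(0,1),(0,2),(0,2),(0,1),(1,1),(0,1),(2,2),(0,2),(0,1),(0,1),(0,2),(0,2),(2,1),
    (0,1),(0,2),(0,2),(0,1),(0,1),(0,2),(0,2),(2,2),(0,2),(0,2),(0,2),(1,1),(2,2),(0,1),(1,1),
    (0,2),(2,1),(1,2),(2,1),(0,1),(0,1),(0,1),(0,1),(0,1),(0,2),(0,1),(1,2),(0,1),(1,2),(0,1),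
    (0,1),(0,2),(0,1),(0,2),(0,1),(0,1),(1,1),(1,2),(0,1),(0,2),(0,2),(2,2),(1,1),(0,2),(0,1),
    (0,1),(1,1),(0,1),(0,2),(0,1),(1,2),(0,2),(0,1),(0,1),(1,1),(2,1),(1,2),(1,2),(0,1),(0,2),
    (0,1),(0,2),(3,1),(0,1),(0,1),(0,2),(0,1),(0,1)],
   [(1,1),(2,1),(0,1),(3,2),(0,2),(1,1),(0,2),(0,2),(2,2),(1,2),(0,2),(0,2),(0,2),(0,2),(2,1),
    (1,2),(0,1),(0,2),(0,2),(0,1),(0,1),(0,2),(0,1),(0,2),(0,2),(2,2),(7,1),(0,2),(0,2),(0,1),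
    (0,2),(0,2),(1,2),(0,1),(1,2),(0,2),(3,1),(0,2),(0,2),(1,2),(1,1),(0,2),(0,2),(1,1),(1,2),
    (0,1),(9,2),(5,2),(0,1),(0,1),(2,2),(0,2),(0,1),(0,2),(0,1),(0,1),(0,2),(0,1),(2,2),(4,2),
    (1,2),(2,1),(1,2),(1,2),(0,1),(0,2),(2,2),(0,1),(0,1),(0,1),(2,2),(1,1),(0,2),(1,2),(0,1),
    (1,2),(1,2),(1,1),(1,2),(0,2),(0,2),(0,2),(1,2),(0,1),(0,1),(0,2),(0,1),(0,2),(0,2),(0,1),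
    (2,2),(0,2),(0,1),(1,1),(1,1),(1,2),(0,1),(0,2),(0,1),(0,1),(0,1),(0,1),(2,1),(0,1),(2,2),
    (0,1),(0,2),(0,2),(0,2),(1,2),(0,1),(0,1),(0,2),(0,2),(2,2),(0,2),(2,1),(2,1),(1,1),(1,2),
    (0,2),(0,1),(2,1),(0,1),(0,2),(2,2),(0,2),(0,2),(0,1),(0,1),(0,2),(0,1),(0,1),(1,1),(1,2),
    (1,1),(0,1),(2,1),(0,2),(2,1),(1,2),(1,2),(1,1),(2,2),(0,2)],
   [(1,2),(1,2),(0,1),(0,2),(3,2),(3,2),(0,1),(2,1),(0,2),(1,2),(1,2),(0,1),(0,2),(0,1),(0,2),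
    (1,1),(1,2),(0,2),(1,2),(0,2),(1,1),(0,1),(2,2),(0,1),(0,1),(5,2),(1,1),(1,2),(0,1),(1,1),
    (0,2),(3,1),(1,1),(0,2),(1,2),(2,1),(0,2),(1,1),(1,2),(0,1),(0,1),(0,1),(0,2),(5,2),(2,1),
    (5,1),(1,1),(0,2),(0,1),(1,1),(0,1),(0,1),(0,2),(0,1),(0,2),(1,2),(1,1),(1,2),(2,2),(1,2),
    (2,2),(1,1),(0,1),(1,1),(1,1),(2,2),(0,2),(0,2),(0,1),(1,2),(0,1),(0,2),(1,1),(1,1),(0,1),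
    (0,1),(4,2),(1,1),(0,1),(1,2),(0,1),(0,1),(0,1),(1,2),(2,2),(0,1),(0,1),(2,2),(0,1),(1,2),
    (0,2),(1,2),(0,2),(0,1),(0,1),(0,2),(0,2),(0,1),(4,2),(0,1),(0,1),(0,1),(0,2),(0,1),(0,2),
    (0,2),(0,1),(1,2),(0,2),(1,1),(0,1),(0,2),(1,1),(0,1),(0,1),(0,1),(1,1),(0,1),(0,2),(0,1),
    (0,1),(0,2),(1,2),(0,2),(0,1),(1,2),(0,2),(0,2),(0,1),(0,1),(3,2),(0,2),(1,2),(2,1),(0,2),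
    (4,2),(0,2),(0,2),(0,1),(2,2),(0,1),(2,2),(0,1)]]

/-- Rows of a matrix. -/
def matB6 : List (List (ℕ × ℕ)) :=
  [[(1,2),(1,2),(0,2),(0,2),(2,2),(0,1),(0,1),(1,1),(1,1),(2,1),(0,2),(0,1),(0,2),(0,2),(0,2),
    (0,2),(0,2),(0,1),(0,1),(2,2),(0,2),(0,1),(0,1),(0,1),(0,2),(0,1),(0,2),(0,2),(0,1),(0,1),
    (0,1),(1,1),(5,2),(0,2),(0,1),(1,1),(0,2),(0,2),(0,1),(0,2),(1,2),(0,1),(0,1),(1,2),(0,2),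
    (0,1),(0,1),(1,1),(0,1),(0,1),(0,2),(0,2),(1,1),(0,1),(0,2),(10,1),(5,1),(0,1),(1,1),(0,1),
    (2,1),(0,1),(1,2),(0,2),(0,2),(0,2),(1,1),(1,2),(2,1),(1,1),(0,1),(1,2),(0,1),(0,1),(0,2),
    (0,2),(1,1),(0,2),(0,2),(0,1),(0,1),(1,1),(0,2),(0,2),(0,2),(0,2),(1,1),(0,1),(0,2),(0,2),
    (0,1),(1,1),(2,1),(0,1),(0,2),(0,2),(1,1),(2,2),(0,1),(2,2),(1,2),(0,2),(0,1),(0,1),(1,1),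
    (0,1),(0,2),(0,1),(0,2),(0,1),(0,1),(0,1),(0,1),(1,1),(0,2),(1,2),(2,1),(0,2),(1,1),(0,1),
    (0,2),(0,2),(0,1),(0,2),(0,2),(1,2),(0,1),(2,1),(3,1),(0,2),(0,2),(3,1),(0,2),(1,1),(1,2),
    (0,2),(2,1),(2,2),(0,1),(1,2),(1,1),(3,1),(1,2),(1,1),(1,2),(0,2),(0,1),(0,1),(0,1),(0,2),
    (0,2),(5,1),(1,1),(0,2),(0,2)],
   [(1,2),(1,1),(0,1),(0,2),(3,1),(0,1),(1,2),(0,1),(0,1),(2,1),(1,1),(0,1),(0,1),(1,2),(0,1),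
    (0,1),(0,1),(0,2),(1,1),(0,1),(0,2),(1,1),(0,1),(0,2),(0,2),(0,2),(1,2),(0,1),(1,1),(0,1),
    (4,2),(1,2),(0,1),(0,2),(1,1),(0,1),(0,2),(1,1),(0,2),(0,1),(0,1),(0,1),(0,2),(0,1),(0,1),
    (1,1),(0,1),(0,1),(0,1),(0,2),(0,2),(0,1),(0,2),(0,2),(1,2),(5,1),(2,2),(5,1),(0,2),(1,1),
    (1,2),(0,2),(0,2),(1,1),(0,1),(0,2),(0,2),(0,2),(1,1),(1,2),(2,1),(0,1),(0,2),(0,2),(1,2),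
    (0,2),(0,1),(0,2),(0,1),(1,1),(0,2),(0,2),(0,2),(0,1),(1,1),(0,2),(0,1),(0,1),(0,2),(1,1),
    (1,2),(0,1),(1,2),(1,1),(0,2),(2,1),(1,1),(1,2),(0,2),(0,2),(0,1),(0,1),(0,2),(0,1),(0,2),
    (0,2),(0,1),(1,2),(1,2),(0,1),(0,2),(0,1),(0,2),(2,2),(0,2),(0,2),(0,2),(0,1),(0,1),(0,1),
    (0,1),(0,1),(0,1),(1,1),(0,1),(0,2),(1,2),(0,2),(0,1),(0,1),(1,2),(0,1),(1,1),(1,2),(1,2),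
    (1,1),(5,2),(1,1),(3,1),(1,2),(0,2),(0,1),(0,1),(0,1),(0,2),(1,1),(0,1),(2,2),(0,2),(1,2),
    (0,2),(0,1),(1,2),(0,1),(0,1),(0,1),(0,1),(1,2),(2,1),(2,1),(0,1),(0,1),(0,1),(0,2)],
   [(1,1),(1,2),(0,2),(0,1),(2,1),(0,2),(0,2),(1,2),(0,1),(0,2),(2,2),(0,1),(1,1),(0,1),(1,1),
    (0,1),(0,2),(0,2),(2,1),(0,1),(1,2),(0,1),(1,2),(0,2),(0,1),(0,2),(1,2),(1,1),(5,1),(0,2),
    (2,1),(0,1),(1,2),(0,1),(1,1),(0,2),(0,2),(1,1),(0,1),(0,2),(0,2),(1,2),(0,2),(0,1),(1,1),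
    (0,2),(0,2),(0,1),(0,2),(0,1),(6,1),(2,1),(5,2),(0,1),(2,1),(0,2),(0,2),(0,2),(0,1),(1,1),
    (1,1),(0,1),(1,2),(1,1),(1,2),(0,2),(0,2),(0,2),(2,1),(1,2),(1,2),(0,1),(0,2),(1,2),(0,2),
    (0,2),(0,1),(0,2),(1,2),(0,2),(1,1),(0,2),(0,1),(0,2),(0,2),(0,1),(2,2),(1,1),(1,2),(0,1),
    (0,2),(1,2),(0,2),(0,2),(0,1),(0,1),(5,1),(1,1),(0,2),(0,1),(1,2),(1,1),(2,2),(0,2),(0,2),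
    (0,2),(0,2),(0,2),(1,2),(1,2),(0,1),(0,1),(0,1),(0,2),(0,1),(0,2),(0,1),(1,2),(0,1),(1,1),
    (0,2),(0,1),(1,1),(0,1),(0,2),(0,2),(0,2),(0,2),(0,2),(2,1),(0,2),(1,2),(0,1),(0,2),(1,2),
    (0,1),(0,1),(0,2),(0,1),(0,2),(1,1),(3,2),(0,1),(0,2),(0,2),(0,1),(0,1),(1,2),(0,2),(0,1),
    (0,1),(0,2),(0,1),(1,2),(0,2),(1,2),(0,1),(0,1),(0,2),(0,2),(0,1),(0,1)],
   [(1,1),(1,2),(0,1),(0,1),(3,1),(0,1),(0,2),(1,2),(0,2),(2,2),(0,2),(0,1),(3,2),(1,2),(0,1),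
    (1,1),(0,2),(0,2),(0,2),(5,1),(2,1),(0,1),(0,2),(0,1),(4,1),(0,1),(0,2),(0,2),(0,2),(2,2),
    (0,1),(0,1),(1,1),(0,2),(2,1),(0,1),(0,1),(0,2),(0,1),(0,2),(1,1),(0,1),(1,1),(0,1),(2,1),
    (8,1),(4,2),(0,2),(0,1),(0,1),(1,1),(0,1),(1,1),(0,1),(0,1),(0,2),(0,2),(0,2),(0,1),(1,2),
    (1,1),(2,1),(0,2),(0,1),(2,1),(1,2),(0,1),(0,1),(0,2),(1,2),(0,1),(0,1),(1,1),(0,1),(1,2),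
    (0,2),(0,2),(0,1),(0,2),(2,1),(3,2),(1,1),(0,2),(0,2),(1,1),(0,2),(0,1),(0,1),(1,2),(0,1),
    (0,1),(0,1),(0,1),(1,2),(1,2),(2,1),(0,1),(0,1),(0,1),(0,1),(0,1),(0,1),(0,1),(0,1),(0,1),
    (2,2),(0,2),(0,2),(0,2),(0,1),(0,1),(0,1),(1,1),(3,2),(0,2),(0,2),(0,2),(0,1),(0,1),(0,2),
    (0,2),(2,1),(0,2),(0,1),(1,2),(0,2),(1,1),(0,2),(0,1),(2,2),(0,2),(0,1),(0,2),(1,1),(0,1),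
    (3,2),(0,1),(1,2),(1,1),(0,2),(0,2),(0,1),(0,2),(0,1),(5,2),(0,1),(2,2),(0,1),(2,1),(0,2),
    (0,1)],
   [(1,2),(2,2),(0,2),(3,2),(0,1),(2,1),(0,1),(2,1),(0,1),(0,1),(0,2),(1,1),(0,1),(2,1),(0,1),
    (0,2),(0,1),(0,1),(0,2),(1,2),(0,2),(1,1),(0,1),(2,2),(1,2),(5,2),(0,2),(0,2),(1,1),(0,2),
    (1,1),(0,2),(2,2),(0,2),(0,2),(1,2),(0,1),(0,2),(1,1),(1,2),(0,2),(0,1),(1,2),(1,1),(10,1),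
    (5,1),(0,2),(0,2),(1,2),(1,2),(0,2),(0,2),(1,2),(0,1),(0,2),(1,2),(0,1),(3,2),(0,2),(1,1),
    (2,2),(1,1),(0,1),(1,2),(0,2),(0,1),(2,2),(0,2),(0,2),(0,1),(3,2),(1,1),(1,2),(0,2),(0,1),
    (0,1),(1,1),(1,2),(0,2),(0,1),(0,2),(1,2),(0,2),(0,1),(1,2),(0,1),(0,1),(0,2),(0,1),(2,1),
    (0,2),(0,2),(0,2),(3,2),(2,1),(1,2),(2,1),(0,2),(0,1),(0,1),(0,1),(2,2),(0,1),(0,2),(0,2),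
    (0,2),(0,1),(0,2),(0,1),(0,1),(1,1),(0,1),(0,2),(2,1),(0,2),(2,2),(0,2),(1,1),(0,2),(0,2),
    (1,2),(0,2),(0,1),(1,1),(0,2),(1,2),(1,1),(0,1),(0,2),(0,2),(0,1),(1,2),(2,1),(0,2),(0,1),
    (1,2),(1,2),(0,2),(0,2),(1,2),(1,1),(0,1),(2,2),(0,1),(0,1),(1,2)],
   [(1,1),(1,1),(0,2),(0,1),(2,1),(0,1),(0,1),(0,1),(1,2),(0,2),(2,2),(0,2),(1,1),(2,1),(0,1),
    (0,2),(0,1),(3,1),(1,1),(0,1),(0,2),(1,2),(0,2),(0,2),(1,1),(1,2),(5,1),(0,2),(0,2),(0,1),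
    (0,1),(0,2),(1,2),(0,1),(0,2),(2,1),(2,1),(0,1),(0,1),(0,1),(0,1),(0,2),(0,1),(0,2),(0,2),
    (1,2),(0,2),(0,2),(0,2),(6,2),(2,1),(4,1),(0,2),(0,2),(0,1),(0,1),(0,2),(1,1),(0,2),(1,1),
    (0,2),(1,2),(0,1),(0,2),(0,2),(1,1),(2,1),(1,1),(2,1),(1,2),(0,2),(0,1),(0,2),(1,1),(0,1),
    (0,1),(1,1),(0,2),(1,2),(0,2),(1,1),(0,2),(0,2),(1,2),(1,2),(0,2),(0,1),(1,1),(1,2),(0,1),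
    (0,2),(4,2),(0,2),(1,1),(0,1),(1,2),(0,1),(1,2),(0,1),(1,2),(0,1),(0,1),(0,1),(3,2),(1,2),
    (0,2),(1,1),(2,2),(1,2),(0,1),(0,2),(0,2),(0,1),(0,1),(1,2),(0,1),(1,2),(2,2),(1,2),(1,1),
    (1,1),(0,1),(0,1),(0,2),(0,1),(3,2),(0,2),(1,2),(0,1),(0,2),(1,2),(0,2),(0,1),(0,1),(2,2),
    (0,1),(0,2),(0,2),(0,2),(0,1),(0,1),(1,2),(0,1),(0,2),(0,1),(0,2),(0,2),(0,1),(0,2),(0,1),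
    (0,1),(0,2),(0,2),(0,2),(3,2),(0,1)],
   [(0,1),(0,2),(0,2),(1,2),(0,2),(1,2),(0,1),(2,2),(0,2),(1,2),(0,1),(0,1),(0,1),(0,1),(2,1),
    (0,2),(4,1),(1,1),(0,2),(0,1),(0,2),(1,1),(0,2),(1,1),(1,1),(1,1),(0,2),(1,2),(0,1),(0,1),
    (0,2),(0,1),(0,1),(0,2),(0,1),(2,2),(0,1),(0,2),(0,1),(0,1),(0,2),(0,1),(0,2),(0,1),(0,2),
    (2,2),(3,1),(0,1),(0,2),(0,1),(2,1),(1,1),(0,1),(0,2),(0,1),(0,1),(0,1),(0,1),(0,1),(0,1),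
    (0,1),(0,1),(0,1),(0,1),(0,2),(0,2),(1,2),(0,1),(0,2),(6,2),(2,2),(0,2),(0,1),(1,1),(0,1),
    (1,1),(0,2),(0,1),(0,1),(0,1),(0,1),(0,2),(0,1),(0,1),(4,2),(2,1),(1,1),(1,1),(0,2),(0,2),
    (0,1),(0,1),(0,1),(0,1),(0,1),(0,2),(0,2),(0,1),(4,1),(1,2),(0,2),(0,2),(1,1),(0,2),(1,2),
    (0,1),(1,2),(0,2),(0,2),(1,2),(1,2),(1,2),(1,1),(0,1),(0,1),(0,1),(0,2),(1,2),(0,1),(0,1),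
    (0,1),(1,1),(0,2),(1,2),(3,1),(0,1),(1,2),(1,2),(0,2),(0,2),(4,2),(1,2),(0,1),(0,1),(0,2),
    (1,1),(0,2),(0,1),(0,2),(0,2),(0,2),(0,2),(0,2),(0,2),(0,1),(3,2),(0,1),(1,2),(0,2),(0,1),
    (0,2),(0,2),(0,2),(0,1),(1,1),(0,1),(1,1),(0,2),(0,2),(0,2),(1,1),(0,2),(0,2),(2,2),(1,1)],
   [(0,2),(0,1),(0,1),(2,1),(1,1),(1,2),(1,1),(0,2),(0,2),(0,1),(0,2),(0,2),(0,2),(0,2),(0,2),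
    (0,1),(0,1),(0,1),(4,2),(2,1),(0,2),(0,2),(1,2),(0,2),(1,2),(0,2),(0,2),(0,2),(0,1),(0,1),
    (0,2),(0,1),(0,2),(0,2),(0,1),(0,2),(0,2),(0,2),(0,1),(0,2),(1,1),(0,2),(0,1),(0,2),(0,1),
    (0,1),(0,2),(1,1),(0,1),(1,2),(0,1),(3,2),(0,2),(0,1),(0,2),(0,1),(1,2),(0,2),(0,2),(0,2),
    (0,1),(0,2),(0,2),(1,2),(0,2),(0,1),(0,2),(0,2),(0,2),(0,2),(0,1),(0,1),(1,1),(0,1),(0,1),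
    (0,2),(1,2),(2,2),(3,1),(0,1),(0,2),(1,2),(0,2),(0,2),(2,2),(0,2),(0,2),(0,2),(0,1),(0,2),
    (3,1),(0,2),(0,2),(0,2),(2,1),(2,1),(0,2),(1,2),(1,2),(1,1),(1,2),(0,1),(1,2),(0,1),(0,2),
    (0,1),(0,1),(1,2),(0,2),(0,2),(1,2),(0,2),(0,2),(0,1),(0,2),(1,2),(1,1),(0,2),(0,1),(0,1),
    (1,2),(0,2),(0,1),(1,2),(2,2),(0,1),(0,1),(2,2),(1,2),(0,2),(1,1),(1,1),(0,2),(0,1),(0,1),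
    (1,2),(0,1),(4,1),(2,1),(0,2),(0,2),(0,2),(1,1),(0,1),(1,2),(2,2),(0,2),(0,2),(0,2),(0,2),
    (0,1),(0,1),(2,1),(0,1),(1,2),(0,1),(0,2),(0,2),(0,1),(0,1),(0,1),(0,1),(0,2),(0,1),(0,2),
    (0,2),(2,1),(0,1),(0,2),(0,2),(0,1),(0,1),(2,2)],
   [(0,2),(0,1),(0,1),(1,2),(0,1),(1,1),(0,2),(2,1),(0,1),(1,1),(0,2),(0,2),(0,2),(2,2),(0,2),
    (0,1),(0,1),(2,1),(0,2),(0,1),(0,1),(0,2),(0,2),(0,1),(0,2),(0,2),(0,1),(0,1),(1,1),(0,1),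
    (1,2),(0,1),(0,2),(0,1),(0,2),(0,2),(0,1),(0,2),(0,2),(0,1),(0,1),(1,1),(0,2),(0,2),(0,1),
    (0,2),(0,2),(0,2),(0,2),(0,1),(0,1),(0,1),(2,1),(2,2),(0,2),(0,2),(0,1),(1,1),(0,1),(0,1),
    (0,1),(0,2),(0,2),(0,1),(0,2),(0,2),(1,2),(0,2),(0,2),(0,2),(0,2),(0,2),(0,2),(0,1),(0,1),
    (0,2),(0,2),(1,1),(0,2),(1,1),(3,1),(3,1),(0,2),(1,2),(0,2),(1,2),(0,1),(0,1),(0,2),(0,2),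
    (0,1),(0,1),(3,2),(0,1),(3,1),(0,2),(1,1),(0,1),(2,2),(0,2),(0,2),(0,2),(0,1),(0,2),(0,1),
    (0,2),(0,2),(4,1),(0,2),(0,2),(0,1),(0,1),(0,2),(0,2),(0,2),(1,1),(0,1),(0,2),(0,1),(0,1),
    (1,2),(2,2),(2,1),(0,2),(1,1),(0,1),(0,2),(2,1),(0,2),(1,2),(0,1),(0,2),(0,1),(1,1),(0,1),
    (1,1),(0,2),(0,1),(1,2),(1,1),(3,1),(1,2),(0,2),(0,1),(0,1),(1,1),(0,2),(2,2),(0,2),(1,2),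
    (0,2),(1,2),(0,1),(0,1),(1,1),(1,1),(0,1),(0,1),(0,2),(0,1),(0,2),(0,1),(0,1),(4,2),(0,1),
    (0,1),(0,2),(0,2),(0,2),(0,2),(0,2),(1,1),(0,2),(1,1),(0,2),(0,1)],
   [(0,2),(0,1),(0,1),(0,2),(0,2),(0,1),(1,1),(0,2),(2,1),(0,1),(1,1),(0,2),(0,2),(0,2),(3,2),
    (0,2),(0,2),(0,1),(1,2),(0,1),(0,1),(3,2),(0,1),(1,1),(0,2),(1,2),(0,1),(1,2),(0,2),(1,1),
    (0,2),(0,2),(0,1),(0,2),(2,2),(0,1),(1,2),(0,2),(0,1),(0,2),(0,2),(1,1),(2,1),(2,1),(2,1),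
    (0,2),(1,2),(2,2),(0,1),(0,2),(0,2),(0,2),(0,1),(0,2),(0,2),(0,1),(0,2),(0,2),(1,2),(0,2),
    (0,2),(0,2),(0,1),(0,1),(1,2),(0,1),(0,2),(0,1),(0,1),(1,2),(0,2),(0,2),(3,1),(0,1),(0,2),
    (1,2),(0,2),(1,2),(1,1),(0,2),(0,2),(0,1),(0,1),(0,1),(0,2),(1,1),(0,2),(0,2),(0,2),(0,2),
    (0,1),(0,1),(1,2),(1,2),(0,2),(1,1),(0,2),(0,2),(0,1),(0,1),(1,2),(0,2),(0,2),(0,1),(0,2),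
    (0,1),(0,2),(2,2),(1,1),(0,1),(0,1),(0,2),(1,1),(0,2),(3,1),(0,1),(0,1),(1,1),(0,2),(2,1),
    (0,2),(0,2),(1,1),(0,1),(0,1),(0,1),(0,1),(0,1),(0,2),(1,1),(0,2),(0,2),(1,2),(1,2),(0,2),
    (0,2),(0,2),(2,1),(2,1),(2,1),(0,2),(0,2),(0,1),(0,1),(0,1),(0,1),(1,2),(1,2),(0,2),(0,2),
    (1,2),(1,2),(0,2),(1,2),(1,2),(0,1),(0,2),(0,1),(0,1),(0,2),(0,1),(3,1),(0,1),(0,2),(0,2),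
    (2,1),(0,2),(0,2),(1,2),(0,1),(1,1),(0,2),(0,1)],
   [(0,1),(0,2),(0,2),(0,2),(1,2),(1,2),(0,2),(3,2),(0,2),(0,2),(0,1),(0,1),(0,1),(2,1),(0,1),
    (0,2),(0,1),(2,2),(2,1),(0,2),(0,2),(3,2),(2,1),(0,1),(1,1),(1,1),(0,2),(0,1),(0,1),(0,2),
    (0,1),(0,1),(0,1),(0,2),(0,1),(0,1),(0,2),(0,1),(0,2),(1,1),(0,1),(0,1),(0,2),(0,2),(0,2),
    (6,1),(1,1),(3,1),(0,2),(0,1),(0,1),(0,2),(0,1),(0,1),(1,1),(0,1),(1,1),(0,1),(0,1),(0,1),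
    (1,2),(1,1),(0,1),(0,2),(0,2),(1,1),(0,1),(0,2),(1,2),(2,2),(0,2),(0,1),(1,1),(0,2),(1,2),
    (0,1),(0,1),(0,1),(0,1),(0,1),(0,2),(0,2),(0,1),(0,2),(0,2),(1,2),(1,2),(1,1),(0,1),(0,2),
    (1,1),(1,2),(0,2),(2,1),(0,2),(0,1),(0,1),(1,2),(0,1),(1,1),(0,1),(1,2),(0,2),(4,1),(0,1),
    (0,1),(0,2),(0,2),(0,1),(0,1),(2,2),(1,2),(1,2),(0,2),(3,1),(0,2),(1,1),(0,1),(0,2),(0,1),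
    (1,1),(0,2),(0,2),(3,1),(7,2),(0,1),(0,1),(0,1),(0,2),(1,2),(0,1),(0,1),(3,1),(0,2),(2,2),
    (3,1),(3,2),(3,2),(1,1),(0,1),(2,2),(1,1),(1,1),(0,2),(0,2),(4,1),(0,2),(0,2),(0,2),(0,2),
    (1,2)],
   [(0,1),(0,2),(0,2),(0,1),(0,1),(0,2),(1,2),(0,1),(0,2),(0,2),(0,1),(0,1),(1,2),(0,1),(0,1),
    (0,1),(0,2),(0,2),(0,1),(0,2),(0,1),(0,1),(0,1),(2,1),(0,1),(2,1),(0,1),(1,1),(0,1),(2,1),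
    (0,1),(0,2),(0,2),(0,1),(0,2),(0,2),(0,1),(0,1),(0,2),(0,1),(0,1),(0,2),(0,1),(1,2),(0,2),
    (0,1),(0,2),(0,2),(0,2),(1,2),(1,1),(0,2),(0,2),(0,2),(0,1),(0,2),(5,2),(2,2),(0,2),(0,1),
    (0,1),(0,2),(0,1),(0,1),(0,1),(0,1),(0,1),(1,1),(0,1),(0,1),(0,1),(0,1),(0,2),(1,2),(1,2),
    (0,2),(0,1),(1,2),(1,1),(0,1),(0,1),(1,2),(0,2),(0,1),(1,1),(0,1),(0,2),(0,2),(1,1),(0,1),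
    (0,1),(0,1),(0,2),(0,2),(1,2),(0,2),(0,2),(1,1),(0,2),(1,1),(0,2),(0,1),(1,2),(0,2),(1,1),
    (0,2),(0,2),(2,2),(1,1),(1,1),(0,2),(1,1),(0,1),(0,1),(1,1),(0,1),(0,2),(0,1),(0,2),(0,1),
    (2,1),(0,2),(0,2),(1,1),(3,2),(0,1),(0,2),(0,2),(0,1),(0,1),(0,1),(0,2),(1,1),(0,2),(0,2),
    (0,2),(2,1),(1,1),(1,2),(0,1),(2,2),(4,1),(0,2),(0,1),(0,1),(0,1),(0,2),(2,2),(0,1),(0,1),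
    (0,2),(1,1),(0,2),(0,2),(0,2),(0,2),(0,2),(0,1),(0,2),(0,2),(0,1),(0,2),(0,1),(0,2),(0,1),
    (0,1),(1,2),(0,2),(0,2),(0,2),(0,1),(0,1),(0,2),(0,1),(0,1),(0,1),(0,1),(1,2),(4,2),(0,2),
    (0,1),(0,1),(0,2),(0,2)],
   [(0,2),(0,1),(0,1),(0,1),(0,2),(0,1),(1,1),(0,2),(0,2),(1,1),(0,2),(1,1),(0,2),(0,2),(0,2),
    (0,2),(1,1),(0,1),(0,1),(3,2),(0,1),(0,2),(2,2),(2,2),(0,2),(1,1),(0,2),(1,2),(0,2),(0,1),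
    (1,1),(0,2),(0,2),(0,1),(0,2),(0,2),(0,1),(0,1),(1,2),(1,2),(0,1),(0,2),(0,1),(2,2),(0,2),
    (0,1),(1,2),(0,1),(4,2),(0,1),(0,1),(0,2),(1,1),(0,1),(0,2),(0,2),(0,1),(0,2),(0,2),(1,2),
    (0,2),(0,1),(0,2),(0,2),(0,2),(0,2),(0,1),(0,1),(0,2),(0,2),(0,2),(0,1),(0,2),(0,2),(1,1),
    (1,2),(0,1),(2,2),(0,1),(0,2),(1,2),(0,1),(0,2),(0,2),(0,2),(1,2),(0,2),(1,1),(1,2),(0,1),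
    (0,1),(0,2),(0,2),(1,2),(1,1),(1,2),(0,1),(3,1),(0,2),(1,1),(0,2),(0,1),(1,2),(3,1),(0,1),
    (0,2),(0,1),(0,1),(1,1),(0,1),(1,2),(3,1),(1,1),(0,2),(0,2),(0,1),(1,1),(1,1),(0,2),(0,1),
    (0,2),(0,2),(0,2),(0,2),(0,2),(0,2),(0,1),(0,1),(0,2),(0,1),(0,1),(0,2),(1,1),(0,1),(1,2),
    (0,1),(0,1),(2,1),(0,1),(0,1),(0,1),(0,1),(1,1),(1,1),(1,1),(0,2),(1,1),(0,1),(0,2),(1,2),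
    (0,2),(0,1),(0,1),(0,2),(0,1),(0,2),(0,1),(1,1),(1,1),(0,1),(5,2),(0,2),(0,1),(0,2),(0,2),
    (0,1),(0,1),(3,1),(0,1),(0,1),(0,2),(2,2),(0,2),(1,2)],
   [(0,1),(0,2),(0,2),(2,2),(1,2),(0,2),(0,2),(0,1),(0,1),(0,1),(1,2),(0,1),(0,1),(0,1),(0,1),
    (1,2),(0,2),(1,1),(3,1),(1,2),(0,2),(0,2),(0,2),(1,1),(0,1),(1,2),(0,2),(0,1),(0,2),(1,2),
    (0,1),(0,2),(0,1),(0,1),(0,2),(0,1),(1,2),(0,1),(0,2),(1,2),(0,1),(0,2),(0,2),(0,2),(1,1),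
    (0,2),(1,2),(0,1),(0,2),(0,1),(0,1),(2,1),(0,2),(0,2),(1,1),(1,1),(0,2),(0,1),(0,1),(0,2),
    (0,1),(0,1),(0,2),(0,1),(0,1),(1,1),(0,1),(0,1),(0,1),(0,1),(0,2),(0,1),(0,2),(0,2),(0,2),
    (1,2),(0,2),(2,2),(1,2),(1,1),(0,2),(0,1),(1,1),(1,2),(0,1),(1,1),(0,1),(0,1),(0,1),(0,2),
    (0,2),(0,1),(0,2),(0,2),(0,2),(0,2),(2,1),(0,2),(0,2),(0,2),(0,1),(0,1),(0,1),(1,2),(2,1),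
    (3,2),(0,1),(2,2),(1,2),(3,2),(0,1),(0,2),(1,2),(0,1),(0,1),(0,1),(1,1),(0,2),(1,2),(1,1),
    (1,1),(1,2),(0,2),(2,1),(1,1),(0,2),(0,2),(0,2),(0,1),(0,1),(0,1),(0,1),(0,1),(0,2),(0,1),
    (0,2),(0,2),(0,2),(0,1),(4,1),(0,1),(0,1),(0,2),(2,1),(0,1),(0,1),(0,2),(0,1),(2,1),(0,2),
    (0,2),(0,2),(0,1),(0,2),(0,2),(0,1),(1,2),(3,1),(0,2),(1,2),(0,2),(0,2),(0,2),(0,2),(0,1),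
    (0,1),(0,2),(0,1),(2,1),(0,1),(0,2),(0,2),(2,2),(0,2),(0,1),(0,2),(0,2),(0,1)],
   [(3,1),(0,2),(4,2),(0,1),(1,1),(0,2),(0,1),(0,1),(1,2),(0,1),(0,1),(0,2),(0,2),(1,1),(0,2),
    (0,2),(0,1),(1,1),(4,2),(1,1),(0,1),(3,2),(0,2),(0,1),(0,1),(2,2),(0,1),(3,1),(0,2),(0,1),
    (4,2),(0,2),(0,1),(1,1),(0,2),(0,1),(0,2),(1,1),(0,2),(0,2),(0,2),(0,1),(2,1),(0,1),(1,2),
    (5,1),(2,2),(1,1),(0,1),(0,2),(2,1),(1,2),(0,2),(0,1),(0,2),(0,2),(0,1),(0,2),(0,2),(0,1),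
    (0,2),(0,1),(0,1),(2,1),(0,2),(0,2),(0,2),(1,1),(1,1),(0,1),(3,2),(1,1),(1,2),(0,2),(1,2),
    (1,2),(0,1),(1,2),(1,2),(1,2),(0,2),(0,2),(1,1),(0,2),(0,1),(0,2),(0,1),(0,2),(0,2),(0,1),
    (0,1),(0,1),(0,2),(1,1),(1,1),(0,1),(0,1),(0,1),(0,1),(1,2),(1,2),(2,1),(0,2),(1,2),(0,1),
    (0,2),(0,2),(0,1),(0,2),(0,1),(1,1),(1,2),(0,2),(0,2),(0,2),(0,1),(1,1),(0,2),(1,2),(0,1),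
    (2,2),(1,2),(1,2),(0,1),(4,2),(0,1),(0,2),(0,2),(0,2),(1,1),(1,1),(1,1),(2,2),(2,2),(0,1),
    (0,1),(0,2),(3,1),(0,2),(3,1),(0,1),(1,1),(1,1),(0,1),(1,1),(0,2),(1,2),(0,1),(2,2),(0,2)],
   [(3,2),(0,2),(4,2),(0,2),(2,2),(0,2),(0,2),(1,1),(0,1),(0,1),(0,2),(1,2),(0,2),(0,1),(0,1),
    (2,2),(3,2),(0,1),(2,2),(0,1),(2,2),(1,2),(0,2),(2,1),(0,2),(1,2),(0,1),(1,2),(0,2),(5,1),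
    (0,2),(1,2),(0,1),(0,2),(0,2),(1,2),(0,1),(0,1),(0,1),(0,2),(1,2),(1,2),(7,1),(2,1),(1,2),
    (0,2),(0,1),(2,2),(2,1),(2,2),(0,2),(0,1),(0,2),(0,1),(0,1),(0,2),(0,2),(2,2),(0,1),(1,2),
    (1,1),(1,2),(0,2),(2,1),(1,1),(0,1),(0,1),(0,2),(1,1),(1,1),(0,1),(0,2),(0,2),(1,1),(1,1),
    (2,1),(4,2),(0,1),(0,2),(0,1),(0,1),(1,1),(0,2),(0,1),(0,2),(0,1),(0,2),(0,1),(1,1),(0,1),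
    (0,1),(1,2),(0,2),(0,1),(1,1),(1,1),(1,2),(2,1),(0,2),(0,2),(0,2),(1,2),(0,1),(0,2),(0,1),
    (0,2),(5,2),(2,1),(1,1),(0,2),(0,1),(1,2),(0,1),(2,2),(2,1),(0,1),(0,2),(2,2),(0,1),(0,2),
    (2,2),(0,1),(4,2),(0,1),(2,2),(1,1),(1,2),(0,2),(1,1),(0,1),(0,1),(0,2),(0,2),(0,2),(0,1),
    (0,1),(0,2),(0,1),(1,2),(1,1),(0,2),(1,1)],
   [(3,2),(5,1),(0,2),(1,2),(0,1),(0,2),(0,2),(1,1),(0,1),(0,2),(0,2),(0,1),(1,1),(0,1),(0,1),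
    (0,1),(1,1),(0,1),(0,2),(2,2),(1,2),(0,1),(0,2),(0,2),(0,1),(0,1),(0,1),(0,2),(0,1),(2,1),
    (0,2),(4,1),(0,1),(0,2),(3,1),(1,2),(1,2),(0,1),(0,2),(0,1),(1,2),(0,1),(0,2),(0,2),(3,1),
    (0,1),(0,1),(0,2),(5,1),(2,1),(1,2),(0,2),(0,1),(3,2),(3,1),(1,2),(0,1),(0,1),(0,1),(0,1),
    (0,2),(0,1),(2,2),(0,1),(0,2),(0,1),(1,2),(0,1),(0,2),(0,2),(0,1),(1,2),(0,1),(0,2),(1,2),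
    (0,1),(0,2),(1,1),(0,1),(1,2),(0,1),(0,2),(1,2),(0,1),(3,1),(0,2),(0,1),(1,2),(1,1),(0,1),
    (2,1),(0,1),(3,2),(0,2),(1,2),(0,2),(0,2),(0,2),(1,1),(0,2),(0,2),(3,2),(0,1),(0,1),(0,1),
    (0,1),(0,1),(1,1),(0,1),(3,2),(1,1),(0,1),(0,1),(2,2),(0,2),(0,2),(0,1),(0,2),(0,2),(0,1),
    (0,2),(0,2),(2,1),(0,2),(1,1),(0,2),(0,2),(1,1),(0,1),(0,1),(1,2),(0,1),(0,1),(0,2),(0,1),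
    (1,2),(0,2),(0,1),(0,1),(0,2),(0,2),(0,2),(1,1),(0,2),(0,1),(0,2),(0,1),(0,1),(0,1),(2,2),
    (1,2),(0,2),(0,1),(0,2),(1,2),(0,2),(0,2),(0,1),(0,2),(1,1),(0,2)],
   [(3,1),(0,2),(4,1),(0,2),(1,1),(0,1),(0,2),(0,2),(1,1),(0,1),(0,2),(0,1),(0,2),(0,1),(1,2),
    (0,1),(1,1),(0,1),(0,2),(0,1),(1,1),(0,2),(1,1),(0,1),(2,2),(0,1),(0,1),(4,1),(0,2),(1,2),
    (1,1),(0,2),(0,2),(0,1),(3,2),(0,2),(0,2),(0,2),(0,2),(0,1),(0,2),(0,1),(1,2),(0,1),(0,2),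
    (0,1),(0,1),(0,2),(0,1),(1,1),(0,1),(6,2),(2,2),(1,2),(0,2),(0,1),(2,2),(0,1),(1,2),(0,1),
    (0,2),(0,1),(0,1),(0,2),(0,2),(0,1),(0,1),(0,2),(0,1),(2,2),(0,1),(1,1),(1,1),(0,2),(0,2),
    (0,2),(0,2),(1,2),(0,2),(0,2),(1,2),(0,1),(0,1),(3,1),(0,2),(0,1),(1,1),(1,2),(0,2),(0,1),
    (0,1),(0,2),(1,1),(0,1),(0,2),(0,2),(1,2),(0,1),(0,2),(0,1),(1,1),(0,2),(0,2),(0,2),(0,1),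
    (1,1),(0,2),(1,2),(1,2),(0,2),(0,2),(2,2),(0,1),(0,2),(0,2),(1,2),(1,1),(0,2),(1,2),(0,1),
    (0,2),(0,1),(0,2),(2,1),(3,2),(0,2),(0,1),(0,1),(0,2),(0,1),(0,2),(0,1),(1,1),(0,1),(0,1),
    (1,2),(0,1),(2,1),(0,1),(0,2),(0,2),(0,2),(0,1),(0,2),(0,2),(0,1),(2,2),(0,1),(0,1),(0,1),
    (0,2),(0,2),(1,1),(0,1),(1,1),(0,1),(1,2),(0,2),(0,1),(0,2),(0,2),(1,1),(0,1),(0,2),(1,2),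
    (0,1),(1,2),(0,2),(0,1),(0,2)],
   [(3,2),(0,1),(3,2),(0,2),(0,1),(1,2),(0,1),(0,1),(0,1),(1,2),(0,2),(0,1),(0,1),(0,1),(0,1),
    (0,2),(0,2),(1,2),(1,1),(0,2),(0,1),(0,2),(1,2),(0,2),(0,2),(0,1),(0,1),(2,2),(0,1),(0,2),
    (0,2),(2,2),(0,1),(2,1),(2,2),(4,1),(0,2),(0,1),(1,2),(0,2),(0,1),(0,2),(1,1),(1,2),(0,1),
    (0,2),(0,2),(0,2),(0,1),(0,1),(0,2),(0,2),(5,2),(2,1),(1,1),(0,1),(0,2),(3,2),(0,1),(1,2),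
    (0,2),(0,1),(0,2),(0,1),(0,2),(0,1),(0,2),(1,2),(3,2),(0,1),(0,2),(0,1),(0,1),(1,1),(0,1),
    (3,2),(1,1),(1,1),(0,2),(0,1),(3,1),(0,1),(1,1),(0,1),(2,2),(0,2),(1,2),(1,2),(0,2),(0,1),
    (0,2),(0,1),(0,1),(0,1),(0,2),(0,2),(0,1),(1,2),(1,2),(0,1),(0,1),(0,2),(0,2),(0,1),(1,1),
    (0,2),(0,1),(0,2),(0,2),(0,2),(0,1),(0,1),(1,1),(1,1),(1,2),(0,2),(0,1),(0,1),(0,1),(1,1),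
    (0,2),(0,1),(0,2),(0,1),(4,2),(0,1),(0,2),(1,1),(0,1),(0,2),(0,2),(0,1),(0,2),(0,1),(0,2),
    (1,2),(0,1),(0,2),(0,2),(0,2),(0,1),(1,2),(0,2),(0,2),(0,1),(0,1),(2,2),(2,1),(0,1),(0,2),
    (0,1),(0,2),(0,1),(0,2),(0,1),(0,2),(0,2),(1,1),(0,1),(0,2),(0,1),(0,2),(0,2),(0,2),(0,1),
    (0,2),(0,1),(0,2),(0,1),(0,2),(1,1),(0,1)],
   [(3,2),(0,2),(4,1),(0,2),(0,1),(1,2),(0,1),(0,1),(1,2),(0,1),(0,2),(2,1),(1,1),(0,2),(0,1),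
    (1,2),(0,1),(0,2),(1,2),(1,1),(2,1),(2,1),(0,2),(0,1),(3,2),(0,1),(3,2),(0,2),(0,2),(3,2),
    (1,1),(3,2),(0,2),(0,1),(0,1),(0,2),(0,2),(1,1),(0,2),(1,1),(0,1),(1,1),(0,2),(5,1),(2,1),
    (1,1),(0,1),(0,2),(0,1),(1,1),(1,2),(1,1),(2,2),(0,2),(0,1),(0,1),(0,1),(0,1),(0,1),(2,1),
    (0,2),(1,1),(0,2),(0,2),(1,1),(0,1),(2,1),(0,1),(0,1),(0,2),(0,2),(1,1),(0,2),(0,1),(0,1),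
    (0,2),(1,2),(1,1),(0,1),(2,2),(0,2),(0,2),(0,1),(0,2),(1,2),(0,2),(0,1),(0,2),(0,1),(0,1),
    (0,1),(0,2),(0,1),(1,1),(1,2),(0,1),(0,2),(0,2),(0,1),(0,1),(2,2),(0,1),(0,2),(0,2),(2,1),
    (0,1),(0,2),(0,1),(0,1),(4,2),(1,1),(1,1),(1,1),(0,2),(0,2),(0,1),(0,1),(0,1),(0,1),(0,2),
    (1,1),(0,1),(1,1),(1,2),(0,2),(0,1),(2,1),(0,2),(0,1),(0,2),(1,2),(0,1),(0,1),(0,2),(1,2),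
    (0,1),(0,2),(0,1),(3,1),(0,2),(1,2),(0,2),(2,1),(0,1),(0,2),(1,2),(0,1),(2,1),(0,1),(0,2),
    (0,2),(0,2),(0,2),(0,1),(0,1),(1,1),(0,2)],
   [(3,1),(0,1),(4,2),(4,2),(0,2),(1,1),(0,2),(1,2),(2,2),(2,1),(0,2),(0,1),(0,2),(0,1),(1,2),
    (0,1),(2,2),(0,1),(2,2),(0,1),(0,1),(0,2),(2,1),(0,2),(5,1),(5,2),(0,1),(0,1),(1,1),(1,2),
    (3,1),(0,2),(0,2),(1,2),(0,1),(0,2),(0,1),(0,2),(8,1),(1,2),(0,2),(0,1),(3,2),(0,2),(2,2),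
    (0,1),(0,1),(1,1),(0,2),(6,1),(0,1),(0,2),(1,2),(1,2),(0,2),(2,1),(2,2),(0,1),(0,2),(1,1),
    (1,1),(0,1),(0,2),(0,1),(0,1),(0,1),(1,1),(1,2),(2,2),(1,2),(0,2),(0,1),(1,1),(2,1),(0,1),
    (0,1),(1,2),(2,1),(0,2),(0,2),(0,2),(0,2),(1,2),(3,2),(0,2),(0,2),(0,1),(1,1),(0,1),(0,1),
    (1,1),(0,1),(0,1),(2,2),(1,2),(0,2),(0,1),(2,2),(0,2),(0,2),(2,1),(0,2),(0,1),(1,1),(0,1),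
    (0,1),(0,2),(0,2),(0,1),(0,1),(0,2),(0,1),(3,2),(0,1),(0,2),(1,2),(0,2),(0,2),(0,1),(0,2),
    (0,1),(0,1),(0,1),(0,1),(0,2),(1,2),(1,1),(1,2),(3,1),(0,1),(0,2),(0,2),(0,1),(1,1),(0,1),
    (0,1),(1,2),(1,1)],
   [(3,1),(4,1),(0,1),(0,2),(0,2),(1,2),(0,1),(0,1),(1,2),(0,1),(0,1),(0,1),(1,1),(0,2),(0,2),
    (0,2),(0,1),(1,1),(0,2),(0,1),(0,1),(1,2),(2,1),(0,2),(0,2),(1,1),(0,1),(0,1),(0,2),(2,2),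
    (0,1),(1,1),(1,1),(0,1),(0,1),(3,1),(2,2),(2,2),(0,2),(0,1),(0,2),(0,2),(0,2),(0,2),(0,2),
    (2,2),(0,2),(0,1),(1,1),(8,1),(1,1),(0,1),(0,2),(0,2),(1,2),(2,1),(1,1),(0,1),(0,1),(0,2),
    (0,1),(0,2),(0,1),(0,1),(3,1),(0,2),(1,1),(1,2),(1,1),(0,1),(2,2),(0,1),(0,1),(0,2),(0,1),
    (1,1),(0,2),(0,1),(0,2),(0,2),(1,2),(0,1),(0,1),(0,1),(0,2),(2,2),(0,1),(1,1),(1,2),(1,1),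
    (1,2),(0,2),(1,1),(0,1),(1,2),(0,2),(0,2),(0,1),(0,2),(0,2),(0,2),(0,2),(0,2),(0,1),(0,1),
    (0,2),(0,2),(0,2),(1,2),(5,2),(0,1),(0,2),(0,1),(1,1),(1,1),(0,2),(0,2),(0,2),(0,1),(0,1),
    (1,1),(0,2),(1,1),(0,1),(1,1),(1,2),(0,1),(3,1),(0,1),(0,2),(0,2),(4,1),(1,1),(0,1),(1,2),
    (0,1),(0,2),(0,2),(0,2),(0,2),(0,2),(1,1),(1,1),(1,1),(0,1),(1,1),(0,2),(2,1),(0,1),(0,2),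
    (1,1),(0,1),(0,2),(0,1),(0,2),(0,1),(0,1),(1,1),(0,2)],
   [(0,1),(0,1),(0,2),(0,2),(0,1),(0,1),(0,1),(0,2),(0,2),(3,1),(1,2),(0,2),(0,1),(0,1),(0,1),
    (1,1),(0,2),(0,2),(0,2),(0,1),(2,1),(0,1),(1,1),(0,1),(0,1),(1,2),(0,1),(2,2),(0,2),(1,2),
    (0,2),(0,2),(0,2),(0,1),(0,2),(0,1),(0,2),(1,2),(1,1),(0,1),(0,1),(0,2),(0,1),(1,2),(0,1),
    (1,1),(0,1),(0,2),(7,1),(1,1),(0,2),(1,1),(0,2),(0,1),(0,1),(0,2),(0,1),(0,1),(0,2),(0,1),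
    (2,1),(0,2),(0,2),(0,2),(1,1),(0,1),(0,2),(0,2),(0,1),(0,1),(0,2),(0,1),(0,2),(1,2),(0,2),
    (2,2),(0,1),(0,1),(1,2),(0,1),(1,1),(0,2),(0,2),(0,2),(0,1),(0,2),(0,1),(0,2),(1,2),(0,2),
    (1,2),(0,1),(0,2),(2,1),(0,2),(0,2),(3,1),(2,2),(0,1),(3,1),(0,2),(0,1),(0,2),(1,2),(0,1),
    (0,1),(0,1),(0,2),(1,1),(0,2),(0,2),(0,1),(0,2),(0,2),(0,2),(4,2),(1,1),(1,1),(0,1),(0,2),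
    (0,1),(0,2),(2,2),(0,1),(0,1),(0,2),(0,2),(0,2),(1,1),(3,2),(3,2),(3,1),(1,2),(1,1),(1,1),
    (0,2),(0,2),(3,2),(0,1),(3,1),(1,1),(0,2),(3,1),(3,2),(1,2),(0,2),(1,2),(0,1),(0,2),(0,2),
    (1,2),(0,1),(0,1),(4,2),(0,1),(0,1),(0,2)],
   [(0,2),(0,2),(0,1),(0,1),(0,2),(0,2),(0,2),(0,1),(0,1),(0,1),(1,1),(0,1),(0,2),(0,1),(0,1),
    (0,2),(0,2),(1,2),(1,2),(0,1),(0,2),(0,1),(2,2),(0,2),(0,2),(1,2),(0,1),(1,1),(0,1),(2,1),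
    (1,1),(0,2),(0,2),(0,1),(0,1),(0,2),(0,1),(0,2),(0,1),(0,2),(0,2),(0,2),(1,2),(1,1),(0,2),
    (0,2),(0,2),(0,1),(1,2),(1,1),(1,1),(0,1),(4,1),(0,2),(0,2),(4,2),(0,2),(0,1),(0,2),(0,2),
    (1,2),(2,2),(0,1),(0,1),(0,1),(0,1),(0,2),(0,1),(0,1),(0,2),(0,1),(1,1),(1,1),(6,2),(0,2),
    (1,1),(1,1),(0,2),(0,1),(1,1),(0,2),(1,2),(0,1),(1,1),(0,1),(0,1),(0,2),(0,2),(0,2),(0,1),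
    (1,1),(2,1),(0,1),(0,1),(0,2),(0,2),(0,2),(0,1),(2,2),(0,2),(0,1),(0,1),(0,2),(0,2),(0,1),
    (1,1),(1,2),(0,1),(0,1),(0,1),(0,2),(1,2),(0,1),(1,1),(0,2),(0,1),(0,2),(1,1),(0,2),(0,1),
    (0,1),(0,2),(0,1),(0,1),(0,2),(0,2),(0,2),(0,2),(1,2),(0,2),(0,2),(0,2),(3,2),(0,2),(1,1),
    (1,2),(0,2),(0,1),(0,2),(0,2),(0,2),(0,2),(0,1),(1,1),(1,2),(1,2),(0,1),(0,2),(0,2),(1,1),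
    (1,1),(0,1),(1,1),(0,1),(0,1),(0,1),(0,2),(1,2),(2,2),(0,2),(0,2),(3,1),(0,2),(0,2),(0,2),
    (0,1),(0,2),(0,2),(2,2),(0,2),(1,2),(0,1),(3,2),(1,2)],
   [(0,2),(0,2),(0,1),(0,2),(1,2),(0,2),(0,1),(3,1),(0,2),(1,1),(0,1),(0,2),(0,2),(3,1),(0,1),
    (1,1),(1,1),(0,2),(0,2),(1,1),(0,2),(0,2),(0,1),(0,1),(0,2),(0,2),(0,1),(0,2),(0,2),(2,1),
    (1,1),(0,2),(0,1),(0,2),(0,1),(0,1),(0,1),(1,1),(1,1),(0,1),(0,2),(0,2),(0,1),(0,2),(1,2),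
    (0,1),(0,1),(2,1),(2,1),(0,1),(4,2),(0,1),(0,1),(0,2),(0,2),(0,1),(0,2),(0,2),(1,2),(2,2),
    (0,1),(0,1),(0,1),(0,1),(0,2),(1,2),(0,2),(0,1),(0,1),(0,2),(1,1),(1,1),(3,1),(0,2),(0,2),
    (1,1),(0,2),(2,1),(0,2),(0,1),(0,2),(0,2),(0,2),(0,2),(2,2),(0,2),(4,1),(0,1),(0,2),(0,1),
    (0,1),(0,1),(0,1),(1,2),(0,2),(2,2),(1,2),(1,2),(0,1),(0,2),(0,1),(1,2),(0,2),(0,1),(0,1),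
    (0,1),(2,1),(0,2),(0,2),(0,2),(2,1),(0,1),(3,1),(1,1),(0,2),(0,1),(1,1),(0,2),(0,2),(0,2),
    (0,2),(2,1),(0,2),(0,2),(1,2),(0,2),(1,2),(0,2),(0,2),(0,2),(0,2),(1,2),(2,2),(0,2),(0,2),
    (0,1),(0,1),(0,2),(0,2),(1,1),(0,1),(0,1),(1,1),(0,1),(1,2),(3,2),(0,2),(1,2),(2,2),(0,1),
    (1,2),(0,1),(0,2),(0,2),(0,1),(1,1),(1,1),(0,2),(0,2),(0,1),(1,1),(0,2),(0,1),(1,2),(0,1),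
    (0,2),(1,1)],
   [(0,2),(0,2),(0,1),(1,1),(0,2),(0,2),(0,1),(0,1),(2,1),(0,2),(1,1),(0,1),(0,2),(0,2),(1,2),
    (0,1),(0,1),(0,2),(3,2),(0,1),(1,1),(0,1),(0,2),(0,1),(0,2),(0,1),(0,2),(0,1),(0,2),(0,1),
    (0,2),(1,1),(0,2),(0,2),(0,1),(0,2),(0,1),(0,2),(0,1),(0,2),(1,1),(1,1),(0,1),(0,1),(0,2),
    (0,2),(0,1),(2,1),(1,1),(2,1),(2,2),(2,1),(0,2),(0,1),(0,1),(1,2),(0,2),(0,2),(0,1),(0,2),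
    (0,2),(0,1),(0,2),(1,1),(0,2),(0,1),(0,1),(0,1),(0,1),(0,2),(0,2),(0,2),(0,2),(0,2),(0,2),
    (1,1),(0,1),(0,2),(4,1),(0,2),(0,2),(1,1),(0,2),(1,2),(1,2),(0,1),(0,2),(0,2),(0,2),(1,2),
    (1,1),(1,2),(0,2),(0,2),(0,1),(0,2),(0,2),(0,1),(0,1),(0,1),(0,1),(0,1),(1,1),(1,1),(2,2),
    (0,1),(0,2),(3,2),(1,2),(2,1),(1,2),(0,2),(0,1),(0,1),(0,1),(0,2),(1,1),(0,1),(3,2),(0,2),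
    (0,1),(0,1),(0,2),(0,1),(1,1),(0,2),(2,1),(0,1),(0,2),(0,2),(2,1),(0,1),(1,1),(1,2),(0,1),
    (1,2),(2,2),(1,2),(0,2),(0,2),(1,2),(0,1),(0,1),(0,2),(0,1),(0,2),(2,1),(1,1),(0,2),(4,1),
    (0,1),(1,1),(0,1),(0,1),(0,1),(1,2),(0,2),(0,1),(0,2),(0,1),(1,1),(0,2),(0,2),(0,1),(0,1),
    (1,2),(0,2),(0,2),(0,1),(1,1),(0,2),(0,2),(1,1)],
   [(0,1),(0,1),(0,2),(1,1),(0,1),(0,1),(0,2),(3,2),(0,1),(0,2),(0,2),(0,2),(0,1),(0,1),(3,2),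
    (0,1),(1,2),(1,2),(0,1),(0,1),(0,2),(1,2),(0,1),(1,1),(0,1),(1,2),(0,2),(0,2),(1,2),(1,2),
    (0,2),(0,1),(0,2),(0,1),(0,2),(0,2),(0,1),(3,1),(0,2),(0,1),(0,1),(0,2),(0,1),(2,2),(0,2),
    (2,2),(3,2),(3,1),(1,1),(0,2),(0,1),(0,1),(0,2),(0,1),(0,1),(1,1),(1,1),(0,1),(0,2),(0,2),
    (0,2),(0,2),(0,1),(0,2),(0,1),(0,2),(0,2),(0,1),(0,1),(1,2),(0,1),(0,1),(0,2),(2,2),(0,1),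
    (0,1),(1,2),(0,2),(1,2),(0,2),(0,2),(0,2),(0,1),(0,2),(0,1),(0,2),(0,2),(2,2),(1,1),(3,1),
    (1,1),(1,1),(1,2),(0,2),(0,2),(0,2),(0,2),(0,2),(0,2),(0,2),(0,2),(0,2),(0,2),(0,2),(0,1),
    (0,1),(2,1),(2,2),(0,2),(0,2),(0,2),(0,2),(1,1),(2,1),(0,2),(1,2),(1,2),(0,2),(3,1),(0,2),
    (0,2),(0,1),(0,2),(0,1),(0,2),(2,1),(0,1),(3,2),(0,1),(1,2),(0,2),(0,2),(0,2),(0,2),(0,2),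
    (0,2),(0,1),(0,2),(0,1),(1,1),(0,2),(0,2),(0,2),(1,1),(2,2),(0,2),(2,2),(1,2),(3,1),(0,1),
    (1,2),(0,2),(0,1),(2,2),(1,2),(1,2),(1,2),(0,1),(0,1),(0,2),(1,1),(0,2),(1,2),(0,2),(0,2),
    (0,1),(0,1),(0,1)],
   [(0,1),(0,1),(0,2),(2,1),(0,1),(0,2),(1,1),(0,2),(0,1),(0,2),(1,2),(0,2),(0,1),(0,1),(0,1),
    (0,2),(1,1),(0,1),(0,1),(5,2),(0,2),(0,1),(0,2),(1,1),(0,2),(1,1),(0,2),(0,2),(0,1),(0,1),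
    (0,2),(0,1),(0,2),(0,1),(0,2),(0,1),(0,2),(0,2),(0,2),(0,2),(0,2),(1,1),(0,2),(0,1),(0,2),
    (0,1),(0,1),(1,1),(1,2),(0,2),(0,1),(0,1),(0,2),(2,1),(1,1),(0,1),(0,1),(1,2),(0,2),(0,1),
    (0,1),(0,2),(0,1),(0,1),(0,1),(0,1),(1,2),(0,1),(0,2),(0,2),(0,2),(0,1),(0,1),(0,1),(0,2),
    (0,2),(0,2),(2,2),(3,1),(0,1),(1,2),(0,1),(0,1),(1,2),(1,1),(2,2),(0,2),(0,1),(0,2),(0,1),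
    (2,2),(0,2),(0,1),(1,1),(0,2),(0,2),(0,2),(0,1),(2,1),(0,1),(1,2),(0,1),(0,1),(2,2),(0,2),
    (2,1),(0,1),(0,1),(0,1),(1,2),(0,2),(0,1),(0,1),(2,2),(1,2),(1,1),(0,1),(0,2),(0,1),(2,2),
    (1,2),(0,1),(0,1),(0,1),(3,1),(0,1),(1,2),(0,2),(0,1),(1,2),(0,2),(0,2),(0,2),(0,1),(0,2),
    (0,1),(0,2),(0,1),(0,1),(0,2),(0,2),(0,2),(0,2),(1,2),(0,1),(0,1),(2,2),(0,2),(0,2),(1,2),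
    (0,1),(0,1),(0,1),(3,2),(1,1),(0,2),(1,1),(2,1),(0,2),(1,1),(0,2),(0,2),(0,2),(1,1),(1,2),
    (0,1),(0,2),(2,2),(0,1),(0,1),(0,2),(0,2),(0,1),(0,2),(0,2),(1,1),(0,2),(0,2)],
   [(0,2),(0,2),(0,1),(2,2),(0,2),(0,1),(0,1),(0,1),(1,1),(0,1),(1,1),(0,1),(0,2),(0,2),(0,1),
    (0,1),(1,2),(0,1),(0,1),(0,2),(1,2),(0,1),(1,1),(0,1),(1,1),(2,1),(3,1),(0,1),(0,1),(1,1),
    (0,1),(0,2),(0,1),(0,2),(0,1),(0,1),(0,1),(0,2),(0,2),(1,2),(0,1),(0,2),(0,2),(0,2),(1,2),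
    (0,1),(1,1),(1,1),(0,1),(3,2),(0,2),(0,2),(0,2),(2,1),(1,2),(0,2),(0,1),(0,2),(0,2),(1,2),
    (2,2),(0,1),(0,1),(0,1),(0,1),(0,2),(0,1),(0,2),(0,1),(0,1),(0,1),(1,2),(2,2),(0,2),(2,2),
    (0,2),(0,2),(1,1),(1,1),(0,2),(0,1),(0,1),(0,1),(0,2),(0,1),(0,2),(1,2),(3,2),(1,2),(1,1),
    (1,2),(2,1),(0,2),(0,1),(0,1),(0,2),(0,1),(2,2),(0,2),(0,2),(3,1),(0,2),(0,1),(0,1),(2,2),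
    (0,2),(0,2),(0,1),(0,1),(0,2),(0,1),(0,2),(0,1),(1,2),(1,2),(0,1),(1,2),(0,1),(1,1),(2,2),
    (2,2),(0,2),(1,2),(1,1),(1,2),(1,2),(0,1),(1,2),(0,2),(0,2),(0,2),(3,2),(0,2),(0,2),(1,2),
    (0,1),(0,1),(0,1),(0,2),(0,2),(2,1),(2,2),(1,1),(1,1),(0,2),(0,2),(3,2),(0,2),(1,2),(0,1),
    (0,1),(0,2),(1,2),(1,1),(0,2),(0,1),(0,1),(1,2),(0,2),(1,1),(0,1),(0,2),(0,2),(0,2),(0,1),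
    (0,1),(0,1)],
   [(0,1),(0,1),(0,2),(0,1),(0,1),(0,1),(0,1),(0,2),(0,1),(0,1),(0,1),(0,1),(0,2),(1,2),(0,2),
    (0,1),(0,1),(0,2),(2,1),(0,1),(1,1),(2,1),(0,2),(2,2),(0,1),(1,2),(0,2),(2,1),(0,2),(0,1),
    (0,2),(0,1),(0,2),(0,2),(0,1),(0,2),(0,1),(0,2),(0,2),(0,2),(2,2),(0,1),(0,2),(0,1),(0,2),
    (0,1),(1,2),(0,1),(0,1),(0,2),(0,1),(0,1),(0,1),(0,1),(3,2),(0,1),(0,1),(2,1),(1,1),(0,1),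
    (0,2),(0,1),(0,1),(0,1),(0,1),(1,1),(0,1),(0,2),(0,2),(0,2),(0,1),(0,1),(1,2),(0,1),(1,2),
    (2,2),(0,1),(2,2),(1,1),(0,1),(0,1),(1,2),(0,1),(0,1),(1,2),(0,2),(0,2),(0,1),(0,2),(0,1),
    (1,1),(0,2),(0,2),(0,1),(0,2),(2,2),(1,2),(0,1),(0,1),(0,1),(1,1),(0,1),(2,2),(1,1),(0,2),
    (0,2),(2,1),(0,1),(0,1),(1,2),(0,1),(2,1),(0,2),(1,2),(0,1),(0,2),(1,1),(0,1),(0,1),(0,2),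
    (0,2),(0,1),(0,1),(0,1),(0,1),(0,1),(1,2),(0,1),(0,1),(0,2),(0,2),(0,1),(0,1),(4,1),(1,2),
    (1,1),(0,2),(0,1),(2,2),(0,2),(0,2),(0,2),(1,1),(0,1),(0,2),(0,2),(0,1),(2,1),(0,1),(0,2),
    (0,2),(0,1),(0,1),(3,1),(1,2),(0,1),(0,1),(0,2),(0,1),(0,2),(0,2),(0,2),(0,1),(0,1),(0,2),
    (0,2),(0,2),(1,2),(1,1),(0,2),(0,2),(0,2),(0,2),(3,1),(0,2),(0,1),(0,2),(0,2),(1,2),(0,2),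
    (0,1)],
   [(1,1),(1,1),(0,2),(0,2),(2,1),(0,2),(0,1),(1,2),(0,2),(1,1),(2,2),(0,2),(0,2),(0,1),(1,1),
    (0,1),(1,1),(1,2),(0,1),(0,2),(2,1),(1,2),(0,2),(0,1),(0,2),(1,2),(1,2),(0,1),(2,2),(3,2),
    (0,1),(1,1),(4,1),(0,2),(0,2),(0,2),(2,1),(0,2),(1,1),(1,1),(0,2),(0,1),(1,2),(0,1),(0,2),
    (0,2),(5,2),(0,1),(0,1),(1,2),(0,1),(0,2),(1,1),(1,1),(0,1),(0,1),(0,1),(0,2),(0,2),(0,1),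
    (0,2),(0,1),(0,2),(0,2),(0,2),(0,2),(1,2),(0,2),(0,2),(3,2),(0,2),(0,2),(5,1),(0,2),(1,1),
    (0,1),(1,2),(1,2),(1,1),(2,1),(0,2),(1,1),(0,1),(2,1),(0,1),(0,1),(0,2),(0,2),(0,2),(2,1),
    (0,1),(0,1),(0,2),(1,1),(0,1),(0,2),(0,2),(2,2),(0,2),(0,1),(1,2),(0,1),(0,2),(1,1),(3,1),
    (0,1),(1,2),(0,2),(1,1),(0,1),(2,1),(0,2),(1,2),(0,1),(0,2),(0,1),(0,1),(0,1),(0,2),(0,2),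
    (0,1),(0,2),(0,1),(1,1),(0,2),(0,2),(0,1),(2,2),(2,2),(0,1),(0,1),(0,2),(0,1),(0,2),(1,2),
    (0,2),(0,1),(0,1),(0,2),(0,1),(0,2),(1,2),(0,2),(0,2),(0,1),(0,1),(0,2),(0,2),(0,1),(0,1),
    (0,2),(0,2),(2,2),(0,1),(1,1),(0,2),(2,2),(0,1),(0,1),(0,2),(0,2),(1,1),(0,1)]]

/-- Rows of a matrix. -/
def matB7 : List (List (ℕ × ℕ)) :=
  [[(1,2),(1,2),(0,2),(0,1),(2,1),(0,2),(0,2),(2,2),(1,2),(2,2),(0,2),(3,2),(0,2),(1,2),(1,1),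
    (0,1),(0,2),(1,2),(0,2),(2,1),(0,2),(0,2),(1,2),(0,1),(0,1),(0,1),(2,1),(2,2),(3,2),(5,1),
    (0,1),(0,2),(0,1),(1,2),(0,2),(1,2),(1,2),(0,1),(0,2),(1,1),(0,1),(0,1),(0,1),(0,1),(4,1),
    (0,1),(0,2),(2,2),(0,1),(1,2),(1,2),(0,2),(0,2),(0,2),(1,2),(0,2),(0,2),(0,2),(0,1),(0,2),
    (0,2),(0,1),(1,2),(0,1),(0,1),(3,2),(0,2),(0,2),(6,1),(0,2),(0,1),(1,2),(0,1),(1,1),(0,2),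
    (0,1),(0,2),(1,1),(0,1),(0,1),(0,1),(0,1),(1,2),(1,1),(0,1),(0,2),(2,1),(1,2),(0,2),(0,2),
    (0,2),(0,2),(2,1),(1,2),(0,1),(0,1),(0,1),(2,2),(1,1),(0,1),(0,1),(3,1),(0,1),(1,1),(0,1),
    (1,1),(0,1),(0,2),(0,1),(0,2),(1,1),(0,2),(0,1),(0,1),(0,1),(0,2),(2,2),(1,1),(0,1),(0,2),
    (1,2),(0,1),(3,2),(0,2),(1,1),(0,2),(0,2),(1,2),(0,2),(0,1),(2,2),(0,1),(0,1),(0,1),(0,2),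
    (0,2),(0,1),(0,1),(0,2),(0,2),(0,2),(2,1),(0,2),(0,2),(1,1),(1,2),(0,2),(0,2),(1,2),(1,1),
    (0,1),(2,2),(0,1),(0,2),(1,1)],
   [(1,2),(1,2),(0,1),(0,1),(2,1),(0,1),(0,2),(1,2),(2,2),(2,1),(0,1),(0,2),(0,1),(1,1),(0,2),
    (0,1),(0,1),(1,2),(0,2),(0,2),(2,1),(0,1),(0,2),(0,2),(0,1),(1,2),(0,1),(2,2),(2,1),(3,1),
    (1,1),(0,1),(0,1),(3,1),(0,1),(0,1),(0,2),(0,2),(1,2),(0,1),(1,2),(0,1),(0,1),(0,2),(0,1),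
    (1,2),(0,1),(0,2),(6,1),(0,1),(0,2),(1,1),(0,2),(0,1),(1,2),(1,2),(0,1),(1,2),(1,1),(0,2),
    (0,2),(0,2),(0,1),(1,2),(0,1),(0,2),(1,1),(0,1),(0,2),(2,1),(0,1),(0,1),(0,2),(2,2),(1,2),
    (1,1),(0,2),(0,2),(1,2),(0,1),(1,1),(0,2),(0,1),(0,2),(1,1),(3,2),(0,2),(1,1),(0,1),(0,1),
    (0,1),(0,1),(0,2),(0,2),(0,1),(1,1),(0,1),(0,2),(2,2),(2,1),(0,1),(0,2),(0,1),(1,1),(0,1),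
    (0,1),(0,2),(3,2),(0,2),(0,2),(0,1),(1,1),(0,1),(0,2),(0,2),(0,2),(0,1),(0,2),(0,2),(0,1),
    (0,2),(2,2),(2,1),(0,1),(1,1),(1,2),(1,1),(1,2),(0,2),(1,1),(0,1),(0,2),(1,1),(0,2),(3,1),
    (1,1),(0,2),(0,2),(0,2),(0,2),(0,1),(0,2),(0,2),(0,1),(0,2),(1,2),(0,2),(1,2),(0,2),(0,2),
    (1,1),(0,2),(3,1),(0,1),(1,2),(0,1),(2,1),(0,1),(0,2),(0,1),(0,1)],
   [(1,2),(1,1),(1,1),(2,2),(0,1),(0,2),(1,1),(0,1),(1,2),(2,2),(0,1),(0,1),(0,2),(0,1),(0,1),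
    (0,1),(0,1),(0,1),(0,2),(0,2),(0,1),(0,1),(0,1),(0,2),(0,1),(1,1),(0,2),(0,1),(0,2),(0,1),
    (0,1),(5,1),(2,1),(0,2),(0,1),(0,2),(0,2),(0,2),(3,2),(0,2),(0,1),(1,1),(1,2),(0,1),(1,2),
    (0,1),(0,1),(0,1),(0,1),(0,2),(0,2),(0,2),(0,2),(1,2),(4,1),(0,2),(0,2),(1,2),(0,2),(0,1),
    (1,2),(1,2),(0,2),(1,2),(0,2),(1,1),(1,1),(0,2),(0,2),(0,2),(0,1),(0,2),(1,1),(0,1),(0,2),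
    (2,1),(0,2),(0,2),(0,1),(2,1),(1,2),(0,2),(0,1),(0,2),(0,2),(2,1),(1,1),(0,2),(1,1),(1,1),
    (1,2),(1,1),(0,1),(0,2),(1,2),(3,1),(1,2),(0,2),(2,2),(1,1),(0,1),(0,2),(0,2),(0,1),(1,1),
    (0,2),(1,2),(0,1),(0,1),(0,2),(1,2),(0,2),(2,1),(0,2),(0,2),(0,2),(3,2),(0,2),(1,2),(0,2),
    (0,1),(1,2),(1,1),(1,1),(0,1),(2,1),(2,2),(0,1),(1,1),(1,1),(0,1),(2,1),(0,2),(1,2),(0,2),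
    (4,1),(1,2),(0,2),(0,1),(0,1),(0,1),(0,2),(2,1),(1,2),(1,2),(1,1),(5,1),(1,2),(3,1),(1,2),
    (0,2),(0,1)],
   [(1,1),(1,2),(0,1),(0,2),(3,2),(0,1),(1,1),(0,1),(1,1),(3,2),(0,1),(0,2),(0,1),(0,2),(0,1),
    (0,2),(0,2),(1,2),(2,2),(1,1),(0,2),(0,1),(0,2),(0,2),(0,2),(1,2),(0,2),(1,2),(2,2),(5,1),
    (0,2),(4,2),(0,2),(0,2),(0,2),(0,1),(1,1),(0,2),(1,1),(0,2),(0,1),(0,1),(0,2),(0,2),(0,1),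
    (0,1),(0,2),(0,1),(5,2),(0,2),(0,1),(1,1),(0,1),(0,2),(1,1),(1,1),(5,1),(0,1),(0,2),(0,1),
    (0,2),(0,2),(0,2),(0,1),(1,2),(0,2),(0,1),(1,2),(0,2),(1,2),(5,1),(0,2),(1,1),(0,1),(0,2),
    (0,2),(0,1),(2,2),(1,1),(0,2),(1,2),(0,1),(0,2),(2,1),(0,2),(0,2),(1,2),(0,2),(1,2),(0,1),
    (0,1),(0,2),(0,2),(0,1),(2,1),(4,1),(2,1),(2,1),(0,1),(0,2),(0,2),(1,2),(1,2),(0,1),(0,1),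
    (0,2),(0,2),(0,2),(0,2),(0,2),(0,2),(0,1),(0,1),(0,1),(2,1),(1,2),(0,2),(1,2),(2,2),(0,2),
    (0,1),(2,1),(0,2),(0,2),(0,1),(2,1),(0,2),(0,1),(2,1),(0,1),(2,2),(0,2),(0,1),(0,2),(0,1),
    (2,1),(0,2),(1,1),(1,2),(2,1),(0,1),(0,2),(0,2),(0,2),(3,2),(0,1),(1,2),(1,1),(1,2),(0,2)],
   [(1,1),(1,2),(1,2),(2,1),(0,1),(0,2),(0,2),(1,2),(1,1),(2,2),(0,1),(0,1),(1,1),(0,1),(0,2),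
    (0,2),(0,1),(1,1),(1,2),(1,2),(0,1),(0,2),(1,2),(0,2),(0,1),(1,1),(0,2),(0,2),(3,2),(3,1),
    (0,1),(0,2),(0,2),(3,1),(1,1),(1,2),(2,2),(0,1),(0,2),(0,2),(0,2),(0,1),(0,1),(0,2),(0,1),
    (0,2),(0,1),(0,2),(6,2),(0,1),(0,1),(2,1),(0,2),(1,1),(0,2),(0,1),(0,1),(0,2),(3,2),(0,2),
    (0,2),(0,2),(0,1),(0,2),(0,1),(0,1),(1,2),(0,2),(0,1),(2,1),(7,2),(1,2),(2,1),(1,2),(0,1),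
    (0,2),(1,1),(0,2),(0,1),(0,1),(1,1),(0,1),(0,1),(0,2),(2,2),(0,2),(0,2),(0,2),(1,2),(0,1),
    (0,1),(0,2),(0,2),(0,1),(0,2),(3,1),(3,2),(0,2),(0,1),(3,2),(2,1),(0,1),(0,1),(1,2),(2,1),
    (0,2),(0,1),(0,1),(0,2),(0,2),(1,2),(0,2),(0,1),(0,1),(1,1),(0,2),(1,1),(0,1),(0,1),(2,2),
    (0,1),(1,2),(0,1),(0,2),(0,2),(0,1),(0,1),(0,1),(0,2),(3,1),(0,1),(0,1),(1,2),(0,2),(0,1),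
    (0,1),(0,1),(2,2),(0,2),(1,1),(0,1),(1,1),(1,1),(0,2),(2,1),(0,1),(0,2),(1,1),(0,1),(0,2),
    (0,1),(0,1),(0,2),(0,1),(1,1),(0,2)],
   [(1,2),(1,1),(0,1),(0,1),(2,1),(0,2),(3,1),(1,2),(2,1),(1,2),(2,2),(0,2),(0,1),(0,1),(0,2),
    (0,2),(0,1),(2,1),(0,2),(2,1),(0,2),(0,1),(1,2),(1,2),(0,2),(2,1),(3,1),(0,2),(0,1),(0,1),
    (5,2),(0,2),(4,2),(2,1),(0,2),(0,2),(0,2),(0,1),(0,1),(0,1),(0,1),(6,1),(0,1),(0,2),(1,1),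
    (0,2),(0,1),(1,2),(1,2),(0,2),(3,1),(0,1),(0,1),(0,1),(0,1),(0,1),(0,1),(1,2),(0,1),(0,1),
    (0,1),(0,2),(1,2),(0,2),(0,2),(7,1),(3,2),(0,1),(1,2),(4,1),(0,2),(0,2),(3,2),(0,2),(0,1),
    (1,2),(2,1),(1,1),(0,2),(0,2),(2,2),(0,2),(2,1),(2,2),(0,2),(0,1),(1,2),(0,2),(2,1),(0,2),
    (0,2),(0,1),(0,2),(0,1),(1,1),(2,1),(2,1),(0,2),(0,2),(0,1),(0,2),(4,1),(0,2),(1,1),(0,1),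
    (0,2),(1,1),(0,1),(0,1),(2,2),(0,2),(0,1),(0,2),(0,2),(2,2),(0,2),(0,1),(1,2),(0,2),(0,2),
    (0,2),(0,2),(0,2),(0,2),(0,1),(0,2),(0,1),(1,2),(2,1),(0,2),(3,1),(0,1),(0,1),(0,1),(0,2),
    (0,2),(1,1),(0,1),(2,2),(0,1)],
   [(1,1),(1,1),(0,1),(0,2),(3,1),(0,2),(0,1),(1,2),(1,1),(2,2),(0,2),(0,1),(1,2),(0,2),(1,2),
    (0,1),(0,1),(0,2),(0,1),(0,1),(0,2),(5,1),(2,1),(1,2),(0,2),(2,2),(3,1),(0,1),(0,1),(0,1),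
    (3,2),(1,1),(0,1),(0,1),(2,2),(0,1),(0,1),(0,2),(0,2),(1,2),(0,1),(1,1),(0,2),(1,1),(5,2),
    (0,1),(0,1),(1,1),(0,1),(0,2),(1,1),(0,1),(0,1),(0,2),(0,2),(0,2),(1,2),(0,2),(1,1),(2,1),
    (0,1),(0,1),(0,1),(0,2),(0,2),(0,1),(2,1),(0,2),(0,1),(7,2),(1,2),(0,1),(1,2),(1,2),(0,2),
    (0,2),(1,1),(0,2),(0,1),(2,2),(0,2),(0,2),(1,2),(0,1),(0,1),(0,1),(0,2),(0,1),(4,1),(0,2),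
    (0,2),(0,1),(1,1),(3,2),(0,2),(0,1),(2,1),(1,1),(0,2),(2,1),(0,2),(0,1),(0,2),(0,2),(0,2),
    (0,2),(1,1),(1,1),(0,2),(0,1),(3,2),(0,2),(1,1),(0,2),(1,1),(0,1),(1,1),(1,2),(4,2),(2,1),
    (1,2),(0,1),(0,1),(0,2),(1,2),(0,1),(0,1),(0,2),(2,2),(0,2),(1,2),(0,2),(0,2),(2,1),(0,1),
    (0,2),(1,1),(0,2),(0,2),(0,2),(1,1),(1,1),(0,2),(0,2),(0,1),(0,1),(1,1),(0,2)],
   [(0,1),(0,2),(0,2),(0,2),(0,1),(0,2),(0,1),(0,2),(0,2),(0,1),(1,1),(0,1),(0,2),(0,1),(0,2),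
    (0,1),(0,2),(2,1),(0,2),(0,2),(0,1),(0,1),(1,2),(3,1),(0,2),(0,2),(1,1),(0,1),(1,2),(0,2),
    (0,1),(0,1),(0,1),(2,2),(0,1),(0,2),(0,2),(0,2),(0,1),(0,1),(0,1),(0,2),(0,1),(0,2),(0,2),
    (0,1),(0,2),(0,2),(0,2),(1,2),(0,2),(0,1),(1,1),(0,1),(3,1),(0,2),(4,1),(0,1),(0,1),(0,1),
    (0,2),(1,2),(0,2),(0,2),(0,1),(1,2),(0,2),(0,1),(0,2),(0,1),(0,2),(1,1),(0,2),(0,1),(0,1),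
    (0,2),(1,1),(0,1),(0,1),(3,1),(0,2),(0,2),(1,1),(0,2),(0,1),(0,1),(0,2),(0,1),(0,1),(0,2),
    (0,1),(0,1),(0,1),(1,1),(0,1),(0,2),(0,1),(0,2),(0,1),(3,1),(0,1),(0,2),(0,2),(0,2),(1,2),
    (0,2),(0,1),(2,2),(0,1),(0,1),(0,1),(1,1),(0,2),(0,1),(0,1),(1,1),(0,1),(0,1),(0,2),(4,1),
    (1,1),(0,2),(5,2),(0,2),(0,2),(0,2),(1,1),(0,2),(0,2),(0,2),(0,1),(3,2),(0,1),(1,2),(1,2),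
    (0,1),(1,2),(0,2),(0,2),(0,2),(0,2),(0,2),(0,2),(4,2),(0,1),(0,1),(0,1),(0,2),(0,2),(1,2),
    (0,2),(2,2),(0,1),(1,1),(0,1),(0,2),(0,2),(3,2),(0,2),(0,1),(3,1),(1,2),(1,1),(0,2),(0,1),
    (0,1),(1,2),(0,2),(1,1),(0,2),(0,1),(0,1),(0,1),(0,2),(0,1),(0,2)],
   [(0,2),(0,1),(0,1),(2,1),(0,2),(0,1),(0,1),(2,2),(0,1),(0,1),(0,2),(0,1),(0,2),(0,1),(0,1),
    (0,2),(1,2),(0,1),(0,2),(0,1),(1,1),(0,1),(1,2),(2,2),(2,1),(1,1),(0,1),(2,1),(1,2),(0,1),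
    (0,2),(0,1),(0,1),(0,1),(0,1),(0,1),(0,1),(1,1),(1,1),(0,2),(0,1),(0,2),(0,2),(2,2),(0,2),
    (2,2),(3,2),(0,1),(0,1),(1,1),(1,2),(0,1),(0,2),(0,2),(0,1),(1,1),(0,1),(0,1),(0,2),(1,1),
    (0,1),(0,2),(0,1),(0,2),(0,1),(1,2),(1,1),(1,1),(0,2),(0,2),(0,2),(1,2),(2,2),(0,1),(0,1),
    (1,2),(0,1),(1,2),(2,2),(0,1),(1,2),(0,1),(0,1),(0,1),(0,1),(0,1),(3,2),(1,1),(2,2),(0,1),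
    (0,2),(0,1),(0,2),(0,2),(0,1),(2,1),(0,2),(0,2),(0,1),(0,2),(0,2),(0,2),(1,1),(0,1),(0,1),
    (1,1),(1,2),(0,2),(0,1),(1,1),(0,1),(0,2),(1,1),(0,1),(0,1),(1,2),(0,2),(1,1),(0,1),(0,2),
    (1,1),(0,1),(0,2),(0,2),(1,2),(0,1),(0,2),(0,1),(0,1),(1,1),(0,2),(0,2),(0,1),(1,2),(0,1),
    (0,1),(0,1),(0,1),(1,2),(1,2),(0,1),(1,2),(0,1),(0,2),(0,2),(1,1),(2,2),(0,2),(0,1),(0,2),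
    (0,2),(0,2),(0,2),(1,2),(0,1),(0,1),(0,1),(1,2),(1,2),(0,1),(0,1),(0,1),(3,2),(1,1),(0,2),
    (0,1),(0,2),(1,1),(0,2),(1,2),(0,2),(0,1),(0,2),(0,1),(0,2)],
   [(0,2),(0,1),(0,1),(1,1),(0,1),(0,2),(0,1),(1,1),(1,2),(0,2),(0,2),(0,2),(0,1),(0,2),(0,1),
    (0,1),(2,1),(0,1),(1,1),(2,1),(0,1),(2,1),(0,1),(0,2),(0,2),(0,2),(0,1),(1,2),(0,1),(0,1),
    (0,2),(1,2),(0,1),(0,2),(0,1),(0,1),(0,1),(0,2),(0,2),(0,1),(0,1),(0,1),(0,2),(0,1),(0,2),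
    (0,1),(0,1),(0,1),(1,1),(0,2),(0,2),(1,1),(0,2),(2,2),(2,1),(0,2),(0,2),(0,1),(0,1),(0,2),
    (0,2),(0,2),(0,1),(1,1),(0,2),(0,1),(0,2),(1,1),(0,1),(0,2),(0,1),(0,2),(0,1),(0,1),(1,2),
    (0,1),(0,1),(0,1),(0,1),(0,1),(0,1),(0,2),(0,1),(3,1),(0,1),(1,2),(1,1),(1,2),(0,1),(0,2),
    (0,1),(0,1),(0,2),(1,1),(0,1),(2,1),(0,1),(0,1),(0,1),(0,2),(1,1),(1,1),(0,2),(0,1),(0,1),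
    (0,1),(1,1),(0,1),(0,1),(1,2),(0,1),(2,1),(3,2),(0,1),(3,2),(1,1),(0,1),(0,2),(0,2),(0,1),
    (2,1),(0,2),(0,1),(2,2),(0,1),(1,1),(0,1),(1,1),(0,2),(3,2),(0,2),(5,2),(0,2),(1,2),(0,2),
    (0,2),(0,2),(0,1),(0,1),(0,2),(1,2),(0,2),(0,1),(0,1),(1,1),(1,1),(1,2),(1,1),(0,2),(1,2),
    (0,1),(0,2),(0,2),(4,1),(3,1),(0,2),(0,1),(0,1),(3,1),(0,1),(1,1),(0,2),(0,1),(0,1),(0,2),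
    (0,2),(1,1),(0,2),(0,1),(0,2),(0,2),(0,2)],
   [(0,2),(0,1),(0,1),(0,2),(1,1),(0,2),(0,1),(0,1),(0,1),(1,2),(0,2),(0,1),(0,2),(0,1),(0,2),
    (0,1),(0,2),(1,1),(0,1),(0,2),(4,2),(0,1),(0,1),(0,1),(0,1),(1,1),(0,2),(0,2),(0,2),(0,1),
    (0,1),(0,1),(0,1),(0,2),(1,1),(0,1),(0,2),(0,1),(0,1),(0,1),(0,1),(0,2),(0,2),(0,1),(0,1),
    (0,2),(0,1),(0,2),(0,1),(0,1),(1,1),(0,2),(0,2),(0,2),(1,1),(0,2),(2,1),(0,1),(1,2),(0,1),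
    (1,2),(0,1),(0,1),(0,2),(0,2),(0,1),(1,1),(1,1),(0,2),(0,1),(0,1),(0,1),(0,2),(0,1),(0,2),
    (0,1),(1,1),(0,1),(0,2),(0,2),(5,2),(2,2),(0,1),(0,1),(1,2),(0,1),(0,1),(0,2),(1,1),(0,2),
    (0,1),(0,1),(0,2),(0,1),(1,1),(0,2),(0,1),(3,1),(0,1),(1,2),(0,1),(0,2),(2,1),(1,1),(0,2),
    (0,1),(1,2),(1,2),(0,2),(0,1),(0,1),(0,2),(0,2),(0,1),(0,1),(0,2),(0,1),(0,1),(0,1),(1,1),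
    (0,1),(0,1),(0,2),(0,2),(0,2),(1,1),(0,1),(0,2),(0,1),(0,1),(0,2),(0,1),(1,2),(1,2),(0,2),
    (0,2),(1,2),(0,1),(1,2),(1,1),(0,2),(0,1),(0,2),(0,2),(0,1),(0,2),(0,1),(0,1),(0,2),(0,2),
    (0,1),(0,2),(0,1),(0,2),(1,2),(2,2),(0,1),(0,2),(2,1),(0,2),(1,2),(0,1),(1,2),(0,1),(0,2),
    (0,1),(0,1),(0,2),(0,2),(0,2),(1,1),(2,1),(0,1),(0,2),(0,1),(3,2),(1,1),(0,2),(1,2),(1,2),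
    (0,2),(1,2),(0,1),(0,1),(0,2),(0,2),(0,2)],
   [(0,1),(0,2),(0,2),(0,2),(1,2),(0,1),(0,2),(0,1),(0,1),(2,1),(1,1),(0,2),(0,1),(0,2),(0,1),
    (2,2),(0,1),(1,1),(2,2),(3,1),(2,2),(0,1),(3,1),(0,1),(0,1),(0,2),(0,1),(0,2),(0,1),(0,2),
    (0,2),(0,2),(0,1),(0,2),(1,2),(1,2),(0,2),(0,1),(1,2),(0,1),(1,2),(0,1),(0,1),(1,1),(6,1),
    (0,1),(2,1),(1,1),(0,1),(0,2),(1,2),(0,2),(0,2),(0,1),(0,1),(0,2),(0,2),(0,1),(0,2),(1,2),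
    (1,2),(0,2),(0,2),(1,2),(0,2),(1,1),(0,1),(3,1),(0,2),(0,2),(1,1),(0,1),(0,1),(1,1),(0,1),
    (0,1),(0,2),(0,1),(0,1),(0,2),(0,1),(2,2),(1,2),(1,2),(0,1),(0,2),(0,1),(2,2),(1,1),(0,1),
    (0,1),(0,1),(0,1),(0,2),(0,1),(1,2),(0,1),(0,1),(0,1),(0,1),(0,2),(0,2),(0,1),(0,1),(1,1),
    (0,1),(2,2),(1,1),(0,2),(2,1),(0,2),(1,2),(1,2),(1,2),(2,1),(0,2),(2,1),(1,1),(0,2),(0,1),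
    (2,2),(1,2),(0,1),(0,1),(0,2),(0,1),(0,2),(0,1),(0,1),(0,1),(1,2),(0,2),(0,2),(1,2),(0,1),
    (0,1),(0,1),(0,1),(0,2),(0,1),(1,1),(0,2),(0,2),(0,2),(1,2),(1,1),(0,2),(0,2),(2,1),(0,2),
    (0,1),(0,1),(0,1),(0,1),(0,1),(1,1),(1,1),(0,1),(0,2),(0,1),(0,1),(1,1),(0,2),(0,1),(2,2),
    (0,2),(0,1),(1,2)],
   [(0,1),(0,2),(0,2),(0,2),(0,2),(0,2),(0,1),(0,2),(2,1),(0,2),(0,2),(0,2),(0,1),(0,2),(0,1),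
    (0,2),(1,2),(1,1),(0,1),(0,2),(2,2),(0,2),(0,1),(0,1),(0,2),(0,2),(0,1),(1,2),(0,2),(1,2),
    (0,2),(0,1),(1,2),(1,2),(0,2),(0,1),(0,2),(0,2),(0,2),(0,1),(2,2),(1,2),(0,2),(0,1),(0,1),
    (0,1),(3,2),(0,1),(0,1),(1,2),(0,1),(4,2),(3,2),(0,1),(0,1),(0,1),(0,2),(1,2),(1,2),(0,1),
    (0,2),(0,2),(0,2),(0,1),(0,2),(0,2),(0,2),(2,2),(0,2),(0,1),(0,2),(2,1),(2,2),(2,2),(0,2),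
    (1,1),(0,2),(1,2),(1,1),(0,1),(0,2),(0,1),(0,1),(0,2),(0,2),(0,1),(0,1),(1,2),(1,1),(1,1),
    (0,2),(0,1),(0,2),(0,1),(2,2),(1,1),(1,1),(0,1),(0,1),(0,1),(0,2),(0,1),(0,2),(0,2),(2,1),
    (0,2),(0,2),(0,1),(1,1),(0,2),(1,2),(1,2),(5,1),(1,1),(0,1),(1,1),(1,2),(0,1),(2,1),(0,2),
    (0,1),(0,2),(0,1),(0,1),(1,1),(1,1),(0,1),(1,2),(0,1),(1,1),(0,1),(3,1),(0,2),(0,2),(1,2),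
    (0,1),(1,2),(0,1),(2,2),(0,2),(0,1),(0,1),(1,1),(1,2),(0,2),(0,2),(0,2),(0,2),(3,1),(4,1),
    (0,1),(0,2),(3,2),(1,1),(1,1),(0,2),(2,2),(0,2),(0,2),(1,2),(0,2)],
   [(0,2),(0,1),(0,1),(0,1),(0,2),(0,1),(0,2),(0,1),(0,1),(2,2),(0,1),(0,1),(0,2),(0,1),(0,2),
    (0,1),(3,2),(0,1),(0,1),(0,2),(1,1),(0,2),(0,2),(0,1),(0,2),(0,1),(0,2),(1,2),(0,1),(1,1),
    (1,2),(1,2),(0,2),(0,2),(0,1),(0,2),(0,1),(0,1),(0,1),(0,2),(0,2),(0,1),(0,1),(1,1),(0,1),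
    (0,2),(0,1),(0,2),(1,1),(1,1),(0,2),(2,2),(4,2),(0,1),(1,1),(1,1),(0,2),(0,2),(0,2),(0,1),
    (1,1),(0,1),(0,1),(0,2),(1,1),(0,1),(0,2),(0,1),(0,2),(0,1),(1,1),(0,1),(0,1),(0,1),(0,1),
    (2,2),(0,1),(4,1),(0,1),(1,2),(0,2),(1,2),(0,1),(0,2),(0,2),(0,1),(0,2),(0,2),(0,1),(0,2),
    (0,1),(0,1),(0,1),(0,2),(1,2),(0,1),(0,1),(1,2),(0,1),(0,1),(0,1),(0,2),(3,2),(0,1),(0,1),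
    (6,1),(1,1),(0,2),(0,2),(0,2),(0,2),(0,1),(0,2),(2,1),(1,1),(0,2),(3,1),(1,1),(1,2),(1,1),
    (0,2),(0,1),(0,2),(1,1),(1,1),(0,2),(0,2),(0,1),(0,1),(0,1),(3,2),(0,1),(1,2),(1,1),(2,2),
    (0,1),(0,1),(0,1),(0,1),(1,1),(0,2),(0,2),(0,2),(1,1),(0,1),(0,2),(2,2),(1,2),(1,2),(3,1),
    (0,1),(1,2),(0,2),(4,2),(1,2),(0,2),(1,2),(0,1),(0,1),(0,2),(1,1),(4,2)],
   [(0,1),(0,2),(0,2),(2,2),(0,1),(0,2),(2,2),(0,2),(0,2),(0,1),(0,1),(0,2),(0,1),(0,2),(3,1),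
    (0,1),(1,2),(1,1),(0,2),(3,1),(0,2),(1,1),(0,2),(1,2),(1,1),(3,1),(0,2),(0,1),(0,2),(0,2),
    (0,2),(1,1),(0,1),(1,2),(0,2),(0,2),(0,1),(0,1),(0,1),(1,2),(0,2),(0,2),(0,1),(0,2),(1,2),
    (0,2),(2,2),(0,1),(0,2),(0,2),(0,1),(1,1),(0,1),(0,1),(0,1),(0,2),(1,2),(1,2),(0,1),(0,1),
    (0,2),(0,2),(0,1),(0,2),(0,2),(0,2),(0,1),(0,1),(0,1),(1,2),(1,1),(0,2),(0,2),(0,1),(0,2),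
    (0,1),(1,2),(0,2),(0,2),(1,1),(0,2),(3,1),(0,1),(0,2),(0,1),(0,1),(0,2),(1,1),(0,1),(1,1),
    (0,2),(0,2),(0,2),(1,1),(1,1),(0,2),(0,1),(0,2),(2,2),(0,1),(0,1),(0,2),(0,2),(0,2),(0,1),
    (0,2),(0,2),(0,2),(2,1),(0,1),(0,2),(0,1),(0,2),(0,1),(0,1),(1,2),(1,2),(1,2),(1,2),(0,2),
    (0,1),(0,1),(1,2),(2,2),(1,1),(0,1),(1,1),(0,2),(1,2),(0,2),(4,2),(0,2),(0,2),(1,2),(0,1),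
    (0,1),(0,1),(3,2),(0,2),(0,1),(0,1),(0,1),(1,2),(3,2),(0,2),(0,2),(0,1),(0,1),(1,2),(1,1),
    (1,1),(0,1),(0,1),(0,1),(0,2),(6,1),(1,2),(0,1),(0,2),(2,1),(1,1),(0,2),(3,2),(0,2),(0,2),
    (0,2),(0,2)],
   [(3,1),(0,1),(4,2),(0,2),(1,2),(0,2),(4,1),(0,2),(1,1),(2,2),(0,2),(0,1),(0,2),(0,2),(0,2),
    (0,2),(1,1),(0,2),(1,2),(0,1),(0,2),(0,2),(1,2),(1,1),(4,2),(0,2),(3,2),(0,2),(1,2),(0,2),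
    (1,1),(0,1),(4,2),(0,2),(1,2),(0,2),(0,2),(2,1),(0,1),(1,1),(0,2),(5,2),(0,1),(0,1),(1,1),
    (0,2),(1,2),(3,1),(2,2),(1,2),(0,1),(0,2),(0,2),(0,2),(0,1),(0,1),(0,1),(2,1),(0,1),(0,2),
    (1,2),(1,2),(1,1),(2,2),(0,2),(2,1),(0,2),(3,2),(2,2),(0,1),(0,1),(1,1),(0,2),(1,2),(1,1),
    (2,2),(0,2),(0,2),(0,1),(0,2),(0,1),(1,2),(0,1),(1,1),(0,2),(0,1),(0,2),(0,2),(0,2),(0,2),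
    (2,1),(0,2),(1,2),(1,1),(1,1),(0,2),(1,2),(0,2),(0,2),(0,1),(0,1),(0,1),(0,1),(1,1),(0,2),
    (0,1),(0,2),(2,2),(0,1),(0,1),(2,2),(0,1),(0,2),(1,1),(0,1),(0,1),(0,2),(0,2),(1,1),(1,1),
    (0,1),(0,2),(0,1),(1,2),(0,1),(1,2),(0,2),(0,1),(0,1),(0,2),(2,2),(1,2),(1,1),(0,1),(0,1),
    (0,2),(0,1),(0,2),(0,1),(1,2),(0,2),(1,2),(0,2),(0,1),(0,2),(2,2),(0,2),(0,1),(0,2),(0,1),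
    (0,2),(0,1),(0,1)],
   [(4,1),(4,2),(8,1),(0,2),(3,2),(0,1),(1,2),(0,2),(0,1),(0,2),(0,2),(1,2),(0,1),(2,2),(0,1),
    (0,1),(1,2),(0,2),(0,2),(4,1),(0,1),(0,1),(0,1),(0,1),(0,2),(0,1),(1,1),(0,1),(2,2),(0,1),
    (1,2),(2,2),(3,1),(0,1),(0,2),(0,2),(0,2),(0,1),(0,2),(0,2),(0,2),(4,1),(0,1),(0,2),(2,1),
    (1,1),(3,2),(1,1),(1,1),(0,1),(0,1),(0,1),(0,1),(0,2),(0,2),(4,2),(1,1),(1,2),(1,2),(1,2),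
    (2,1),(0,1),(0,2),(2,1),(0,2),(0,2),(1,2),(1,1),(0,1),(4,1),(0,2),(0,2),(0,2),(0,1),(0,2),
    (0,2),(0,1),(0,2),(0,2),(0,2),(0,2),(0,1),(1,2),(0,2),(0,2),(1,2),(0,1),(0,2),(0,1),(0,2),
    (1,2),(0,2),(1,1),(0,2),(0,1),(1,1),(0,2),(1,2),(0,1),(0,1),(0,1),(0,2),(0,1),(2,2),(0,1),
    (0,2),(1,2),(1,1),(0,2),(0,1),(0,1),(0,1),(1,2),(0,1),(1,1),(0,2),(0,1),(1,1),(0,1),(0,1),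
    (0,1),(0,1),(0,2),(0,2),(0,1),(0,1),(0,1),(2,2),(0,1),(0,2),(1,2),(0,2),(0,2),(0,2),(0,2),
    (2,2),(1,1),(0,2),(0,2),(1,1),(1,2),(3,2),(1,1),(0,1),(0,2),(1,2),(0,1),(0,1),(1,2),(1,1)],
   [(3,2),(0,2),(4,1),(0,1),(1,1),(0,1),(4,1),(0,1),(1,2),(1,1),(0,1),(0,1),(0,1),(0,2),(0,2),
    (0,1),(0,2),(1,2),(0,2),(1,1),(0,1),(0,2),(1,2),(0,1),(1,2),(4,1),(0,1),(2,2),(0,1),(1,1),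
    (0,1),(0,1),(1,2),(0,2),(0,1),(1,1),(1,1),(0,1),(1,1),(0,1),(0,2),(0,2),(1,1),(2,1),(6,1),
    (0,1),(0,2),(2,1),(1,1),(3,1),(0,2),(0,2),(1,2),(0,1),(0,1),(1,1),(0,1),(0,2),(0,2),(0,2),
    (2,2),(0,2),(0,1),(1,1),(2,2),(0,2),(1,2),(0,1),(2,1),(0,2),(2,1),(0,1),(0,2),(1,2),(0,1),
    (2,2),(1,2),(0,2),(0,2),(1,1),(0,2),(1,2),(0,1),(0,2),(0,2),(1,2),(2,1),(0,1),(3,1),(0,1),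
    (0,2),(0,2),(2,2),(0,2),(2,1),(0,2),(0,1),(0,1),(2,2),(0,2),(1,2),(0,1),(0,1),(2,1),(2,2),
    (0,2),(0,2),(0,1),(0,1),(0,2),(1,2),(0,2),(0,1),(0,2),(0,1),(0,2),(0,1),(0,1),(0,1),(2,2),
    (1,2),(0,2),(1,2),(0,1),(0,2),(0,2),(0,2),(0,1),(0,2),(1,1),(0,2),(0,1),(0,2),(2,2),(0,1),
    (0,1),(0,2),(0,1),(0,1),(1,1),(0,1),(0,2),(0,2),(1,2),(0,1),(0,1),(0,2),(0,2),(0,1),(2,2),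
    (0,1),(1,2),(0,2),(1,2),(0,1)],
   [(3,1),(0,1),(4,1),(0,1),(1,2),(0,1),(4,1),(0,1),(0,2),(0,1),(0,1),(1,2),(0,1),(2,2),(0,2),
    (0,1),(2,2),(1,2),(0,1),(1,1),(0,1),(0,1),(2,2),(3,1),(0,1),(0,2),(2,2),(0,1),(0,2),(0,1),
    (0,1),(1,1),(0,1),(0,1),(0,2),(0,1),(1,1),(0,1),(1,1),(0,1),(0,2),(0,1),(0,1),(1,1),(0,2),
    (0,1),(1,1),(4,1),(0,2),(0,2),(1,1),(0,1),(1,1),(4,1),(0,2),(0,2),(1,2),(0,2),(0,2),(0,2),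
    (0,2),(0,2),(0,2),(0,2),(2,2),(0,2),(0,1),(0,1),(0,1),(1,2),(0,1),(0,2),(1,1),(0,1),(1,1),
    (0,1),(0,2),(3,1),(0,1),(0,2),(1,1),(1,1),(1,1),(1,1),(1,1),(0,2),(3,1),(0,1),(0,1),(0,1),
    (1,2),(2,2),(0,2),(0,2),(2,1),(0,1),(0,2),(0,1),(1,2),(3,1),(0,2),(2,1),(0,1),(0,1),(1,2),
    (1,2),(1,2),(0,1),(1,2),(0,2),(0,1),(1,2),(0,1),(0,1),(0,1),(1,2),(0,2),(0,2),(0,2),(0,1),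
    (0,2),(0,2),(0,1),(2,1),(0,2),(0,2),(1,1),(1,2),(0,1),(0,1),(1,2),(0,1),(0,1),(1,1),(0,2),
    (1,2),(3,1),(0,1),(0,2),(0,1),(0,2),(0,1),(0,2),(0,1),(1,1),(0,1),(0,1),(0,1),(0,2),(0,1),
    (1,1),(2,2),(0,2),(0,2),(0,1),(0,2),(0,2),(0,1)],
   [(4,2),(3,1),(0,2),(0,2),(1,1),(0,1),(4,2),(1,2),(0,2),(0,1),(0,2),(2,2),(0,2),(1,2),(0,1),
    (0,1),(0,2),(0,2),(0,1),(0,1),(0,1),(0,1),(0,1),(1,2),(1,2),(4,2),(0,2),(1,1),(0,2),(0,1),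
    (0,1),(1,2),(0,2),(1,2),(0,1),(0,2),(1,1),(1,2),(0,2),(1,2),(1,2),(0,1),(0,2),(1,2),(0,1),
    (0,1),(0,2),(5,2),(0,2),(0,1),(2,2),(1,2),(3,1),(0,2),(3,2),(0,2),(0,1),(0,1),(0,2),(0,2),
    (0,1),(3,1),(1,2),(0,2),(0,2),(0,2),(0,2),(1,1),(2,2),(0,2),(2,1),(0,2),(0,2),(1,1),(0,2),
    (0,1),(1,1),(0,1),(0,1),(1,1),(3,1),(0,2),(2,2),(0,2),(0,2),(0,1),(0,1),(0,1),(0,1),(0,1),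
    (0,1),(0,1),(0,1),(0,1),(3,1),(0,2),(0,1),(0,1),(2,1),(0,1),(0,2),(1,1),(0,2),(0,1),(4,2),
    (1,1),(0,2),(0,2),(3,2),(1,1),(0,2),(2,2),(1,1),(0,2),(1,2),(1,2),(2,1),(0,1),(0,2),(0,2),
    (0,1),(0,2),(0,1),(0,1),(0,2),(0,1),(1,1),(1,1),(0,2),(2,1),(1,1),(2,2),(0,2),(2,1),(0,2),
    (2,1),(0,1),(1,2),(0,2),(0,2),(1,2),(0,2),(0,1),(0,1),(1,2),(0,1),(3,2),(0,2)],
   [(3,2),(0,1),(4,1),(0,1),(0,1),(6,1),(0,1),(0,2),(1,1),(0,1),(0,1),(0,2),(1,1),(0,1),(0,1),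
    (0,2),(2,2),(0,2),(1,1),(0,1),(0,1),(1,1),(0,2),(0,1),(0,1),(3,2),(0,2),(3,2),(0,1),(1,2),
    (0,2),(0,2),(1,2),(1,1),(2,1),(0,1),(0,1),(0,1),(0,2),(0,2),(0,1),(0,2),(0,2),(1,1),(0,1),
    (6,2),(0,1),(0,1),(1,2),(0,2),(1,2),(1,1),(1,1),(4,1),(0,1),(1,2),(0,1),(0,2),(0,2),(0,1),
    (2,1),(0,1),(0,2),(1,1),(0,1),(2,1),(2,2),(1,1),(0,2),(1,1),(0,1),(0,1),(0,2),(3,1),(1,1),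
    (2,2),(2,2),(0,2),(1,1),(0,2),(1,2),(2,2),(0,1),(1,2),(0,1),(0,2),(0,1),(0,2),(2,1),(0,2),
    (1,2),(0,1),(0,2),(0,2),(0,2),(1,1),(0,1),(1,2),(0,2),(0,1),(0,1),(1,1),(1,1),(1,2),(0,1),
    (1,2),(0,1),(0,1),(1,2),(0,2),(0,2),(0,1),(0,2),(0,2),(0,2),(1,2),(2,2),(1,1),(1,1),(0,1),
    (0,1),(0,2),(0,1),(3,2),(1,2),(0,2),(0,1),(0,2),(1,2),(0,2),(0,1),(0,1),(2,2),(0,1),(0,2),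
    (0,2),(0,1),(0,2),(0,1),(1,2),(0,1),(2,1),(0,1),(0,2),(2,2),(0,2),(0,2),(1,2),(2,2),(0,1)],
   [(3,1),(0,2),(4,2),(0,1),(2,1),(4,2),(0,1),(0,1),(2,2),(0,1),(0,1),(3,2),(0,1),(2,1),(2,2),
    (0,1),(0,2),(1,2),(1,1),(0,2),(3,1),(0,1),(2,2),(0,1),(0,2),(1,1),(0,1),(2,1),(1,2),(2,1),
    (0,2),(1,1),(0,1),(0,1),(1,2),(0,1),(0,2),(0,1),(0,2),(6,1),(0,1),(0,2),(1,2),(0,1),(1,1),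
    (3,2),(0,2),(2,2),(0,2),(0,2),(0,2),(0,1),(2,2),(0,2),(0,1),(1,2),(0,2),(0,1),(0,1),(0,2),
    (1,1),(1,2),(2,1),(0,1),(0,2),(0,2),(0,1),(0,1),(0,2),(0,2),(1,1),(0,2),(0,2),(3,2),(0,2),
    (0,2),(1,2),(0,2),(0,2),(0,2),(1,1),(0,2),(0,2),(0,2),(0,2),(0,2),(1,2),(0,1),(0,1),(0,1),
    (1,2),(0,2),(0,2),(1,1),(0,1),(1,2),(3,1),(0,2),(0,1),(0,1),(1,1),(3,1),(1,1),(0,2),(2,1),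
    (1,2),(4,2),(2,1),(1,1),(0,2),(0,1),(2,1),(0,2),(0,1),(0,1),(0,2),(0,2),(0,2),(0,2),(0,1),
    (0,1),(1,2),(0,1),(0,2),(1,1),(0,2),(5,2),(0,1),(2,2),(1,1),(1,2),(0,1),(1,2),(1,2),(2,1),
    (1,2),(0,1),(0,1),(1,2),(1,1),(0,1),(1,2)],
   [(3,1),(0,2),(3,2),(0,1),(0,1),(0,2),(6,1),(0,2),(0,2),(1,2),(0,2),(0,2),(0,2),(1,2),(0,2),
    (0,2),(0,1),(0,2),(0,1),(7,1),(1,1),(4,2),(0,2),(3,1),(2,2),(0,2),(0,1),(1,2),(0,1),(3,1),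
    (0,1),(0,2),(0,1),(0,2),(1,2),(0,1),(0,1),(0,2),(0,2),(1,1),(5,2),(0,1),(0,1),(2,2),(1,2),
    (1,2),(1,2),(1,2),(1,2),(0,1),(0,2),(0,2),(2,1),(0,2),(0,1),(0,1),(1,1),(0,1),(0,2),(1,1),
    (1,1),(1,1),(2,2),(0,1),(0,1),(0,2),(2,1),(0,1),(0,2),(0,2),(1,2),(0,2),(0,1),(0,1),(0,1),
    (0,1),(0,1),(0,2),(0,1),(0,2),(0,1),(1,1),(0,1),(0,2),(0,1),(0,2),(0,2),(0,1),(1,1),(1,1),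
    (0,2),(4,1),(0,2),(1,2),(0,1),(0,2),(0,2),(0,2),(0,1),(0,2),(0,2),(0,2),(0,1),(0,1),(0,1),
    (1,2),(1,2),(0,2),(1,1),(0,1),(0,1),(0,1),(1,2),(0,2),(4,1),(0,1),(0,1),(0,1),(0,2),(0,2),
    (2,1),(0,2),(0,2),(0,2),(2,1),(0,2),(0,1),(0,1),(2,2),(0,2),(0,1),(0,2),(1,1),(1,1),(0,2),
    (0,2),(0,1),(0,1),(0,1),(0,1),(1,1),(0,2),(0,2),(0,1),(0,2),(0,1),(1,2),(0,1),(2,1),(0,2),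
    (0,1),(0,2),(0,2),(0,1),(2,1),(0,2),(0,1)],
   [(0,1),(0,1),(0,2),(0,1),(1,1),(0,1),(0,2),(0,2),(0,2),(2,2),(0,2),(0,1),(0,1),(0,1),(0,2),
    (1,2),(0,1),(0,1),(0,1),(0,1),(0,2),(1,2),(0,1),(1,2),(1,1),(0,1),(1,1),(0,2),(1,2),(0,1),
    (0,2),(0,2),(0,1),(1,2),(0,2),(1,1),(0,1),(0,1),(0,1),(0,1),(0,1),(1,2),(0,1),(0,1),(0,2),
    (1,1),(3,2),(0,1),(1,2),(6,2),(0,2),(0,2),(2,2),(0,1),(0,1),(0,2),(0,1),(0,2),(0,1),(0,2),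
    (0,1),(0,1),(0,2),(0,1),(0,2),(0,1),(1,1),(0,1),(0,1),(0,2),(0,2),(0,2),(0,2),(0,1),(2,2),
    (0,2),(2,2),(0,1),(0,2),(1,2),(0,2),(0,2),(0,2),(1,2),(0,2),(0,2),(0,2),(0,2),(0,1),(0,2),
    (4,1),(1,2),(1,2),(0,1),(0,1),(0,2),(0,2),(0,2),(1,1),(3,1),(3,1),(1,1),(1,1),(0,2),(0,1),
    (1,1),(1,1),(0,2),(0,2),(0,2),(1,2),(0,2),(1,1),(1,2),(0,1),(0,1),(0,2),(0,2),(0,2),(0,2),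
    (2,1),(0,2),(0,1),(0,1),(0,2),(0,2),(0,1),(0,2),(0,1),(2,1),(1,1),(0,2),(0,2),(0,1),(0,2),
    (0,2),(0,2),(0,2),(0,2),(2,1),(2,1),(0,2),(0,2),(0,2),(0,2),(0,1),(0,2),(1,2),(0,1),(0,1),
    (0,2),(0,2),(0,1),(0,2),(0,2),(0,1),(0,1),(2,2),(0,1),(0,2),(0,1),(0,2),(0,2),(0,2),(4,2),
    (0,1),(0,2),(0,2),(1,2),(0,1),(0,2),(2,1),(0,1),(0,1),(0,1),(0,1),(0,1)],
   [(0,2),(0,2),(0,1),(0,1),(0,2),(0,2),(0,2),(0,1),(0,1),(2,2),(0,2),(1,2),(0,2),(0,2),(0,1),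
    (0,1),(2,1),(0,2),(0,2),(2,2),(0,2),(2,2),(0,2),(2,2),(0,2),(1,2),(0,2),(0,1),(4,1),(1,2),
    (0,2),(0,2),(0,1),(1,1),(0,1),(1,2),(0,2),(0,1),(0,1),(0,1),(0,2),(1,1),(0,2),(0,2),(2,2),
    (5,1),(0,2),(0,2),(1,1),(0,2),(0,2),(0,2),(0,1),(0,2),(0,1),(1,1),(0,2),(1,1),(0,2),(0,1),
    (0,2),(0,2),(0,2),(0,2),(1,2),(0,2),(0,2),(0,2),(8,2),(0,1),(1,1),(0,1),(1,1),(0,2),(0,1),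
    (0,1),(0,1),(0,1),(0,1),(2,1),(0,1),(0,2),(0,2),(0,2),(0,2),(1,2),(1,1),(0,2),(0,1),(1,1),
    (0,1),(2,1),(0,2),(1,2),(5,2),(1,2),(0,2),(0,1),(0,1),(0,2),(0,2),(0,2),(0,1),(1,1),(0,1),
    (1,2),(1,1),(1,1),(1,2),(1,2),(2,2),(0,1),(0,2),(0,2),(0,1),(3,2),(0,1),(1,2),(3,1),(0,1),
    (1,2),(0,2),(0,2),(2,1),(1,2),(1,2),(1,2),(0,1),(0,1),(0,2),(1,1),(0,2),(0,1),(3,1),(0,1),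
    (0,1),(0,1),(3,2),(0,1),(1,2),(0,2),(7,1),(1,1),(0,2),(0,2),(0,2),(1,1),(4,2),(0,2),(1,2)],
   [(0,2),(0,2),(0,1),(0,1),(1,2),(0,2),(0,1),(0,1),(0,2),(1,2),(0,1),(0,2),(0,2),(0,2),(0,2),
    (0,1),(0,1),(0,1),(1,2),(1,2),(3,2),(0,2),(0,1),(0,1),(0,2),(1,1),(0,2),(0,1),(0,2),(1,1),
    (0,2),(0,2),(2,1),(0,1),(1,2),(0,2),(0,2),(0,2),(0,2),(0,1),(1,2),(0,1),(0,2),(0,1),(0,1),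
    (0,2),(2,1),(0,2),(0,2),(1,2),(0,2),(2,1),(0,1),(0,1),(0,1),(2,2),(0,2),(0,1),(0,2),(0,2),
    (0,1),(0,2),(0,1),(1,1),(0,2),(1,1),(0,2),(0,1),(0,2),(0,2),(0,2),(2,2),(1,2),(0,1),(0,2),
    (2,2),(3,1),(0,2),(0,1),(1,1),(1,2),(0,1),(1,2),(0,1),(0,1),(0,2),(0,1),(0,1),(0,1),(0,1),
    (1,2),(0,1),(0,1),(0,1),(1,1),(1,2),(0,2),(0,1),(1,1),(3,2),(1,1),(1,1),(0,2),(2,1),(0,2),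
    (0,1),(0,1),(0,2),(0,1),(0,1),(0,2),(0,1),(0,2),(2,1),(0,2),(0,1),(1,2),(0,1),(0,2),(3,1),
    (1,2),(0,2),(0,2),(0,2),(0,1),(0,1),(0,2),(0,1),(0,2),(2,1),(0,1),(4,1),(2,2),(1,1),(0,1),
    (0,2),(0,2),(0,2),(1,2),(0,1),(0,2),(0,2),(1,2),(0,1),(0,2),(0,2),(0,1),(1,2),(0,1),(0,2),
    (0,2),(0,2),(0,2),(0,1),(4,1),(1,1),(0,1),(0,2),(0,1),(0,2),(0,2),(0,2),(1,2),(0,2),(0,2),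
    (1,2),(0,1),(1,2),(1,1),(1,2),(0,1),(2,1)],
   [(0,2),(0,2),(0,1),(0,1),(0,1),(0,2),(0,2),(0,1),(0,1),(0,2),(1,2),(0,1),(0,1),(0,2),(0,2),
    (0,2),(0,1),(0,2),(0,2),(0,1),(0,2),(0,1),(1,1),(3,1),(3,1),(0,2),(1,1),(0,1),(1,2),(0,2),
    (0,2),(0,2),(1,2),(0,1),(1,2),(0,2),(0,2),(0,1),(0,2),(0,2),(0,2),(1,1),(0,2),(0,1),(0,1),
    (0,2),(0,2),(1,2),(0,2),(0,2),(1,2),(0,2),(2,2),(1,2),(0,2),(1,2),(0,1),(2,2),(0,2),(0,1),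
    (0,2),(0,1),(0,1),(0,1),(0,2),(0,1),(0,1),(0,2),(0,1),(0,2),(0,2),(0,2),(0,1),(0,1),(0,2),
    (0,1),(0,1),(1,2),(0,1),(0,2),(4,1),(0,2),(0,1),(1,1),(0,1),(0,2),(0,1),(0,1),(0,2),(0,1),
    (0,1),(0,2),(0,1),(0,2),(1,1),(0,2),(4,2),(0,1),(0,2),(0,2),(0,2),(0,1),(1,1),(0,2),(2,2),
    (0,2),(0,1),(3,2),(0,1),(0,1),(0,1),(0,1),(1,1),(0,2),(0,1),(1,2),(2,1),(0,2),(0,1),(2,1),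
    (0,1),(1,1),(0,2),(0,2),(0,1),(1,2),(0,2),(0,2),(0,1),(0,1),(0,2),(0,2),(4,2),(0,1),(0,1),
    (0,2),(0,1),(0,1),(0,2),(1,2),(2,1),(0,2),(0,1),(0,2),(0,2),(1,2),(2,1),(0,2),(0,1),(0,1),
    (1,1),(0,1),(1,1),(0,2),(0,2),(0,2),(0,2),(0,2),(0,2),(0,2),(0,1),(0,1),(0,1),(0,2),(0,2),
    (0,1),(0,1),(0,2),(0,2),(0,1),(0,2),(0,2),(1,2),(0,1),(1,2),(0,1),(1,2),(2,1),(1,1),(0,2),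
    (2,1)],
   [(0,1),(0,1),(0,2),(1,1),(0,1),(0,1),(0,2),(0,1),(0,2),(1,1),(0,2),(1,1),(0,1),(0,1),(0,2),
    (0,1),(0,2),(0,1),(0,1),(0,2),(4,1),(1,1),(0,1),(1,1),(1,2),(0,2),(2,1),(0,2),(0,2),(0,1),
    (0,2),(0,2),(0,2),(1,1),(0,1),(0,1),(1,2),(0,2),(0,1),(0,2),(0,1),(0,1),(0,2),(0,2),(0,1),
    (2,2),(0,1),(0,1),(1,2),(0,1),(3,1),(0,1),(0,1),(1,1),(2,2),(0,1),(0,1),(0,2),(0,1),(0,2),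
    (1,2),(0,1),(0,1),(0,2),(0,1),(0,2),(0,1),(0,1),(0,1),(0,2),(0,2),(0,2),(0,1),(0,2),(0,1),
    (0,1),(0,1),(0,2),(0,1),(0,2),(2,2),(0,1),(0,2),(1,2),(0,1),(0,2),(0,1),(1,2),(0,2),(0,2),
    (0,2),(0,2),(0,1),(0,2),(0,1),(0,1),(0,2),(0,1),(1,1),(0,1),(0,1),(1,1),(0,2),(1,2),(1,1),
    (1,2),(1,1),(1,2),(0,2),(2,2),(2,1),(0,2),(0,1),(0,2),(0,1),(0,1),(1,1),(1,2),(0,1),(1,1),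
    (1,2),(0,1),(0,1),(0,1),(2,2),(1,2),(2,1),(0,2),(1,1),(1,1),(0,1),(1,2),(0,1),(1,1),(1,1),
    (0,2),(0,1),(0,1),(1,2),(3,2),(0,1),(0,2),(0,1),(1,1),(0,2),(0,2),(0,2),(1,1),(0,1),(0,2),
    (1,2),(0,2),(0,2),(1,2),(1,2),(0,1),(0,1),(2,1),(0,1),(1,1),(0,1),(0,1),(0,1),(0,1),(0,2),
    (0,2),(0,2),(0,2),(0,1),(0,2),(0,2),(2,1),(0,1),(0,1),(0,2),(2,1)],
   [(0,1),(0,1),(0,2),(2,1),(0,1),(0,2),(0,2),(1,1),(0,2),(0,1),(0,1),(0,1),(0,1),(0,1),(0,2),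
    (2,2),(0,2),(1,2),(0,2),(1,1),(1,1),(2,1),(0,2),(1,2),(0,1),(3,2),(1,2),(1,1),(0,2),(1,1),
    (0,1),(0,1),(0,1),(0,1),(0,1),(1,2),(0,1),(0,1),(0,2),(0,1),(0,2),(0,2),(1,2),(0,2),(0,1),
    (0,1),(1,2),(0,1),(2,2),(0,1),(1,1),(0,1),(2,2),(0,1),(0,1),(0,2),(0,1),(0,2),(0,1),(0,2),
    (0,1),(0,1),(0,2),(0,1),(0,2),(0,1),(0,2),(0,1),(0,1),(0,1),(0,2),(0,1),(0,2),(1,1),(0,2),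
    (2,1),(0,2),(1,2),(0,1),(0,2),(1,2),(0,2),(1,1),(0,2),(0,2),(0,2),(0,2),(0,2),(0,2),(0,1),
    (0,2),(0,1),(0,1),(0,1),(0,2),(1,1),(0,1),(0,2),(0,2),(0,2),(0,2),(0,1),(0,2),(2,1),(0,1),
    (0,2),(0,1),(0,1),(0,1),(1,2),(0,2),(0,1),(1,2),(1,1),(0,1),(1,2),(0,1),(0,2),(1,2),(0,1),
    (0,1),(0,1),(0,2),(0,2),(2,1),(0,2),(0,2),(0,2),(0,2),(0,1),(0,2),(2,1),(0,1),(1,2),(0,1),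
    (0,1),(0,2),(1,2),(0,2),(2,1),(0,1),(0,1),(0,2),(0,1),(3,1),(0,1),(0,2),(0,1),(0,2),(0,2),
    (0,2),(0,2),(1,1),(1,1),(3,2),(2,1),(0,1),(0,1),(0,2),(1,2),(0,2),(0,2),(0,2),(2,1),(0,2),
    (0,2),(0,2),(0,2),(3,2),(0,1),(2,2),(2,1),(0,2),(0,1),(0,2),(3,1)],
   [(0,2),(0,2),(0,1),(2,2),(0,2),(0,1),(3,2),(0,2),(0,2),(0,2),(0,2),(0,2),(0,1),(1,2),(1,1),
    (0,2),(0,2),(3,2),(0,1),(2,2),(0,1),(1,2),(0,2),(1,1),(0,2),(2,2),(0,2),(0,1),(0,1),(1,2),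
    (0,2),(0,2),(0,2),(1,1),(1,1),(1,2),(0,1),(0,1),(0,1),(0,2),(0,2),(0,2),(0,1),(0,2),(2,2),
    (3,2),(1,1),(0,1),(2,2),(1,2),(0,2),(0,1),(0,2),(0,1),(1,1),(0,2),(1,1),(0,2),(0,1),(0,2),
    (0,2),(0,2),(0,1),(1,1),(0,2),(0,2),(1,2),(0,2),(1,1),(0,2),(2,2),(0,2),(0,1),(1,1),(0,2),
    (4,1),(0,1),(1,1),(2,1),(0,1),(0,2),(1,1),(3,2),(1,2),(1,1),(0,2),(3,1),(0,2),(1,1),(2,1),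
    (0,2),(0,2),(3,1),(0,2),(3,2),(0,2),(0,2),(0,2),(0,1),(0,2),(0,2),(1,2),(0,1),(0,1),(2,2),
    (1,1),(1,2),(1,1),(0,2),(3,1),(0,2),(0,1),(0,1),(0,2),(1,2),(0,1),(0,1),(0,1),(1,2),(0,1),
    (0,2),(0,2),(0,2),(1,2),(1,2),(0,2),(1,1),(0,2),(0,1),(0,2),(1,1),(2,1),(0,1),(0,1),(0,2),
    (0,1),(0,2),(0,1),(1,1),(0,2),(0,2),(0,1),(1,2),(0,1),(0,1),(0,2),(0,2),(0,2),(0,2),(1,2),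
    (0,1),(1,2),(0,1),(0,2),(0,2),(1,1),(0,1),(1,1),(0,1),(2,2)],
   [(0,1),(0,1),(0,2),(0,2),(0,2),(0,1),(0,1),(0,2),(0,1),(1,2),(0,2),(0,1),(0,2),(0,1),(0,1),
    (0,1),(0,2),(1,1),(1,2),(0,2),(3,2),(0,1),(1,1),(0,2),(0,1),(0,1),(1,1),(0,1),(1,1),(0,2),
    (0,2),(3,2),(0,2),(1,1),(0,1),(0,1),(0,1),(1,1),(0,2),(1,1),(0,1),(0,2),(0,1),(0,2),(0,1),
    (0,2),(0,2),(0,2),(0,1),(0,2),(1,2),(0,2),(3,1),(0,2),(3,2),(1,1),(0,1),(0,2),(0,1),(0,2),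
    (0,2),(0,2),(0,1),(0,1),(0,2),(0,1),(0,2),(0,1),(0,2),(0,1),(2,1),(0,1),(0,1),(6,1),(1,1),
    (0,1),(0,2),(1,2),(0,2),(1,2),(0,1),(0,2),(0,2),(0,2),(0,2),(0,2),(0,1),(1,1),(0,1),(0,1),
    (0,1),(0,2),(0,2),(1,2),(0,1),(0,2),(0,2),(0,2),(0,2),(0,2),(0,2),(0,1),(1,1),(0,1),(2,2),
    (0,1),(0,2),(0,2),(0,2),(0,1),(0,1),(1,1),(0,1),(0,2),(0,2),(0,2),(1,2),(0,1),(0,1),(2,1),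
    (0,2),(0,2),(1,1),(2,1),(0,2),(0,2),(0,1),(0,2),(0,1),(1,1),(3,1),(1,2),(0,1),(0,2),(1,2),
    (0,2),(2,2),(0,1),(2,1),(0,1),(0,2),(0,2),(0,2),(0,1),(1,1),(0,2),(1,1),(2,2),(1,2),(2,1),
    (0,2),(0,1),(0,1),(0,1),(0,1),(0,1),(0,1),(1,2),(2,2),(0,2),(0,2),(0,2),(1,2),(4,1),(1,2),
    (0,1),(0,2),(1,1),(0,2),(5,1)]]

/-- Rows of a matrix. -/
def matB : List (List (ℕ × ℕ)) :=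
  matB0 ++ matB1 ++ matB2 ++ matB3 ++ matB4 ++ matB5 ++ matB6 ++ matB7

/-- Rows of a matrix. -/
def matC0 : List (List (ℕ × ℕ)) :=
  [[(0,2)],
   [(1,2)],
   [(2,1)],
   [(3,2)],
   [(4,2)],
   [(5,2)],
   [(6,2)],
   [(7,1)],
   [(8,2)],
   [(9,2)],
   [(10,2)],
   [(11,2)],
   [(12,2)],
   [(13,1)],
   [(14,1)],
   [(15,1)],
   [(16,1)],
   [(17,2)],
   [(18,2)],
   [(19,2)],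
   [(20,2)],
   [(21,2)],
   [(22,2)],
   [(23,2)],
   [(24,2)],
   [(25,2)],
   [(26,2)],
   [(27,1)],
   [(28,1)],
   [(29,1)],
   [(30,2)]]

/-- Rows of a matrix. -/
def matC1 : List (List (ℕ × ℕ)) :=
  [[(31,2)],
   [(32,2)],
   [(33,2)],
   [(34,2)],
   [(35,1)],
   [(36,1)],
   [(37,1)],
   [(38,1)],
   [(39,2)],
   [(40,2)],
   [(41,2)],
   [(42,2)],
   [(43,2)],
   [(44,1)],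
   [(45,1)],
   [(46,1)],
   [(47,1)],
   [(48,1)],
   [(49,2)],
   [(50,1)],
   [(51,1)],
   [(52,1)],
   [(53,1)],
   [(54,2)],
   [(55,2)],
   [(56,2)],
   [(57,2)],
   [(58,2)],
   [(59,2)],
   [(60,2)],
   [(61,2)]]

/-- Rows of a matrix. -/
def matC2 : List (List (ℕ × ℕ)) :=
  [[(62,2)],
   [(63,2)],
   [(64,2)],
   [(65,2)],
   [(66,2)],
   [(67,2)],
   [(68,2)],
   [(69,2)],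
   [(70,2)],
   [(71,2)],
   [(72,2)],
   [(73,1)],
   [(74,1)],
   [(75,2)],
   [(76,1)],
   [(77,1)],
   [(78,1)],
   [(79,1)],
   [(80,1)],
   [(81,1)],
   [(82,1)],
   [(83,1)],
   [(84,1)],
   [(85,1)],
   [(86,1)],
   [(87,1)],
   [(88,1)],
   [(89,1)],
   [(90,1)],
   [(91,1)],
   [(92,1)]]

/-- Rows of a matrix. -/
def matC3 : List (List (ℕ × ℕ)) :=
  [[(93,2)],
   [(94,2)],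
   [(95,2)],
   [(96,2)],
   [(97,2)],
   [(98,2)],
   [(99,1)],
   [(100,2)],
   [(101,2)],
   [(102,2)],
   [(103,2)],
   [(104,1)],
   [(105,1)],
   [(106,1)],
   [(107,1)],
   [(108,1)],
   [(109,2)],
   [(110,1)],
   [(111,1)],
   [(112,1)],
   [(113,1)],
   [(114,1)],
   [(115,2)],
   [(116,1)],
   [(117,1)],
   [(118,1)],
   [(119,1)],
   [(184,1)],
   [(185,1)],
   [(186,1)],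
   [(187,1)]]

/-- Rows of a matrix. -/
def matC4 : List (List (ℕ × ℕ)) :=
  [[(188,1)],
   [(189,1)],
   [(190,1)],
   [(191,1)],
   [(192,1)],
   [(193,1)],
   [(194,1)],
   [(195,1)],
   [(196,1)],
   [(197,1)],
   [(198,1)],
   [(199,1)],
   [(200,1)],
   [(201,1)],
   [(202,1)],
   [(203,1)],
   [(204,1)],
   [(205,1)],
   [(206,1)],
   [(207,1)],
   [(208,1)],
   [(209,1)],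
   [(210,1)],
   [(211,1)],
   [(212,1)],
   [(213,1)],
   [(214,1)],
   [(215,1)],
   [(216,1)],
   [(217,1)],
   [(218,1)]]

/-- Rows of a matrix. -/
def matC5 : List (List (ℕ × ℕ)) :=
  [[(219,1)],
   [(220,1)],
   [(221,1)],
   [(222,1)],
   [(223,1)],
   [(224,1)],
   [(225,1)],
   [(226,1)],
   [(227,1)],
   [(228,1)],
   [(229,1)],
   [(230,1)],
   [(231,1)],
   [(232,1)],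
   [(233,1)],
   [(234,1)],
   [(235,1)],
   [(236,1)],
   [(237,1)],
   [(238,1)],
   [(239,1)],
   [(240,1)],
   [(241,1)],
   [(242,1)],
   [(243,1)],
   [(244,1)],
   [(245,1)],
   [(246,1)],
   [(247,1)],
   [(120,1)],
   [(121,1)]]

/-- Rows of a matrix. -/
def matC6 : List (List (ℕ × ℕ)) :=
  [[(122,1)],
   [(123,1)],
   [(124,1)],
   [(125,1)],
   [(126,1)],
   [(127,1)],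
   [(128,1)],
   [(129,1)],
   [(130,1)],
   [(131,1)],
   [(132,1)],
   [(133,1)],
   [(134,1)],
   [(135,1)],
   [(136,1)],
   [(137,1)],
   [(138,1)],
   [(139,1)],
   [(140,1)],
   [(141,1)],
   [(142,1)],
   [(143,1)],
   [(144,1)],
   [(145,1)],
   [(146,1)],
   [(147,1)],
   [(148,1)],
   [(149,1)],
   [(150,1)],
   [(151,1)],
   [(152,1)]]

/-- Rows of a matrix. -/
def matC7 : List (List (ℕ × ℕ)) :=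
  [[(153,1)],
   [(154,1)],
   [(155,1)],
   [(156,1)],
   [(157,1)],
   [(158,1)],
   [(159,1)],
   [(160,1)],
   [(161,1)],
   [(162,1)],
   [(163,1)],
   [(164,1)],
   [(165,1)],
   [(166,1)],
   [(167,1)],
   [(168,1)],
   [(169,1)],
   [(170,1)],
   [(171,1)],
   [(172,1)],
   [(173,1)],
   [(174,1)],
   [(175,1)],
   [(176,1)],
   [(177,1)],
   [(178,1)],
   [(179,1)],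
   [(180,1)],
   [(181,1)],
   [(182,1)],
   [(183,1)]]

/-- Rows of a matrix. -/
def matC : List (List (ℕ × ℕ)) :=
  matC0 ++ matC1 ++ matC2 ++ matC3 ++ matC4 ++ matC5 ++ matC6 ++ matC7

/-- Rows of a matrix. -/
def matD0 : List (List (ℕ × ℕ)) :=
  [[(0,2)],
   [(2,1)],
   [(1,1)],
   [(4,1)],
   [(3,1)],
   [(44,1)],
   [(7,1)],
   [(6,1)],
   [(72,2)],
   [(83,1)],
   [(114,1)],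
   [(106,1)],
   [(13,1)],
   [(12,1)],
   [(110,2)],
   [(82,2)],
   [(17,1)],
   [(16,1)],
   [(30,2)],
   [(20,1)],
   [(19,1)],
   [(27,2)],
   [(23,2)],
   [(22,2)],
   [(59,2)],
   [(76,2)],
   [(60,2)],
   [(21,2)],
   [(69,2)],
   [(40,1)],
   [(18,2)]]

/-- Rows of a matrix. -/
def matD1 : List (List (ℕ × ℕ)) :=
  [[(97,1)],
   [(103,1)],
   [(77,2)],
   [(102,2)],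
   [(35,2)],
   [(91,2)],
   [(67,1)],
   [(39,1)],
   [(38,1)],
   [(29,1)],
   [(42,1)],
   [(41,1)],
   [(61,2)],
   [(5,1)],
   [(92,2)],
   [(88,2)],
   [(48,2)],
   [(47,2)],
   [(49,2)],
   [(115,1)],
   [(66,1)],
   [(57,1)],
   [(54,1)],
   [(53,1)],
   [(79,1)],
   [(80,1)],
   [(52,1)],
   [(86,2)],
   [(24,2)],
   [(26,2)],
   [(43,2)]]

/-- Rows of a matrix. -/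
def matD2 : List (List (ℕ × ℕ)) :=
  [[(62,2)],
   [(78,2)],
   [(99,2)],
   [(113,1)],
   [(51,1)],
   [(37,1)],
   [(111,2)],
   [(28,2)],
   [(98,1)],
   [(95,1)],
   [(8,2)],
   [(109,1)],
   [(75,1)],
   [(74,1)],
   [(25,2)],
   [(33,2)],
   [(63,2)],
   [(55,1)],
   [(56,1)],
   [(81,2)],
   [(15,2)],
   [(9,1)],
   [(84,2)],
   [(107,2)],
   [(58,2)],
   [(87,2)],
   [(46,2)],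
   [(119,2)],
   [(108,2)],
   [(36,2)],
   [(45,2)]]

/-- Rows of a matrix. -/
def matD3 : List (List (ℕ × ℕ)) :=
  [[(94,2)],
   [(93,2)],
   [(71,1)],
   [(96,2)],
   [(31,1)],
   [(70,1)],
   [(64,2)],
   [(101,2)],
   [(100,2)],
   [(34,2)],
   [(32,1)],
   [(105,1)],
   [(104,1)],
   [(11,1)],
   [(85,2)],
   [(90,2)],
   [(73,1)],
   [(14,2)],
   [(68,2)],
   [(118,2)],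
   [(65,1)],
   [(10,1)],
   [(50,1)],
   [(117,1)],
   [(116,1)],
   [(112,2)],
   [(89,2)],
   [(144,2),(1,2),(0,1),(0,1),(0,1),(0,2),(0,2),(24,2),(1,2),(0,1),(0,1),(0,1),(0,2),(0,2),
    (24,2),(1,2),(0,1),(0,1),(0,1),(0,2),(0,2),(24,2),(1,2),(0,1),(0,1),(0,1),(0,2),(0,2)],
   [(145,2),(0,1),(0,2),(0,2),(0,2),(0,1),(0,1),(25,2),(0,1),(0,2),(0,2),(0,2),(0,1),(0,1),
    (25,2),(0,1),(0,2),(0,2),(0,2),(0,1),(0,1),(25,2),(0,1),(0,2),(0,2),(0,2),(0,1),(0,1)],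
   [(144,2),(0,1),(1,1),(0,1),(0,1),(0,2),(0,2),(24,2),(0,1),(1,1),(0,1),(0,1),(0,2),(0,2),
    (24,2),(0,1),(1,1),(0,1),(0,1),(0,2),(0,2),(24,2),(0,1),(1,1),(0,1),(0,1),(0,2),(0,2)],
   [(144,1),(0,2),(0,1),(0,2),(0,2),(0,2),(0,1),(25,1),(0,2),(0,1),(0,2),(0,2),(0,2),(0,1),
    (25,1),(0,2),(0,1),(0,2),(0,2),(0,2),(0,1),(25,1),(0,2),(0,1),(0,2),(0,2),(0,2),(0,1)]]

/-- Rows of a matrix. -/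
def matD4 : List (List (ℕ × ℕ)) :=
  [[(144,1),(0,2),(0,1),(0,2),(1,2),(0,1),(0,1),(24,1),(0,2),(0,1),(0,2),(1,2),(0,1),(0,1),
    (24,1),(0,2),(0,1),(0,2),(1,2),(0,1),(0,1),(24,1),(0,2),(0,1),(0,2),(1,2),(0,1),(0,1)],
   [(144,1),(0,2),(0,1),(0,2),(0,2),(0,2),(1,1),(24,1),(0,2),(0,1),(0,2),(0,2),(0,2),(1,1),
    (24,1),(0,2),(0,1),(0,2),(0,2),(0,2),(1,1),(24,1),(0,2),(0,1),(0,2),(0,2),(0,2),(1,1)],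
   [(144,2),(0,1),(0,2),(0,1),(0,1),(1,2),(0,2),(24,2),(0,1),(0,2),(0,1),(0,1),(1,2),(0,2),
    (24,2),(0,1),(0,2),(0,1),(0,1),(1,2),(0,2),(24,2),(0,1),(0,2),(0,1),(0,1),(1,2),(0,2)],
   [(144,2),(0,1),(0,2),(1,1),(0,1),(0,2),(0,2),(24,2),(0,1),(0,2),(1,1),(0,1),(0,2),(0,2),
    (24,2),(0,1),(0,2),(1,1),(0,1),(0,2),(0,2),(24,2),(0,1),(0,2),(1,1),(0,1),(0,2),(0,2)],
   [(128,2),(1,2),(0,1),(0,1),(0,1),(0,2),(0,2),(24,2),(1,2),(0,1),(0,1),(0,1),(0,2),(0,2),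
    (24,2),(1,2),(0,1),(0,1),(0,1),(0,2),(0,2),(24,2),(1,2),(0,1),(0,1),(0,1),(0,2),(0,2)],
   [(129,2),(0,1),(0,2),(0,2),(0,2),(0,1),(0,1),(25,2),(0,1),(0,2),(0,2),(0,2),(0,1),(0,1),
    (25,2),(0,1),(0,2),(0,2),(0,2),(0,1),(0,1),(25,2),(0,1),(0,2),(0,2),(0,2),(0,1),(0,1)],
   [(128,2),(0,1),(1,1),(0,1),(0,1),(0,2),(0,2),(24,2),(0,1),(1,1),(0,1),(0,1),(0,2),(0,2),
    (24,2),(0,1),(1,1),(0,1),(0,1),(0,2),(0,2),(24,2),(0,1),(1,1),(0,1),(0,1),(0,2),(0,2)],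
   [(128,1),(0,2),(0,1),(0,2),(0,2),(0,2),(0,1),(25,1),(0,2),(0,1),(0,2),(0,2),(0,2),(0,1),
    (25,1),(0,2),(0,1),(0,2),(0,2),(0,2),(0,1),(25,1),(0,2),(0,1),(0,2),(0,2),(0,2),(0,1)],
   [(128,1),(0,2),(0,1),(0,2),(1,2),(0,1),(0,1),(24,1),(0,2),(0,1),(0,2),(1,2),(0,1),(0,1),
    (24,1),(0,2),(0,1),(0,2),(1,2),(0,1),(0,1),(24,1),(0,2),(0,1),(0,2),(1,2),(0,1),(0,1)],
   [(128,1),(0,2),(0,1),(0,2),(0,2),(0,2),(1,1),(24,1),(0,2),(0,1),(0,2),(0,2),(0,2),(1,1),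
    (24,1),(0,2),(0,1),(0,2),(0,2),(0,2),(1,1),(24,1),(0,2),(0,1),(0,2),(0,2),(0,2),(1,1)],
   [(128,2),(0,1),(0,2),(0,1),(0,1),(1,2),(0,2),(24,2),(0,1),(0,2),(0,1),(0,1),(1,2),(0,2),
    (24,2),(0,1),(0,2),(0,1),(0,1),(1,2),(0,2),(24,2),(0,1),(0,2),(0,1),(0,1),(1,2),(0,2)],
   [(128,2),(0,1),(0,2),(1,1),(0,1),(0,2),(0,2),(24,2),(0,1),(0,2),(1,1),(0,1),(0,2),(0,2),
    (24,2),(0,1),(0,2),(1,1),(0,1),(0,2),(0,2),(24,2),(0,1),(0,2),(1,1),(0,1),(0,2),(0,2)],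
   [(136,2),(1,2),(0,1),(0,1),(0,1),(0,2),(0,2),(24,2),(1,2),(0,1),(0,1),(0,1),(0,2),(0,2),
    (24,2),(1,2),(0,1),(0,1),(0,1),(0,2),(0,2),(24,2),(1,2),(0,1),(0,1),(0,1),(0,2),(0,2)],
   [(137,2),(0,1),(0,2),(0,2),(0,2),(0,1),(0,1),(25,2),(0,1),(0,2),(0,2),(0,2),(0,1),(0,1),
    (25,2),(0,1),(0,2),(0,2),(0,2),(0,1),(0,1),(25,2),(0,1),(0,2),(0,2),(0,2),(0,1),(0,1)],
   [(136,2),(0,1),(1,1),(0,1),(0,1),(0,2),(0,2),(24,2),(0,1),(1,1),(0,1),(0,1),(0,2),(0,2),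
    (24,2),(0,1),(1,1),(0,1),(0,1),(0,2),(0,2),(24,2),(0,1),(1,1),(0,1),(0,1),(0,2),(0,2)],
   [(136,1),(0,2),(0,1),(0,2),(0,2),(0,2),(0,1),(25,1),(0,2),(0,1),(0,2),(0,2),(0,2),(0,1),
    (25,1),(0,2),(0,1),(0,2),(0,2),(0,2),(0,1),(25,1),(0,2),(0,1),(0,2),(0,2),(0,2),(0,1)],
   [(136,1),(0,2),(0,1),(0,2),(1,2),(0,1),(0,1),(24,1),(0,2),(0,1),(0,2),(1,2),(0,1),(0,1),
    (24,1),(0,2),(0,1),(0,2),(1,2),(0,1),(0,1),(24,1),(0,2),(0,1),(0,2),(1,2),(0,1),(0,1)],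
   [(136,1),(0,2),(0,1),(0,2),(0,2),(0,2),(1,1),(24,1),(0,2),(0,1),(0,2),(0,2),(0,2),(1,1),
    (24,1),(0,2),(0,1),(0,2),(0,2),(0,2),(1,1),(24,1),(0,2),(0,1),(0,2),(0,2),(0,2),(1,1)],
   [(136,2),(0,1),(0,2),(0,1),(0,1),(1,2),(0,2),(24,2),(0,1),(0,2),(0,1),(0,1),(1,2),(0,2),
    (24,2),(0,1),(0,2),(0,1),(0,1),(1,2),(0,2),(24,2),(0,1),(0,2),(0,1),(0,1),(1,2),(0,2)],
   [(136,2),(0,1),(0,2),(1,1),(0,1),(0,2),(0,2),(24,2),(0,1),(0,2),(1,1),(0,1),(0,2),(0,2),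
    (24,2),(0,1),(0,2),(1,1),(0,1),(0,2),(0,2),(24,2),(0,1),(0,2),(1,1),(0,1),(0,2),(0,2)],
   [(120,2),(1,2),(0,1),(0,1),(0,1),(0,2),(0,2),(24,2),(1,2),(0,1),(0,1),(0,1),(0,2),(0,2),
    (24,2),(1,2),(0,1),(0,1),(0,1),(0,2),(0,2),(24,2),(1,2),(0,1),(0,1),(0,1),(0,2),(0,2)],
   [(121,2),(0,1),(0,2),(0,2),(0,2),(0,1),(0,1),(25,2),(0,1),(0,2),(0,2),(0,2),(0,1),(0,1),
    (25,2),(0,1),(0,2),(0,2),(0,2),(0,1),(0,1),(25,2),(0,1),(0,2),(0,2),(0,2),(0,1),(0,1)],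
   [(120,2),(0,1),(1,1),(0,1),(0,1),(0,2),(0,2),(24,2),(0,1),(1,1),(0,1),(0,1),(0,2),(0,2),
    (24,2),(0,1),(1,1),(0,1),(0,1),(0,2),(0,2),(24,2),(0,1),(1,1),(0,1),(0,1),(0,2),(0,2)],
   [(120,1),(0,2),(0,1),(0,2),(0,2),(0,2),(0,1),(25,1),(0,2),(0,1),(0,2),(0,2),(0,2),(0,1),
    (25,1),(0,2),(0,1),(0,2),(0,2),(0,2),(0,1),(25,1),(0,2),(0,1),(0,2),(0,2),(0,2),(0,1)],
   [(120,1),(0,2),(0,1),(0,2),(1,2),(0,1),(0,1),(24,1),(0,2),(0,1),(0,2),(1,2),(0,1),(0,1),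
    (24,1),(0,2),(0,1),(0,2),(1,2),(0,1),(0,1),(24,1),(0,2),(0,1),(0,2),(1,2),(0,1),(0,1)],
   [(120,1),(0,2),(0,1),(0,2),(0,2),(0,2),(1,1),(24,1),(0,2),(0,1),(0,2),(0,2),(0,2),(1,1),
    (24,1),(0,2),(0,1),(0,2),(0,2),(0,2),(1,1),(24,1),(0,2),(0,1),(0,2),(0,2),(0,2),(1,1)],
   [(120,2),(0,1),(0,2),(0,1),(0,1),(1,2),(0,2),(24,2),(0,1),(0,2),(0,1),(0,1),(1,2),(0,2),
    (24,2),(0,1),(0,2),(0,1),(0,1),(1,2),(0,2),(24,2),(0,1),(0,2),(0,1),(0,1),(1,2),(0,2)],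
   [(120,2),(0,1),(0,2),(1,1),(0,1),(0,2),(0,2),(24,2),(0,1),(0,2),(1,1),(0,1),(0,2),(0,2),
    (24,2),(0,1),(0,2),(1,1),(0,1),(0,2),(0,2),(24,2),(0,1),(0,2),(1,1),(0,1),(0,2),(0,2)],
   [(144,2),(1,2),(0,1),(0,1),(0,1),(0,2),(0,2),(24,1),(1,1),(0,2),(0,2),(0,2),(0,1),(0,1),
    (24,2),(1,2),(0,1),(0,1),(0,1),(0,2),(0,2),(24,1),(1,1),(0,2),(0,2),(0,2),(0,1),(0,1)],
   [(145,2),(0,1),(0,2),(0,2),(0,2),(0,1),(0,1),(25,1),(0,2),(0,1),(0,1),(0,1),(0,2),(0,2),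
    (25,2),(0,1),(0,2),(0,2),(0,2),(0,1),(0,1),(25,1),(0,2),(0,1),(0,1),(0,1),(0,2),(0,2)],
   [(144,2),(0,1),(1,1),(0,1),(0,1),(0,2),(0,2),(24,1),(0,2),(1,2),(0,2),(0,2),(0,1),(0,1),
    (24,2),(0,1),(1,1),(0,1),(0,1),(0,2),(0,2),(24,1),(0,2),(1,2),(0,2),(0,2),(0,1),(0,1)]]

/-- Rows of a matrix. -/
def matD5 : List (List (ℕ × ℕ)) :=
  [[(144,1),(0,2),(0,1),(0,2),(0,2),(0,2),(0,1),(25,2),(0,1),(0,2),(0,1),(0,1),(0,1),(0,2),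
    (25,1),(0,2),(0,1),(0,2),(0,2),(0,2),(0,1),(25,2),(0,1),(0,2),(0,1),(0,1),(0,1),(0,2)],
   [(144,1),(0,2),(0,1),(0,2),(1,2),(0,1),(0,1),(24,2),(0,1),(0,2),(0,1),(1,1),(0,2),(0,2),
    (24,1),(0,2),(0,1),(0,2),(1,2),(0,1),(0,1),(24,2),(0,1),(0,2),(0,1),(1,1),(0,2),(0,2)],
   [(144,1),(0,2),(0,1),(0,2),(0,2),(0,2),(1,1),(24,2),(0,1),(0,2),(0,1),(0,1),(0,1),(1,2),
    (24,1),(0,2),(0,1),(0,2),(0,2),(0,2),(1,1),(24,2),(0,1),(0,2),(0,1),(0,1),(0,1),(1,2)],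
   [(144,2),(0,1),(0,2),(0,1),(0,1),(1,2),(0,2),(24,1),(0,2),(0,1),(0,2),(0,2),(1,1),(0,1),
    (24,2),(0,1),(0,2),(0,1),(0,1),(1,2),(0,2),(24,1),(0,2),(0,1),(0,2),(0,2),(1,1),(0,1)],
   [(144,2),(0,1),(0,2),(1,1),(0,1),(0,2),(0,2),(24,1),(0,2),(0,1),(1,2),(0,2),(0,1),(0,1),
    (24,2),(0,1),(0,2),(1,1),(0,1),(0,2),(0,2),(24,1),(0,2),(0,1),(1,2),(0,2),(0,1),(0,1)],
   [(128,2),(1,2),(0,1),(0,1),(0,1),(0,2),(0,2),(24,1),(1,1),(0,2),(0,2),(0,2),(0,1),(0,1),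
    (24,2),(1,2),(0,1),(0,1),(0,1),(0,2),(0,2),(24,1),(1,1),(0,2),(0,2),(0,2),(0,1),(0,1)],
   [(129,2),(0,1),(0,2),(0,2),(0,2),(0,1),(0,1),(25,1),(0,2),(0,1),(0,1),(0,1),(0,2),(0,2),
    (25,2),(0,1),(0,2),(0,2),(0,2),(0,1),(0,1),(25,1),(0,2),(0,1),(0,1),(0,1),(0,2),(0,2)],
   [(128,2),(0,1),(1,1),(0,1),(0,1),(0,2),(0,2),(24,1),(0,2),(1,2),(0,2),(0,2),(0,1),(0,1),
    (24,2),(0,1),(1,1),(0,1),(0,1),(0,2),(0,2),(24,1),(0,2),(1,2),(0,2),(0,2),(0,1),(0,1)],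
   [(128,1),(0,2),(0,1),(0,2),(0,2),(0,2),(0,1),(25,2),(0,1),(0,2),(0,1),(0,1),(0,1),(0,2),
    (25,1),(0,2),(0,1),(0,2),(0,2),(0,2),(0,1),(25,2),(0,1),(0,2),(0,1),(0,1),(0,1),(0,2)],
   [(128,1),(0,2),(0,1),(0,2),(1,2),(0,1),(0,1),(24,2),(0,1),(0,2),(0,1),(1,1),(0,2),(0,2),
    (24,1),(0,2),(0,1),(0,2),(1,2),(0,1),(0,1),(24,2),(0,1),(0,2),(0,1),(1,1),(0,2),(0,2)],
   [(128,1),(0,2),(0,1),(0,2),(0,2),(0,2),(1,1),(24,2),(0,1),(0,2),(0,1),(0,1),(0,1),(1,2),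
    (24,1),(0,2),(0,1),(0,2),(0,2),(0,2),(1,1),(24,2),(0,1),(0,2),(0,1),(0,1),(0,1),(1,2)],
   [(128,2),(0,1),(0,2),(0,1),(0,1),(1,2),(0,2),(24,1),(0,2),(0,1),(0,2),(0,2),(1,1),(0,1),
    (24,2),(0,1),(0,2),(0,1),(0,1),(1,2),(0,2),(24,1),(0,2),(0,1),(0,2),(0,2),(1,1),(0,1)],
   [(128,2),(0,1),(0,2),(1,1),(0,1),(0,2),(0,2),(24,1),(0,2),(0,1),(1,2),(0,2),(0,1),(0,1),
    (24,2),(0,1),(0,2),(1,1),(0,1),(0,2),(0,2),(24,1),(0,2),(0,1),(1,2),(0,2),(0,1),(0,1)],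
   [(136,2),(1,2),(0,1),(0,1),(0,1),(0,2),(0,2),(24,1),(1,1),(0,2),(0,2),(0,2),(0,1),(0,1),
    (24,2),(1,2),(0,1),(0,1),(0,1),(0,2),(0,2),(24,1),(1,1),(0,2),(0,2),(0,2),(0,1),(0,1)],
   [(137,2),(0,1),(0,2),(0,2),(0,2),(0,1),(0,1),(25,1),(0,2),(0,1),(0,1),(0,1),(0,2),(0,2),
    (25,2),(0,1),(0,2),(0,2),(0,2),(0,1),(0,1),(25,1),(0,2),(0,1),(0,1),(0,1),(0,2),(0,2)],
   [(136,2),(0,1),(1,1),(0,1),(0,1),(0,2),(0,2),(24,1),(0,2),(1,2),(0,2),(0,2),(0,1),(0,1),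
    (24,2),(0,1),(1,1),(0,1),(0,1),(0,2),(0,2),(24,1),(0,2),(1,2),(0,2),(0,2),(0,1),(0,1)],
   [(136,1),(0,2),(0,1),(0,2),(0,2),(0,2),(0,1),(25,2),(0,1),(0,2),(0,1),(0,1),(0,1),(0,2),
    (25,1),(0,2),(0,1),(0,2),(0,2),(0,2),(0,1),(25,2),(0,1),(0,2),(0,1),(0,1),(0,1),(0,2)],
   [(136,1),(0,2),(0,1),(0,2),(1,2),(0,1),(0,1),(24,2),(0,1),(0,2),(0,1),(1,1),(0,2),(0,2),
    (24,1),(0,2),(0,1),(0,2),(1,2),(0,1),(0,1),(24,2),(0,1),(0,2),(0,1),(1,1),(0,2),(0,2)],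
   [(136,1),(0,2),(0,1),(0,2),(0,2),(0,2),(1,1),(24,2),(0,1),(0,2),(0,1),(0,1),(0,1),(1,2),
    (24,1),(0,2),(0,1),(0,2),(0,2),(0,2),(1,1),(24,2),(0,1),(0,2),(0,1),(0,1),(0,1),(1,2)],
   [(136,2),(0,1),(0,2),(0,1),(0,1),(1,2),(0,2),(24,1),(0,2),(0,1),(0,2),(0,2),(1,1),(0,1),
    (24,2),(0,1),(0,2),(0,1),(0,1),(1,2),(0,2),(24,1),(0,2),(0,1),(0,2),(0,2),(1,1),(0,1)],
   [(136,2),(0,1),(0,2),(1,1),(0,1),(0,2),(0,2),(24,1),(0,2),(0,1),(1,2),(0,2),(0,1),(0,1),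
    (24,2),(0,1),(0,2),(1,1),(0,1),(0,2),(0,2),(24,1),(0,2),(0,1),(1,2),(0,2),(0,1),(0,1)],
   [(120,2),(1,2),(0,1),(0,1),(0,1),(0,2),(0,2),(24,1),(1,1),(0,2),(0,2),(0,2),(0,1),(0,1),
    (24,2),(1,2),(0,1),(0,1),(0,1),(0,2),(0,2),(24,1),(1,1),(0,2),(0,2),(0,2),(0,1),(0,1)],
   [(121,2),(0,1),(0,2),(0,2),(0,2),(0,1),(0,1),(25,1),(0,2),(0,1),(0,1),(0,1),(0,2),(0,2),
    (25,2),(0,1),(0,2),(0,2),(0,2),(0,1),(0,1),(25,1),(0,2),(0,1),(0,1),(0,1),(0,2),(0,2)],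
   [(120,2),(0,1),(1,1),(0,1),(0,1),(0,2),(0,2),(24,1),(0,2),(1,2),(0,2),(0,2),(0,1),(0,1),
    (24,2),(0,1),(1,1),(0,1),(0,1),(0,2),(0,2),(24,1),(0,2),(1,2),(0,2),(0,2),(0,1),(0,1)],
   [(120,1),(0,2),(0,1),(0,2),(0,2),(0,2),(0,1),(25,2),(0,1),(0,2),(0,1),(0,1),(0,1),(0,2),
    (25,1),(0,2),(0,1),(0,2),(0,2),(0,2),(0,1),(25,2),(0,1),(0,2),(0,1),(0,1),(0,1),(0,2)],
   [(120,1),(0,2),(0,1),(0,2),(1,2),(0,1),(0,1),(24,2),(0,1),(0,2),(0,1),(1,1),(0,2),(0,2),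
    (24,1),(0,2),(0,1),(0,2),(1,2),(0,1),(0,1),(24,2),(0,1),(0,2),(0,1),(1,1),(0,2),(0,2)],
   [(120,1),(0,2),(0,1),(0,2),(0,2),(0,2),(1,1),(24,2),(0,1),(0,2),(0,1),(0,1),(0,1),(1,2),
    (24,1),(0,2),(0,1),(0,2),(0,2),(0,2),(1,1),(24,2),(0,1),(0,2),(0,1),(0,1),(0,1),(1,2)],
   [(120,2),(0,1),(0,2),(0,1),(0,1),(1,2),(0,2),(24,1),(0,2),(0,1),(0,2),(0,2),(1,1),(0,1),
    (24,2),(0,1),(0,2),(0,1),(0,1),(1,2),(0,2),(24,1),(0,2),(0,1),(0,2),(0,2),(1,1),(0,1)],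
   [(120,2),(0,1),(0,2),(1,1),(0,1),(0,2),(0,2),(24,1),(0,2),(0,1),(1,2),(0,2),(0,1),(0,1),
    (24,2),(0,1),(0,2),(1,1),(0,1),(0,2),(0,2),(24,1),(0,2),(0,1),(1,2),(0,2),(0,1),(0,1)],
   [(144,2),(1,2),(0,1),(0,1),(0,1),(0,2),(0,2),(24,2),(1,2),(0,1),(0,1),(0,1),(0,2),(0,2),
    (24,1),(1,1),(0,2),(0,2),(0,2),(0,1),(0,1),(24,1),(1,1),(0,2),(0,2),(0,2),(0,1),(0,1)],
   [(145,2),(0,1),(0,2),(0,2),(0,2),(0,1),(0,1),(25,2),(0,1),(0,2),(0,2),(0,2),(0,1),(0,1),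
    (25,1),(0,2),(0,1),(0,1),(0,1),(0,2),(0,2),(25,1),(0,2),(0,1),(0,1),(0,1),(0,2),(0,2)]]

/-- Rows of a matrix. -/
def matD6 : List (List (ℕ × ℕ)) :=
  [[(144,2),(0,1),(1,1),(0,1),(0,1),(0,2),(0,2),(24,2),(0,1),(1,1),(0,1),(0,1),(0,2),(0,2),
    (24,1),(0,2),(1,2),(0,2),(0,2),(0,1),(0,1),(24,1),(0,2),(1,2),(0,2),(0,2),(0,1),(0,1)],
   [(144,1),(0,2),(0,1),(0,2),(0,2),(0,2),(0,1),(25,1),(0,2),(0,1),(0,2),(0,2),(0,2),(0,1),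
    (25,2),(0,1),(0,2),(0,1),(0,1),(0,1),(0,2),(25,2),(0,1),(0,2),(0,1),(0,1),(0,1),(0,2)],
   [(144,1),(0,2),(0,1),(0,2),(1,2),(0,1),(0,1),(24,1),(0,2),(0,1),(0,2),(1,2),(0,1),(0,1),
    (24,2),(0,1),(0,2),(0,1),(1,1),(0,2),(0,2),(24,2),(0,1),(0,2),(0,1),(1,1),(0,2),(0,2)],
   [(144,1),(0,2),(0,1),(0,2),(0,2),(0,2),(1,1),(24,1),(0,2),(0,1),(0,2),(0,2),(0,2),(1,1),
    (24,2),(0,1),(0,2),(0,1),(0,1),(0,1),(1,2),(24,2),(0,1),(0,2),(0,1),(0,1),(0,1),(1,2)],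
   [(144,2),(0,1),(0,2),(0,1),(0,1),(1,2),(0,2),(24,2),(0,1),(0,2),(0,1),(0,1),(1,2),(0,2),
    (24,1),(0,2),(0,1),(0,2),(0,2),(1,1),(0,1),(24,1),(0,2),(0,1),(0,2),(0,2),(1,1),(0,1)],
   [(144,2),(0,1),(0,2),(1,1),(0,1),(0,2),(0,2),(24,2),(0,1),(0,2),(1,1),(0,1),(0,2),(0,2),
    (24,1),(0,2),(0,1),(1,2),(0,2),(0,1),(0,1),(24,1),(0,2),(0,1),(1,2),(0,2),(0,1),(0,1)],
   [(128,2),(1,2),(0,1),(0,1),(0,1),(0,2),(0,2),(24,2),(1,2),(0,1),(0,1),(0,1),(0,2),(0,2),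
    (24,1),(1,1),(0,2),(0,2),(0,2),(0,1),(0,1),(24,1),(1,1),(0,2),(0,2),(0,2),(0,1),(0,1)],
   [(129,2),(0,1),(0,2),(0,2),(0,2),(0,1),(0,1),(25,2),(0,1),(0,2),(0,2),(0,2),(0,1),(0,1),
    (25,1),(0,2),(0,1),(0,1),(0,1),(0,2),(0,2),(25,1),(0,2),(0,1),(0,1),(0,1),(0,2),(0,2)],
   [(128,2),(0,1),(1,1),(0,1),(0,1),(0,2),(0,2),(24,2),(0,1),(1,1),(0,1),(0,1),(0,2),(0,2),
    (24,1),(0,2),(1,2),(0,2),(0,2),(0,1),(0,1),(24,1),(0,2),(1,2),(0,2),(0,2),(0,1),(0,1)],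
   [(128,1),(0,2),(0,1),(0,2),(0,2),(0,2),(0,1),(25,1),(0,2),(0,1),(0,2),(0,2),(0,2),(0,1),
    (25,2),(0,1),(0,2),(0,1),(0,1),(0,1),(0,2),(25,2),(0,1),(0,2),(0,1),(0,1),(0,1),(0,2)],
   [(128,1),(0,2),(0,1),(0,2),(1,2),(0,1),(0,1),(24,1),(0,2),(0,1),(0,2),(1,2),(0,1),(0,1),
    (24,2),(0,1),(0,2),(0,1),(1,1),(0,2),(0,2),(24,2),(0,1),(0,2),(0,1),(1,1),(0,2),(0,2)],
   [(128,1),(0,2),(0,1),(0,2),(0,2),(0,2),(1,1),(24,1),(0,2),(0,1),(0,2),(0,2),(0,2),(1,1),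
    (24,2),(0,1),(0,2),(0,1),(0,1),(0,1),(1,2),(24,2),(0,1),(0,2),(0,1),(0,1),(0,1),(1,2)],
   [(128,2),(0,1),(0,2),(0,1),(0,1),(1,2),(0,2),(24,2),(0,1),(0,2),(0,1),(0,1),(1,2),(0,2),
    (24,1),(0,2),(0,1),(0,2),(0,2),(1,1),(0,1),(24,1),(0,2),(0,1),(0,2),(0,2),(1,1),(0,1)],
   [(128,2),(0,1),(0,2),(1,1),(0,1),(0,2),(0,2),(24,2),(0,1),(0,2),(1,1),(0,1),(0,2),(0,2),
    (24,1),(0,2),(0,1),(1,2),(0,2),(0,1),(0,1),(24,1),(0,2),(0,1),(1,2),(0,2),(0,1),(0,1)],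
   [(136,2),(1,2),(0,1),(0,1),(0,1),(0,2),(0,2),(24,2),(1,2),(0,1),(0,1),(0,1),(0,2),(0,2),
    (24,1),(1,1),(0,2),(0,2),(0,2),(0,1),(0,1),(24,1),(1,1),(0,2),(0,2),(0,2),(0,1),(0,1)],
   [(137,2),(0,1),(0,2),(0,2),(0,2),(0,1),(0,1),(25,2),(0,1),(0,2),(0,2),(0,2),(0,1),(0,1),
    (25,1),(0,2),(0,1),(0,1),(0,1),(0,2),(0,2),(25,1),(0,2),(0,1),(0,1),(0,1),(0,2),(0,2)],
   [(136,2),(0,1),(1,1),(0,1),(0,1),(0,2),(0,2),(24,2),(0,1),(1,1),(0,1),(0,1),(0,2),(0,2),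
    (24,1),(0,2),(1,2),(0,2),(0,2),(0,1),(0,1),(24,1),(0,2),(1,2),(0,2),(0,2),(0,1),(0,1)],
   [(136,1),(0,2),(0,1),(0,2),(0,2),(0,2),(0,1),(25,1),(0,2),(0,1),(0,2),(0,2),(0,2),(0,1),
    (25,2),(0,1),(0,2),(0,1),(0,1),(0,1),(0,2),(25,2),(0,1),(0,2),(0,1),(0,1),(0,1),(0,2)],
   [(136,1),(0,2),(0,1),(0,2),(1,2),(0,1),(0,1),(24,1),(0,2),(0,1),(0,2),(1,2),(0,1),(0,1),
    (24,2),(0,1),(0,2),(0,1),(1,1),(0,2),(0,2),(24,2),(0,1),(0,2),(0,1),(1,1),(0,2),(0,2)],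
   [(136,1),(0,2),(0,1),(0,2),(0,2),(0,2),(1,1),(24,1),(0,2),(0,1),(0,2),(0,2),(0,2),(1,1),
    (24,2),(0,1),(0,2),(0,1),(0,1),(0,1),(1,2),(24,2),(0,1),(0,2),(0,1),(0,1),(0,1),(1,2)],
   [(136,2),(0,1),(0,2),(0,1),(0,1),(1,2),(0,2),(24,2),(0,1),(0,2),(0,1),(0,1),(1,2),(0,2),
    (24,1),(0,2),(0,1),(0,2),(0,2),(1,1),(0,1),(24,1),(0,2),(0,1),(0,2),(0,2),(1,1),(0,1)],
   [(136,2),(0,1),(0,2),(1,1),(0,1),(0,2),(0,2),(24,2),(0,1),(0,2),(1,1),(0,1),(0,2),(0,2),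
    (24,1),(0,2),(0,1),(1,2),(0,2),(0,1),(0,1),(24,1),(0,2),(0,1),(1,2),(0,2),(0,1),(0,1)],
   [(120,2),(1,2),(0,1),(0,1),(0,1),(0,2),(0,2),(24,2),(1,2),(0,1),(0,1),(0,1),(0,2),(0,2),
    (24,1),(1,1),(0,2),(0,2),(0,2),(0,1),(0,1),(24,1),(1,1),(0,2),(0,2),(0,2),(0,1),(0,1)],
   [(121,2),(0,1),(0,2),(0,2),(0,2),(0,1),(0,1),(25,2),(0,1),(0,2),(0,2),(0,2),(0,1),(0,1),
    (25,1),(0,2),(0,1),(0,1),(0,1),(0,2),(0,2),(25,1),(0,2),(0,1),(0,1),(0,1),(0,2),(0,2)],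
   [(120,2),(0,1),(1,1),(0,1),(0,1),(0,2),(0,2),(24,2),(0,1),(1,1),(0,1),(0,1),(0,2),(0,2),
    (24,1),(0,2),(1,2),(0,2),(0,2),(0,1),(0,1),(24,1),(0,2),(1,2),(0,2),(0,2),(0,1),(0,1)],
   [(120,1),(0,2),(0,1),(0,2),(0,2),(0,2),(0,1),(25,1),(0,2),(0,1),(0,2),(0,2),(0,2),(0,1),
    (25,2),(0,1),(0,2),(0,1),(0,1),(0,1),(0,2),(25,2),(0,1),(0,2),(0,1),(0,1),(0,1),(0,2)],
   [(120,1),(0,2),(0,1),(0,2),(1,2),(0,1),(0,1),(24,1),(0,2),(0,1),(0,2),(1,2),(0,1),(0,1),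
    (24,2),(0,1),(0,2),(0,1),(1,1),(0,2),(0,2),(24,2),(0,1),(0,2),(0,1),(1,1),(0,2),(0,2)],
   [(120,1),(0,2),(0,1),(0,2),(0,2),(0,2),(1,1),(24,1),(0,2),(0,1),(0,2),(0,2),(0,2),(1,1),
    (24,2),(0,1),(0,2),(0,1),(0,1),(0,1),(1,2),(24,2),(0,1),(0,2),(0,1),(0,1),(0,1),(1,2)],
   [(120,2),(0,1),(0,2),(0,1),(0,1),(1,2),(0,2),(24,2),(0,1),(0,2),(0,1),(0,1),(1,2),(0,2),
    (24,1),(0,2),(0,1),(0,2),(0,2),(1,1),(0,1),(24,1),(0,2),(0,1),(0,2),(0,2),(1,1),(0,1)],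
   [(120,2),(0,1),(0,2),(1,1),(0,1),(0,2),(0,2),(24,2),(0,1),(0,2),(1,1),(0,1),(0,2),(0,2),
    (24,1),(0,2),(0,1),(1,2),(0,2),(0,1),(0,1),(24,1),(0,2),(0,1),(1,2),(0,2),(0,1),(0,1)],
   [(144,2),(1,2),(0,1),(0,1),(0,1),(0,2),(0,2),(24,1),(1,1),(0,2),(0,2),(0,2),(0,1),(0,1),
    (24,1),(1,1),(0,2),(0,2),(0,2),(0,1),(0,1),(24,2),(1,2),(0,1),(0,1),(0,1),(0,2),(0,2)]]

/-- Rows of a matrix. -/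
def matD7 : List (List (ℕ × ℕ)) :=
  [[(145,2),(0,1),(0,2),(0,2),(0,2),(0,1),(0,1),(25,1),(0,2),(0,1),(0,1),(0,1),(0,2),(0,2),
    (25,1),(0,2),(0,1),(0,1),(0,1),(0,2),(0,2),(25,2),(0,1),(0,2),(0,2),(0,2),(0,1),(0,1)],
   [(144,2),(0,1),(1,1),(0,1),(0,1),(0,2),(0,2),(24,1),(0,2),(1,2),(0,2),(0,2),(0,1),(0,1),
    (24,1),(0,2),(1,2),(0,2),(0,2),(0,1),(0,1),(24,2),(0,1),(1,1),(0,1),(0,1),(0,2),(0,2)],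
   [(144,1),(0,2),(0,1),(0,2),(0,2),(0,2),(0,1),(25,2),(0,1),(0,2),(0,1),(0,1),(0,1),(0,2),
    (25,2),(0,1),(0,2),(0,1),(0,1),(0,1),(0,2),(25,1),(0,2),(0,1),(0,2),(0,2),(0,2),(0,1)],
   [(144,1),(0,2),(0,1),(0,2),(1,2),(0,1),(0,1),(24,2),(0,1),(0,2),(0,1),(1,1),(0,2),(0,2),
    (24,2),(0,1),(0,2),(0,1),(1,1),(0,2),(0,2),(24,1),(0,2),(0,1),(0,2),(1,2),(0,1),(0,1)],
   [(144,1),(0,2),(0,1),(0,2),(0,2),(0,2),(1,1),(24,2),(0,1),(0,2),(0,1),(0,1),(0,1),(1,2),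
    (24,2),(0,1),(0,2),(0,1),(0,1),(0,1),(1,2),(24,1),(0,2),(0,1),(0,2),(0,2),(0,2),(1,1)],
   [(144,2),(0,1),(0,2),(0,1),(0,1),(1,2),(0,2),(24,1),(0,2),(0,1),(0,2),(0,2),(1,1),(0,1),
    (24,1),(0,2),(0,1),(0,2),(0,2),(1,1),(0,1),(24,2),(0,1),(0,2),(0,1),(0,1),(1,2),(0,2)],
   [(144,2),(0,1),(0,2),(1,1),(0,1),(0,2),(0,2),(24,1),(0,2),(0,1),(1,2),(0,2),(0,1),(0,1),
    (24,1),(0,2),(0,1),(1,2),(0,2),(0,1),(0,1),(24,2),(0,1),(0,2),(1,1),(0,1),(0,2),(0,2)],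
   [(128,2),(1,2),(0,1),(0,1),(0,1),(0,2),(0,2),(24,1),(1,1),(0,2),(0,2),(0,2),(0,1),(0,1),
    (24,1),(1,1),(0,2),(0,2),(0,2),(0,1),(0,1),(24,2),(1,2),(0,1),(0,1),(0,1),(0,2),(0,2)],
   [(129,2),(0,1),(0,2),(0,2),(0,2),(0,1),(0,1),(25,1),(0,2),(0,1),(0,1),(0,1),(0,2),(0,2),
    (25,1),(0,2),(0,1),(0,1),(0,1),(0,2),(0,2),(25,2),(0,1),(0,2),(0,2),(0,2),(0,1),(0,1)],
   [(128,2),(0,1),(1,1),(0,1),(0,1),(0,2),(0,2),(24,1),(0,2),(1,2),(0,2),(0,2),(0,1),(0,1),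
    (24,1),(0,2),(1,2),(0,2),(0,2),(0,1),(0,1),(24,2),(0,1),(1,1),(0,1),(0,1),(0,2),(0,2)],
   [(128,1),(0,2),(0,1),(0,2),(0,2),(0,2),(0,1),(25,2),(0,1),(0,2),(0,1),(0,1),(0,1),(0,2),
    (25,2),(0,1),(0,2),(0,1),(0,1),(0,1),(0,2),(25,1),(0,2),(0,1),(0,2),(0,2),(0,2),(0,1)],
   [(128,1),(0,2),(0,1),(0,2),(1,2),(0,1),(0,1),(24,2),(0,1),(0,2),(0,1),(1,1),(0,2),(0,2),
    (24,2),(0,1),(0,2),(0,1),(1,1),(0,2),(0,2),(24,1),(0,2),(0,1),(0,2),(1,2),(0,1),(0,1)],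
   [(128,1),(0,2),(0,1),(0,2),(0,2),(0,2),(1,1),(24,2),(0,1),(0,2),(0,1),(0,1),(0,1),(1,2),
    (24,2),(0,1),(0,2),(0,1),(0,1),(0,1),(1,2),(24,1),(0,2),(0,1),(0,2),(0,2),(0,2),(1,1)],
   [(128,2),(0,1),(0,2),(0,1),(0,1),(1,2),(0,2),(24,1),(0,2),(0,1),(0,2),(0,2),(1,1),(0,1),
    (24,1),(0,2),(0,1),(0,2),(0,2),(1,1),(0,1),(24,2),(0,1),(0,2),(0,1),(0,1),(1,2),(0,2)],
   [(128,2),(0,1),(0,2),(1,1),(0,1),(0,2),(0,2),(24,1),(0,2),(0,1),(1,2),(0,2),(0,1),(0,1),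
    (24,1),(0,2),(0,1),(1,2),(0,2),(0,1),(0,1),(24,2),(0,1),(0,2),(1,1),(0,1),(0,2),(0,2)],
   [(136,2),(1,2),(0,1),(0,1),(0,1),(0,2),(0,2),(24,1),(1,1),(0,2),(0,2),(0,2),(0,1),(0,1),
    (24,1),(1,1),(0,2),(0,2),(0,2),(0,1),(0,1),(24,2),(1,2),(0,1),(0,1),(0,1),(0,2),(0,2)],
   [(137,2),(0,1),(0,2),(0,2),(0,2),(0,1),(0,1),(25,1),(0,2),(0,1),(0,1),(0,1),(0,2),(0,2),
    (25,1),(0,2),(0,1),(0,1),(0,1),(0,2),(0,2),(25,2),(0,1),(0,2),(0,2),(0,2),(0,1),(0,1)],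
   [(136,2),(0,1),(1,1),(0,1),(0,1),(0,2),(0,2),(24,1),(0,2),(1,2),(0,2),(0,2),(0,1),(0,1),
    (24,1),(0,2),(1,2),(0,2),(0,2),(0,1),(0,1),(24,2),(0,1),(1,1),(0,1),(0,1),(0,2),(0,2)],
   [(136,1),(0,2),(0,1),(0,2),(0,2),(0,2),(0,1),(25,2),(0,1),(0,2),(0,1),(0,1),(0,1),(0,2),
    (25,2),(0,1),(0,2),(0,1),(0,1),(0,1),(0,2),(25,1),(0,2),(0,1),(0,2),(0,2),(0,2),(0,1)],
   [(136,1),(0,2),(0,1),(0,2),(1,2),(0,1),(0,1),(24,2),(0,1),(0,2),(0,1),(1,1),(0,2),(0,2),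
    (24,2),(0,1),(0,2),(0,1),(1,1),(0,2),(0,2),(24,1),(0,2),(0,1),(0,2),(1,2),(0,1),(0,1)],
   [(136,1),(0,2),(0,1),(0,2),(0,2),(0,2),(1,1),(24,2),(0,1),(0,2),(0,1),(0,1),(0,1),(1,2),
    (24,2),(0,1),(0,2),(0,1),(0,1),(0,1),(1,2),(24,1),(0,2),(0,1),(0,2),(0,2),(0,2),(1,1)],
   [(136,2),(0,1),(0,2),(0,1),(0,1),(1,2),(0,2),(24,1),(0,2),(0,1),(0,2),(0,2),(1,1),(0,1),
    (24,1),(0,2),(0,1),(0,2),(0,2),(1,1),(0,1),(24,2),(0,1),(0,2),(0,1),(0,1),(1,2),(0,2)],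
   [(136,2),(0,1),(0,2),(1,1),(0,1),(0,2),(0,2),(24,1),(0,2),(0,1),(1,2),(0,2),(0,1),(0,1),
    (24,1),(0,2),(0,1),(1,2),(0,2),(0,1),(0,1),(24,2),(0,1),(0,2),(1,1),(0,1),(0,2),(0,2)],
   [(120,2),(1,2),(0,1),(0,1),(0,1),(0,2),(0,2),(24,1),(1,1),(0,2),(0,2),(0,2),(0,1),(0,1),
    (24,1),(1,1),(0,2),(0,2),(0,2),(0,1),(0,1),(24,2),(1,2),(0,1),(0,1),(0,1),(0,2),(0,2)],
   [(121,2),(0,1),(0,2),(0,2),(0,2),(0,1),(0,1),(25,1),(0,2),(0,1),(0,1),(0,1),(0,2),(0,2),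
    (25,1),(0,2),(0,1),(0,1),(0,1),(0,2),(0,2),(25,2),(0,1),(0,2),(0,2),(0,2),(0,1),(0,1)],
   [(120,2),(0,1),(1,1),(0,1),(0,1),(0,2),(0,2),(24,1),(0,2),(1,2),(0,2),(0,2),(0,1),(0,1),
    (24,1),(0,2),(1,2),(0,2),(0,2),(0,1),(0,1),(24,2),(0,1),(1,1),(0,1),(0,1),(0,2),(0,2)],
   [(120,1),(0,2),(0,1),(0,2),(0,2),(0,2),(0,1),(25,2),(0,1),(0,2),(0,1),(0,1),(0,1),(0,2),
    (25,2),(0,1),(0,2),(0,1),(0,1),(0,1),(0,2),(25,1),(0,2),(0,1),(0,2),(0,2),(0,2),(0,1)],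
   [(120,1),(0,2),(0,1),(0,2),(1,2),(0,1),(0,1),(24,2),(0,1),(0,2),(0,1),(1,1),(0,2),(0,2),
    (24,2),(0,1),(0,2),(0,1),(1,1),(0,2),(0,2),(24,1),(0,2),(0,1),(0,2),(1,2),(0,1),(0,1)],
   [(120,1),(0,2),(0,1),(0,2),(0,2),(0,2),(1,1),(24,2),(0,1),(0,2),(0,1),(0,1),(0,1),(1,2),
    (24,2),(0,1),(0,2),(0,1),(0,1),(0,1),(1,2),(24,1),(0,2),(0,1),(0,2),(0,2),(0,2),(1,1)],
   [(120,2),(0,1),(0,2),(0,1),(0,1),(1,2),(0,2),(24,1),(0,2),(0,1),(0,2),(0,2),(1,1),(0,1),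
    (24,1),(0,2),(0,1),(0,2),(0,2),(1,1),(0,1),(24,2),(0,1),(0,2),(0,1),(0,1),(1,2),(0,2)],
   [(120,2),(0,1),(0,2),(1,1),(0,1),(0,2),(0,2),(24,1),(0,2),(0,1),(1,2),(0,2),(0,1),(0,1),
    (24,1),(0,2),(0,1),(1,2),(0,2),(0,1),(0,1),(24,2),(0,1),(0,2),(1,1),(0,1),(0,2),(0,2)]]

/-- Rows of a matrix. -/
def matD : List (List (ℕ × ℕ)) :=
  matD0 ++ matD1 ++ matD2 ++ matD3 ++ matD4 ++ matD5 ++ matD6 ++ matD7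

/-- Rows of a matrix. -/
def matE0 : List (List (ℕ × ℕ)) :=
  [[(1,1)],
   [(0,1)],
   [(2,2)],
   [(4,1)],
   [(3,1)],
   [(6,1)],
   [(5,1)],
   [(92,2)],
   [(9,1)],
   [(8,1)],
   [(70,2)],
   [(69,2)],
   [(62,1)],
   [(13,2)],
   [(14,2)],
   [(16,1)],
   [(15,1)],
   [(55,1)],
   [(54,1)],
   [(23,1)],
   [(71,2)],
   [(49,2)],
   [(95,1)],
   [(19,1)],
   [(34,2)],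
   [(26,1)],
   [(25,1)],
   [(27,2)],
   [(91,2)],
   [(118,2)],
   [(115,2)]]

/-- Rows of a matrix. -/
def matE1 : List (List (ℕ × ℕ)) :=
  [[(59,2)],
   [(42,2)],
   [(43,2)],
   [(24,2)],
   [(35,2)],
   [(106,1)],
   [(105,1)],
   [(112,1)],
   [(40,1)],
   [(39,1)],
   [(93,1)],
   [(32,2)],
   [(33,2)],
   [(45,1)],
   [(44,1)],
   [(47,1)],
   [(46,1)],
   [(119,1)],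
   [(21,2)],
   [(53,1)],
   [(52,1)],
   [(51,1)],
   [(50,1)],
   [(18,1)],
   [(17,1)],
   [(63,1)],
   [(101,1)],
   [(96,2)],
   [(31,2)],
   [(68,2)],
   [(75,2)]]

/-- Rows of a matrix. -/
def matE2 : List (List (ℕ × ℕ)) :=
  [[(12,1)],
   [(56,1)],
   [(98,1)],
   [(72,2)],
   [(100,2)],
   [(109,1)],
   [(60,2)],
   [(11,2)],
   [(10,2)],
   [(20,2)],
   [(65,2)],
   [(104,1)],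
   [(77,1)],
   [(61,2)],
   [(111,1)],
   [(74,1)],
   [(90,1)],
   [(82,2)],
   [(108,1)],
   [(107,1)],
   [(79,2)],
   [(113,1)],
   [(116,1)],
   [(85,2)],
   [(86,2)],
   [(110,1)],
   [(89,2)],
   [(88,2)],
   [(78,1)],
   [(28,2)],
   [(7,2)]]

/-- Rows of a matrix. -/
def matE3 : List (List (ℕ × ℕ)) :=
  [[(41,1)],
   [(103,1)],
   [(22,1)],
   [(58,2)],
   [(102,1)],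
   [(64,1)],
   [(114,1)],
   [(66,2)],
   [(57,1)],
   [(97,1)],
   [(94,1)],
   [(73,1)],
   [(37,1)],
   [(36,1)],
   [(81,1)],
   [(80,1)],
   [(67,1)],
   [(87,1)],
   [(76,1)],
   [(38,1)],
   [(83,1)],
   [(99,1)],
   [(30,2)],
   [(84,1)],
   [(117,2)],
   [(29,2)],
   [(48,1)],
   [(130,2),(0,1),(2,2),(0,1),(26,1),(0,2),(2,1),(0,2),(26,1),(0,2),(2,1),(0,2),(26,1),(0,2),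
    (2,1),(0,2)],
   [(130,2),(0,1),(2,1),(0,2),(26,1),(0,2),(2,2),(0,1),(26,1),(0,2),(2,2),(0,1),(26,1),(0,2),
    (2,2),(0,1)],
   [(128,2),(0,2),(2,2),(0,2),(26,1),(0,1),(2,1),(0,1),(26,1),(0,1),(2,1),(0,1),(26,1),(0,1),
    (2,1),(0,1)],
   [(128,1),(0,1),(2,2),(0,2),(26,2),(0,2),(2,1),(0,1),(26,2),(0,2),(2,1),(0,1),(26,2),(0,2),
    (2,1),(0,1)]]

/-- Rows of a matrix. -/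
def matE4 : List (List (ℕ × ℕ)) :=
  [[(130,2),(0,2),(2,2),(0,2),(26,1),(0,1),(2,1),(0,1),(26,1),(0,1),(2,1),(0,1),(26,1),(0,1),
    (2,1),(0,1)],
   [(130,2),(0,2),(2,1),(0,1),(26,1),(0,1),(2,2),(0,2),(26,1),(0,1),(2,2),(0,2),(26,1),(0,1),
    (2,2),(0,2)],
   [(128,2),(0,1),(2,2),(0,1),(26,1),(0,2),(2,1),(0,2),(26,1),(0,2),(2,1),(0,2),(26,1),(0,2),
    (2,1),(0,2)],
   [(128,1),(0,2),(2,2),(0,1),(26,2),(0,1),(2,1),(0,2),(26,2),(0,1),(2,1),(0,2),(26,2),(0,1),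
    (2,1),(0,2)],
   [(122,2),(0,1),(2,2),(0,1),(26,1),(0,2),(2,1),(0,2),(26,1),(0,2),(2,1),(0,2),(26,1),(0,2),
    (2,1),(0,2)],
   [(122,2),(0,1),(2,1),(0,2),(26,1),(0,2),(2,2),(0,1),(26,1),(0,2),(2,2),(0,1),(26,1),(0,2),
    (2,2),(0,1)],
   [(120,2),(0,2),(2,2),(0,2),(26,1),(0,1),(2,1),(0,1),(26,1),(0,1),(2,1),(0,1),(26,1),(0,1),
    (2,1),(0,1)],
   [(120,1),(0,1),(2,2),(0,2),(26,2),(0,2),(2,1),(0,1),(26,2),(0,2),(2,1),(0,1),(26,2),(0,2),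
    (2,1),(0,1)],
   [(122,2),(0,2),(2,2),(0,2),(26,1),(0,1),(2,1),(0,1),(26,1),(0,1),(2,1),(0,1),(26,1),(0,1),
    (2,1),(0,1)],
   [(122,2),(0,2),(2,1),(0,1),(26,1),(0,1),(2,2),(0,2),(26,1),(0,1),(2,2),(0,2),(26,1),(0,1),
    (2,2),(0,2)],
   [(120,2),(0,1),(2,2),(0,1),(26,1),(0,2),(2,1),(0,2),(26,1),(0,2),(2,1),(0,2),(26,1),(0,2),
    (2,1),(0,2)],
   [(120,1),(0,2),(2,2),(0,1),(26,2),(0,1),(2,1),(0,2),(26,2),(0,1),(2,1),(0,2),(26,2),(0,1),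
    (2,1),(0,2)],
   [(138,1),(0,2),(2,1),(0,2),(26,2),(0,1),(2,2),(0,1),(26,2),(0,1),(2,2),(0,1),(26,2),(0,1),
    (2,2),(0,1)],
   [(138,1),(0,2),(2,2),(0,1),(26,2),(0,1),(2,1),(0,2),(26,2),(0,1),(2,1),(0,2),(26,2),(0,1),
    (2,1),(0,2)],
   [(136,1),(0,1),(2,1),(0,1),(26,2),(0,2),(2,2),(0,2),(26,2),(0,2),(2,2),(0,2),(26,2),(0,2),
    (2,2),(0,2)],
   [(136,2),(0,2),(2,1),(0,1),(26,1),(0,1),(2,2),(0,2),(26,1),(0,1),(2,2),(0,2),(26,1),(0,1),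
    (2,2),(0,2)],
   [(138,1),(0,1),(2,1),(0,1),(26,2),(0,2),(2,2),(0,2),(26,2),(0,2),(2,2),(0,2),(26,2),(0,2),
    (2,2),(0,2)],
   [(138,1),(0,1),(2,2),(0,2),(26,2),(0,2),(2,1),(0,1),(26,2),(0,2),(2,1),(0,1),(26,2),(0,2),
    (2,1),(0,1)],
   [(136,1),(0,2),(2,1),(0,2),(26,2),(0,1),(2,2),(0,1),(26,2),(0,1),(2,2),(0,1),(26,2),(0,1),
    (2,2),(0,1)],
   [(136,2),(0,1),(2,1),(0,2),(26,1),(0,2),(2,2),(0,1),(26,1),(0,2),(2,2),(0,1),(26,1),(0,2),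
    (2,2),(0,1)],
   [(146,1),(0,2),(2,1),(0,2),(26,2),(0,1),(2,2),(0,1),(26,2),(0,1),(2,2),(0,1),(26,2),(0,1),
    (2,2),(0,1)],
   [(146,1),(0,2),(2,2),(0,1),(26,2),(0,1),(2,1),(0,2),(26,2),(0,1),(2,1),(0,2),(26,2),(0,1),
    (2,1),(0,2)],
   [(144,1),(0,1),(2,1),(0,1),(26,2),(0,2),(2,2),(0,2),(26,2),(0,2),(2,2),(0,2),(26,2),(0,2),
    (2,2),(0,2)],
   [(144,2),(0,2),(2,1),(0,1),(26,1),(0,1),(2,2),(0,2),(26,1),(0,1),(2,2),(0,2),(26,1),(0,1),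
    (2,2),(0,2)],
   [(146,1),(0,1),(2,1),(0,1),(26,2),(0,2),(2,2),(0,2),(26,2),(0,2),(2,2),(0,2),(26,2),(0,2),
    (2,2),(0,2)],
   [(146,1),(0,1),(2,2),(0,2),(26,2),(0,2),(2,1),(0,1),(26,2),(0,2),(2,1),(0,1),(26,2),(0,2),
    (2,1),(0,1)],
   [(144,1),(0,2),(2,1),(0,2),(26,2),(0,1),(2,2),(0,1),(26,2),(0,1),(2,2),(0,1),(26,2),(0,1),
    (2,2),(0,1)],
   [(144,2),(0,1),(2,1),(0,2),(26,1),(0,2),(2,2),(0,1),(26,1),(0,2),(2,2),(0,1),(26,1),(0,2),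
    (2,2),(0,1)],
   [(130,1),(0,2),(2,1),(0,2),(26,1),(0,2),(2,1),(0,2),(26,1),(0,2),(2,1),(0,2),(26,2),(0,1),
    (2,2),(0,1)],
   [(130,1),(0,2),(2,2),(0,1),(26,1),(0,2),(2,2),(0,1),(26,1),(0,2),(2,2),(0,1),(26,2),(0,1),
    (2,1),(0,2)],
   [(128,1),(0,1),(2,1),(0,1),(26,1),(0,1),(2,1),(0,1),(26,1),(0,1),(2,1),(0,1),(26,2),(0,2),
    (2,2),(0,2)]]

/-- Rows of a matrix. -/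
def matE5 : List (List (ℕ × ℕ)) :=
  [[(128,2),(0,2),(2,1),(0,1),(26,2),(0,2),(2,1),(0,1),(26,2),(0,2),(2,1),(0,1),(26,1),(0,1),
    (2,2),(0,2)],
   [(130,1),(0,1),(2,1),(0,1),(26,1),(0,1),(2,1),(0,1),(26,1),(0,1),(2,1),(0,1),(26,2),(0,2),
    (2,2),(0,2)],
   [(130,1),(0,1),(2,2),(0,2),(26,1),(0,1),(2,2),(0,2),(26,1),(0,1),(2,2),(0,2),(26,2),(0,2),
    (2,1),(0,1)],
   [(128,1),(0,2),(2,1),(0,2),(26,1),(0,2),(2,1),(0,2),(26,1),(0,2),(2,1),(0,2),(26,2),(0,1),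
    (2,2),(0,1)],
   [(128,2),(0,1),(2,1),(0,2),(26,2),(0,1),(2,1),(0,2),(26,2),(0,1),(2,1),(0,2),(26,1),(0,2),
    (2,2),(0,1)],
   [(122,1),(0,2),(2,1),(0,2),(26,1),(0,2),(2,1),(0,2),(26,1),(0,2),(2,1),(0,2),(26,2),(0,1),
    (2,2),(0,1)],
   [(122,1),(0,2),(2,2),(0,1),(26,1),(0,2),(2,2),(0,1),(26,1),(0,2),(2,2),(0,1),(26,2),(0,1),
    (2,1),(0,2)],
   [(120,1),(0,1),(2,1),(0,1),(26,1),(0,1),(2,1),(0,1),(26,1),(0,1),(2,1),(0,1),(26,2),(0,2),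
    (2,2),(0,2)],
   [(120,2),(0,2),(2,1),(0,1),(26,2),(0,2),(2,1),(0,1),(26,2),(0,2),(2,1),(0,1),(26,1),(0,1),
    (2,2),(0,2)],
   [(122,1),(0,1),(2,1),(0,1),(26,1),(0,1),(2,1),(0,1),(26,1),(0,1),(2,1),(0,1),(26,2),(0,2),
    (2,2),(0,2)],
   [(122,1),(0,1),(2,2),(0,2),(26,1),(0,1),(2,2),(0,2),(26,1),(0,1),(2,2),(0,2),(26,2),(0,2),
    (2,1),(0,1)],
   [(120,1),(0,2),(2,1),(0,2),(26,1),(0,2),(2,1),(0,2),(26,1),(0,2),(2,1),(0,2),(26,2),(0,1),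
    (2,2),(0,1)],
   [(120,2),(0,1),(2,1),(0,2),(26,2),(0,1),(2,1),(0,2),(26,2),(0,1),(2,1),(0,2),(26,1),(0,2),
    (2,2),(0,1)],
   [(138,2),(0,1),(2,2),(0,1),(26,2),(0,1),(2,2),(0,1),(26,2),(0,1),(2,2),(0,1),(26,1),(0,2),
    (2,1),(0,2)],
   [(138,2),(0,1),(2,1),(0,2),(26,2),(0,1),(2,1),(0,2),(26,2),(0,1),(2,1),(0,2),(26,1),(0,2),
    (2,2),(0,1)],
   [(136,2),(0,2),(2,2),(0,2),(26,2),(0,2),(2,2),(0,2),(26,2),(0,2),(2,2),(0,2),(26,1),(0,1),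
    (2,1),(0,1)],
   [(136,1),(0,1),(2,2),(0,2),(26,1),(0,1),(2,2),(0,2),(26,1),(0,1),(2,2),(0,2),(26,2),(0,2),
    (2,1),(0,1)],
   [(138,2),(0,2),(2,2),(0,2),(26,2),(0,2),(2,2),(0,2),(26,2),(0,2),(2,2),(0,2),(26,1),(0,1),
    (2,1),(0,1)],
   [(138,2),(0,2),(2,1),(0,1),(26,2),(0,2),(2,1),(0,1),(26,2),(0,2),(2,1),(0,1),(26,1),(0,1),
    (2,2),(0,2)],
   [(136,2),(0,1),(2,2),(0,1),(26,2),(0,1),(2,2),(0,1),(26,2),(0,1),(2,2),(0,1),(26,1),(0,2),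
    (2,1),(0,2)],
   [(136,1),(0,2),(2,2),(0,1),(26,1),(0,2),(2,2),(0,1),(26,1),(0,2),(2,2),(0,1),(26,2),(0,1),
    (2,1),(0,2)],
   [(146,2),(0,1),(2,2),(0,1),(26,2),(0,1),(2,2),(0,1),(26,2),(0,1),(2,2),(0,1),(26,1),(0,2),
    (2,1),(0,2)],
   [(146,2),(0,1),(2,1),(0,2),(26,2),(0,1),(2,1),(0,2),(26,2),(0,1),(2,1),(0,2),(26,1),(0,2),
    (2,2),(0,1)],
   [(144,2),(0,2),(2,2),(0,2),(26,2),(0,2),(2,2),(0,2),(26,2),(0,2),(2,2),(0,2),(26,1),(0,1),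
    (2,1),(0,1)],
   [(144,1),(0,1),(2,2),(0,2),(26,1),(0,1),(2,2),(0,2),(26,1),(0,1),(2,2),(0,2),(26,2),(0,2),
    (2,1),(0,1)],
   [(146,2),(0,2),(2,2),(0,2),(26,2),(0,2),(2,2),(0,2),(26,2),(0,2),(2,2),(0,2),(26,1),(0,1),
    (2,1),(0,1)],
   [(146,2),(0,2),(2,1),(0,1),(26,2),(0,2),(2,1),(0,1),(26,2),(0,2),(2,1),(0,1),(26,1),(0,1),
    (2,2),(0,2)],
   [(144,2),(0,1),(2,2),(0,1),(26,2),(0,1),(2,2),(0,1),(26,2),(0,1),(2,2),(0,1),(26,1),(0,2),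
    (2,1),(0,2)],
   [(144,1),(0,2),(2,2),(0,1),(26,1),(0,2),(2,2),(0,1),(26,1),(0,2),(2,2),(0,1),(26,2),(0,1),
    (2,1),(0,2)],
   [(130,1),(0,2),(2,1),(0,2),(26,1),(0,2),(2,1),(0,2),(26,2),(0,1),(2,2),(0,1),(26,1),(0,2),
    (2,1),(0,2)],
   [(130,1),(0,2),(2,2),(0,1),(26,1),(0,2),(2,2),(0,1),(26,2),(0,1),(2,1),(0,2),(26,1),(0,2),
    (2,2),(0,1)]]

/-- Rows of a matrix. -/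
def matE6 : List (List (ℕ × ℕ)) :=
  [[(128,1),(0,1),(2,1),(0,1),(26,1),(0,1),(2,1),(0,1),(26,2),(0,2),(2,2),(0,2),(26,1),(0,1),
    (2,1),(0,1)],
   [(128,2),(0,2),(2,1),(0,1),(26,2),(0,2),(2,1),(0,1),(26,1),(0,1),(2,2),(0,2),(26,2),(0,2),
    (2,1),(0,1)],
   [(130,1),(0,1),(2,1),(0,1),(26,1),(0,1),(2,1),(0,1),(26,2),(0,2),(2,2),(0,2),(26,1),(0,1),
    (2,1),(0,1)],
   [(130,1),(0,1),(2,2),(0,2),(26,1),(0,1),(2,2),(0,2),(26,2),(0,2),(2,1),(0,1),(26,1),(0,1),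
    (2,2),(0,2)],
   [(128,1),(0,2),(2,1),(0,2),(26,1),(0,2),(2,1),(0,2),(26,2),(0,1),(2,2),(0,1),(26,1),(0,2),
    (2,1),(0,2)],
   [(128,2),(0,1),(2,1),(0,2),(26,2),(0,1),(2,1),(0,2),(26,1),(0,2),(2,2),(0,1),(26,2),(0,1),
    (2,1),(0,2)],
   [(122,1),(0,2),(2,1),(0,2),(26,1),(0,2),(2,1),(0,2),(26,2),(0,1),(2,2),(0,1),(26,1),(0,2),
    (2,1),(0,2)],
   [(122,1),(0,2),(2,2),(0,1),(26,1),(0,2),(2,2),(0,1),(26,2),(0,1),(2,1),(0,2),(26,1),(0,2),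
    (2,2),(0,1)],
   [(120,1),(0,1),(2,1),(0,1),(26,1),(0,1),(2,1),(0,1),(26,2),(0,2),(2,2),(0,2),(26,1),(0,1),
    (2,1),(0,1)],
   [(120,2),(0,2),(2,1),(0,1),(26,2),(0,2),(2,1),(0,1),(26,1),(0,1),(2,2),(0,2),(26,2),(0,2),
    (2,1),(0,1)],
   [(122,1),(0,1),(2,1),(0,1),(26,1),(0,1),(2,1),(0,1),(26,2),(0,2),(2,2),(0,2),(26,1),(0,1),
    (2,1),(0,1)],
   [(122,1),(0,1),(2,2),(0,2),(26,1),(0,1),(2,2),(0,2),(26,2),(0,2),(2,1),(0,1),(26,1),(0,1),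
    (2,2),(0,2)],
   [(120,1),(0,2),(2,1),(0,2),(26,1),(0,2),(2,1),(0,2),(26,2),(0,1),(2,2),(0,1),(26,1),(0,2),
    (2,1),(0,2)],
   [(120,2),(0,1),(2,1),(0,2),(26,2),(0,1),(2,1),(0,2),(26,1),(0,2),(2,2),(0,1),(26,2),(0,1),
    (2,1),(0,2)],
   [(138,2),(0,1),(2,2),(0,1),(26,2),(0,1),(2,2),(0,1),(26,1),(0,2),(2,1),(0,2),(26,2),(0,1),
    (2,2),(0,1)],
   [(138,2),(0,1),(2,1),(0,2),(26,2),(0,1),(2,1),(0,2),(26,1),(0,2),(2,2),(0,1),(26,2),(0,1),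
    (2,1),(0,2)],
   [(136,2),(0,2),(2,2),(0,2),(26,2),(0,2),(2,2),(0,2),(26,1),(0,1),(2,1),(0,1),(26,2),(0,2),
    (2,2),(0,2)],
   [(136,1),(0,1),(2,2),(0,2),(26,1),(0,1),(2,2),(0,2),(26,2),(0,2),(2,1),(0,1),(26,1),(0,1),
    (2,2),(0,2)],
   [(138,2),(0,2),(2,2),(0,2),(26,2),(0,2),(2,2),(0,2),(26,1),(0,1),(2,1),(0,1),(26,2),(0,2),
    (2,2),(0,2)],
   [(138,2),(0,2),(2,1),(0,1),(26,2),(0,2),(2,1),(0,1),(26,1),(0,1),(2,2),(0,2),(26,2),(0,2),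
    (2,1),(0,1)],
   [(136,2),(0,1),(2,2),(0,1),(26,2),(0,1),(2,2),(0,1),(26,1),(0,2),(2,1),(0,2),(26,2),(0,1),
    (2,2),(0,1)],
   [(136,1),(0,2),(2,2),(0,1),(26,1),(0,2),(2,2),(0,1),(26,2),(0,1),(2,1),(0,2),(26,1),(0,2),
    (2,2),(0,1)],
   [(146,2),(0,1),(2,2),(0,1),(26,2),(0,1),(2,2),(0,1),(26,1),(0,2),(2,1),(0,2),(26,2),(0,1),
    (2,2),(0,1)],
   [(146,2),(0,1),(2,1),(0,2),(26,2),(0,1),(2,1),(0,2),(26,1),(0,2),(2,2),(0,1),(26,2),(0,1),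
    (2,1),(0,2)],
   [(144,2),(0,2),(2,2),(0,2),(26,2),(0,2),(2,2),(0,2),(26,1),(0,1),(2,1),(0,1),(26,2),(0,2),
    (2,2),(0,2)],
   [(144,1),(0,1),(2,2),(0,2),(26,1),(0,1),(2,2),(0,2),(26,2),(0,2),(2,1),(0,1),(26,1),(0,1),
    (2,2),(0,2)],
   [(146,2),(0,2),(2,2),(0,2),(26,2),(0,2),(2,2),(0,2),(26,1),(0,1),(2,1),(0,1),(26,2),(0,2),
    (2,2),(0,2)],
   [(146,2),(0,2),(2,1),(0,1),(26,2),(0,2),(2,1),(0,1),(26,1),(0,1),(2,2),(0,2),(26,2),(0,2),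
    (2,1),(0,1)],
   [(144,2),(0,1),(2,2),(0,1),(26,2),(0,1),(2,2),(0,1),(26,1),(0,2),(2,1),(0,2),(26,2),(0,1),
    (2,2),(0,1)],
   [(144,1),(0,2),(2,2),(0,1),(26,1),(0,2),(2,2),(0,1),(26,2),(0,1),(2,1),(0,2),(26,1),(0,2),
    (2,2),(0,1)],
   [(130,1),(0,2),(2,1),(0,2),(26,2),(0,1),(2,2),(0,1),(26,1),(0,2),(2,1),(0,2),(26,1),(0,2),
    (2,1),(0,2)]]

/-- Rows of a matrix. -/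
def matE7 : List (List (ℕ × ℕ)) :=
  [[(130,1),(0,2),(2,2),(0,1),(26,2),(0,1),(2,1),(0,2),(26,1),(0,2),(2,2),(0,1),(26,1),(0,2),
    (2,2),(0,1)],
   [(128,1),(0,1),(2,1),(0,1),(26,2),(0,2),(2,2),(0,2),(26,1),(0,1),(2,1),(0,1),(26,1),(0,1),
    (2,1),(0,1)],
   [(128,2),(0,2),(2,1),(0,1),(26,1),(0,1),(2,2),(0,2),(26,2),(0,2),(2,1),(0,1),(26,2),(0,2),
    (2,1),(0,1)],
   [(130,1),(0,1),(2,1),(0,1),(26,2),(0,2),(2,2),(0,2),(26,1),(0,1),(2,1),(0,1),(26,1),(0,1),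
    (2,1),(0,1)],
   [(130,1),(0,1),(2,2),(0,2),(26,2),(0,2),(2,1),(0,1),(26,1),(0,1),(2,2),(0,2),(26,1),(0,1),
    (2,2),(0,2)],
   [(128,1),(0,2),(2,1),(0,2),(26,2),(0,1),(2,2),(0,1),(26,1),(0,2),(2,1),(0,2),(26,1),(0,2),
    (2,1),(0,2)],
   [(128,2),(0,1),(2,1),(0,2),(26,1),(0,2),(2,2),(0,1),(26,2),(0,1),(2,1),(0,2),(26,2),(0,1),
    (2,1),(0,2)],
   [(122,1),(0,2),(2,1),(0,2),(26,2),(0,1),(2,2),(0,1),(26,1),(0,2),(2,1),(0,2),(26,1),(0,2),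
    (2,1),(0,2)],
   [(122,1),(0,2),(2,2),(0,1),(26,2),(0,1),(2,1),(0,2),(26,1),(0,2),(2,2),(0,1),(26,1),(0,2),
    (2,2),(0,1)],
   [(120,1),(0,1),(2,1),(0,1),(26,2),(0,2),(2,2),(0,2),(26,1),(0,1),(2,1),(0,1),(26,1),(0,1),
    (2,1),(0,1)],
   [(120,2),(0,2),(2,1),(0,1),(26,1),(0,1),(2,2),(0,2),(26,2),(0,2),(2,1),(0,1),(26,2),(0,2),
    (2,1),(0,1)],
   [(122,1),(0,1),(2,1),(0,1),(26,2),(0,2),(2,2),(0,2),(26,1),(0,1),(2,1),(0,1),(26,1),(0,1),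
    (2,1),(0,1)],
   [(122,1),(0,1),(2,2),(0,2),(26,2),(0,2),(2,1),(0,1),(26,1),(0,1),(2,2),(0,2),(26,1),(0,1),
    (2,2),(0,2)],
   [(120,1),(0,2),(2,1),(0,2),(26,2),(0,1),(2,2),(0,1),(26,1),(0,2),(2,1),(0,2),(26,1),(0,2),
    (2,1),(0,2)],
   [(120,2),(0,1),(2,1),(0,2),(26,1),(0,2),(2,2),(0,1),(26,2),(0,1),(2,1),(0,2),(26,2),(0,1),
    (2,1),(0,2)],
   [(138,2),(0,1),(2,2),(0,1),(26,1),(0,2),(2,1),(0,2),(26,2),(0,1),(2,2),(0,1),(26,2),(0,1),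
    (2,2),(0,1)],
   [(138,2),(0,1),(2,1),(0,2),(26,1),(0,2),(2,2),(0,1),(26,2),(0,1),(2,1),(0,2),(26,2),(0,1),
    (2,1),(0,2)],
   [(136,2),(0,2),(2,2),(0,2),(26,1),(0,1),(2,1),(0,1),(26,2),(0,2),(2,2),(0,2),(26,2),(0,2),
    (2,2),(0,2)],
   [(136,1),(0,1),(2,2),(0,2),(26,2),(0,2),(2,1),(0,1),(26,1),(0,1),(2,2),(0,2),(26,1),(0,1),
    (2,2),(0,2)],
   [(138,2),(0,2),(2,2),(0,2),(26,1),(0,1),(2,1),(0,1),(26,2),(0,2),(2,2),(0,2),(26,2),(0,2),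
    (2,2),(0,2)],
   [(138,2),(0,2),(2,1),(0,1),(26,1),(0,1),(2,2),(0,2),(26,2),(0,2),(2,1),(0,1),(26,2),(0,2),
    (2,1),(0,1)],
   [(136,2),(0,1),(2,2),(0,1),(26,1),(0,2),(2,1),(0,2),(26,2),(0,1),(2,2),(0,1),(26,2),(0,1),
    (2,2),(0,1)],
   [(136,1),(0,2),(2,2),(0,1),(26,2),(0,1),(2,1),(0,2),(26,1),(0,2),(2,2),(0,1),(26,1),(0,2),
    (2,2),(0,1)],
   [(146,2),(0,1),(2,2),(0,1),(26,1),(0,2),(2,1),(0,2),(26,2),(0,1),(2,2),(0,1),(26,2),(0,1),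
    (2,2),(0,1)],
   [(146,2),(0,1),(2,1),(0,2),(26,1),(0,2),(2,2),(0,1),(26,2),(0,1),(2,1),(0,2),(26,2),(0,1),
    (2,1),(0,2)],
   [(144,2),(0,2),(2,2),(0,2),(26,1),(0,1),(2,1),(0,1),(26,2),(0,2),(2,2),(0,2),(26,2),(0,2),
    (2,2),(0,2)],
   [(144,1),(0,1),(2,2),(0,2),(26,2),(0,2),(2,1),(0,1),(26,1),(0,1),(2,2),(0,2),(26,1),(0,1),
    (2,2),(0,2)],
   [(146,2),(0,2),(2,2),(0,2),(26,1),(0,1),(2,1),(0,1),(26,2),(0,2),(2,2),(0,2),(26,2),(0,2),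
    (2,2),(0,2)],
   [(146,2),(0,2),(2,1),(0,1),(26,1),(0,1),(2,2),(0,2),(26,2),(0,2),(2,1),(0,1),(26,2),(0,2),
    (2,1),(0,1)],
   [(144,2),(0,1),(2,2),(0,1),(26,1),(0,2),(2,1),(0,2),(26,2),(0,1),(2,2),(0,1),(26,2),(0,1),
    (2,2),(0,1)],
   [(144,1),(0,2),(2,2),(0,1),(26,2),(0,1),(2,1),(0,2),(26,1),(0,2),(2,2),(0,1),(26,1),(0,2),
    (2,2),(0,1)]]

/-- Rows of a matrix. -/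
def matE : List (List (ℕ × ℕ)) :=
  matE0 ++ matE1 ++ matE2 ++ matE3 ++ matE4 ++ matE5 ++ matE6 ++ matE7

/-- Rows of a matrix. -/
def matS0 : List (List (ℕ × ℕ)) :=
  [[(0,1)],
   [(17,2)],
   [(44,1)],
   [(8,1)],
   [(23,2)],
   [(1,1)],
   [(55,2)],
   [(16,2)],
   [(43,1)],
   [(10,1)],
   [(11,1)],
   [(12,1)],
   [(75,1)],
   [(106,1)],
   [(48,2)],
   [(14,1)],
   [(2,2)],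
   [(6,2)],
   [(19,1)],
   [(49,2)],
   [(30,2)],
   [(69,1)],
   [(3,1)],
   [(24,1)],
   [(26,1)],
   [(115,2)],
   [(41,2)],
   [(51,1)],
   [(27,1)],
   [(50,1)],
   [(31,1)]]

/-- Rows of a matrix. -/
def matS1 : List (List (ℕ × ℕ)) :=
  [[(97,2)],
   [(62,2)],
   [(25,1)],
   [(32,2)],
   [(36,1)],
   [(105,1)],
   [(29,1)],
   [(111,1)],
   [(65,1)],
   [(67,1)],
   [(61,2)],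
   [(60,1)],
   [(42,1)],
   [(80,1)],
   [(46,1)],
   [(87,1)],
   [(110,2)],
   [(47,1)],
   [(20,1)],
   [(76,1)],
   [(99,2)],
   [(37,2)],
   [(73,2)],
   [(9,2)],
   [(63,2)],
   [(5,1)],
   [(58,1)],
   [(33,1)],
   [(22,1)],
   [(59,1)],
   [(72,1)]]

/-- Rows of a matrix. -/
def matS2 : List (List (ℕ × ℕ)) :=
  [[(103,1)],
   [(56,1)],
   [(66,1)],
   [(64,1)],
   [(21,2)],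
   [(57,2)],
   [(39,2)],
   [(68,1)],
   [(71,1)],
   [(93,2)],
   [(4,2)],
   [(74,1)],
   [(13,1)],
   [(109,1)],
   [(77,1)],
   [(86,1)],
   [(79,1)],
   [(7,2)],
   [(78,2)],
   [(15,1)],
   [(81,1)],
   [(53,2)],
   [(85,1)],
   [(119,1)],
   [(52,2)],
   [(88,1)],
   [(92,1)],
   [(107,1)],
   [(89,1)],
   [(35,1)],
   [(116,1)]]

/-- Rows of a matrix. -/
def matS3 : List (List (ℕ × ℕ)) :=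
  [[(94,1)],
   [(95,1)],
   [(98,1)],
   [(70,2)],
   [(18,2)],
   [(96,1)],
   [(113,2)],
   [(34,2)],
   [(100,1)],
   [(101,2)],
   [(102,1)],
   [(91,2)],
   [(118,1)],
   [(114,1)],
   [(84,1)],
   [(90,1)],
   [(54,2)],
   [(82,1)],
   [(28,1)],
   [(104,2)],
   [(38,1)],
   [(83,1)],
   [(40,1)],
   [(117,2)],
   [(45,2)],
   [(112,1)],
   [(108,1)],
   [(122,1),(0,2),(2,2),(0,1),(2,1),(0,2),(2,2),(0,1),(34,2),(0,1),(2,1),(0,2),(2,2),(0,1),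
    (2,1),(0,2)],
   [(120,2),(0,2),(2,2),(0,2),(2,2),(0,2),(2,2),(0,2),(34,1),(0,1),(2,1),(0,1),(2,1),(0,1),
    (2,1),(0,1)],
   [(122,1),(0,1),(2,2),(0,2),(2,1),(0,1),(2,2),(0,2),(34,2),(0,2),(2,1),(0,1),(2,2),(0,2),
    (2,1),(0,1)],
   [(120,2),(0,1),(2,2),(0,1),(2,2),(0,1),(2,2),(0,1),(34,1),(0,2),(2,1),(0,2),(2,1),(0,2),
    (2,1),(0,2)]]

/-- Rows of a matrix. -/
def matS4 : List (List (ℕ × ℕ)) :=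
  [[(122,2),(0,1),(2,2),(0,1),(2,2),(0,1),(2,2),(0,1),(34,1),(0,2),(2,1),(0,2),(2,1),(0,2),
    (2,1),(0,2)],
   [(120,2),(0,2),(2,1),(0,1),(2,2),(0,2),(2,1),(0,1),(34,1),(0,1),(2,2),(0,2),(2,1),(0,1),
    (2,2),(0,2)],
   [(122,1),(0,1),(2,1),(0,1),(2,1),(0,1),(2,1),(0,1),(34,2),(0,2),(2,2),(0,2),(2,2),(0,2),
    (2,2),(0,2)],
   [(120,1),(0,2),(2,2),(0,1),(2,1),(0,2),(2,2),(0,1),(34,2),(0,1),(2,1),(0,2),(2,2),(0,1),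
    (2,1),(0,2)],
   [(122,1),(0,2),(2,2),(0,1),(2,1),(0,2),(2,2),(0,1),(34,1),(0,2),(2,2),(0,1),(2,1),(0,2),
    (2,2),(0,1)],
   [(120,2),(0,2),(2,2),(0,2),(2,2),(0,2),(2,2),(0,2),(34,2),(0,2),(2,2),(0,2),(2,2),(0,2),
    (2,2),(0,2)],
   [(122,1),(0,1),(2,2),(0,2),(2,1),(0,1),(2,2),(0,2),(34,1),(0,1),(2,2),(0,2),(2,1),(0,1),
    (2,2),(0,2)],
   [(120,2),(0,1),(2,2),(0,1),(2,2),(0,1),(2,2),(0,1),(34,2),(0,1),(2,2),(0,1),(2,2),(0,1),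
    (2,2),(0,1)],
   [(122,2),(0,1),(2,2),(0,1),(2,2),(0,1),(2,2),(0,1),(34,2),(0,1),(2,2),(0,1),(2,2),(0,1),
    (2,2),(0,1)],
   [(120,2),(0,2),(2,1),(0,1),(2,2),(0,2),(2,1),(0,1),(34,2),(0,2),(2,1),(0,1),(2,2),(0,2),
    (2,1),(0,1)],
   [(122,1),(0,1),(2,1),(0,1),(2,1),(0,1),(2,1),(0,1),(34,1),(0,1),(2,1),(0,1),(2,1),(0,1),
    (2,1),(0,1)],
   [(120,1),(0,2),(2,2),(0,1),(2,1),(0,2),(2,2),(0,1),(34,1),(0,2),(2,2),(0,1),(2,1),(0,2),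
    (2,2),(0,1)],
   [(122,2),(0,1),(2,1),(0,2),(2,1),(0,2),(2,2),(0,1),(34,1),(0,2),(2,2),(0,1),(2,2),(0,1),
    (2,1),(0,2)],
   [(120,1),(0,1),(2,1),(0,1),(2,2),(0,2),(2,2),(0,2),(34,2),(0,2),(2,2),(0,2),(2,1),(0,1),
    (2,1),(0,1)],
   [(122,2),(0,2),(2,1),(0,1),(2,1),(0,1),(2,2),(0,2),(34,1),(0,1),(2,2),(0,2),(2,2),(0,2),
    (2,1),(0,1)],
   [(120,1),(0,2),(2,1),(0,2),(2,2),(0,1),(2,2),(0,1),(34,2),(0,1),(2,2),(0,1),(2,1),(0,2),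
    (2,1),(0,2)],
   [(122,1),(0,2),(2,1),(0,2),(2,2),(0,1),(2,2),(0,1),(34,2),(0,1),(2,2),(0,1),(2,1),(0,2),
    (2,1),(0,2)],
   [(120,1),(0,1),(2,2),(0,2),(2,2),(0,2),(2,1),(0,1),(34,2),(0,2),(2,1),(0,1),(2,1),(0,1),
    (2,2),(0,2)],
   [(122,2),(0,2),(2,2),(0,2),(2,1),(0,1),(2,1),(0,1),(34,1),(0,1),(2,1),(0,1),(2,2),(0,2),
    (2,2),(0,2)],
   [(120,2),(0,1),(2,1),(0,2),(2,1),(0,2),(2,2),(0,1),(34,1),(0,2),(2,2),(0,1),(2,2),(0,1),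
    (2,1),(0,2)],
   [(122,2),(0,1),(2,1),(0,2),(2,1),(0,2),(2,2),(0,1),(34,2),(0,1),(2,1),(0,2),(2,1),(0,2),
    (2,2),(0,1)],
   [(120,1),(0,1),(2,1),(0,1),(2,2),(0,2),(2,2),(0,2),(34,1),(0,1),(2,1),(0,1),(2,2),(0,2),
    (2,2),(0,2)],
   [(122,2),(0,2),(2,1),(0,1),(2,1),(0,1),(2,2),(0,2),(34,2),(0,2),(2,1),(0,1),(2,1),(0,1),
    (2,2),(0,2)],
   [(120,1),(0,2),(2,1),(0,2),(2,2),(0,1),(2,2),(0,1),(34,1),(0,2),(2,1),(0,2),(2,2),(0,1),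
    (2,2),(0,1)],
   [(122,1),(0,2),(2,1),(0,2),(2,2),(0,1),(2,2),(0,1),(34,1),(0,2),(2,1),(0,2),(2,2),(0,1),
    (2,2),(0,1)],
   [(120,1),(0,1),(2,2),(0,2),(2,2),(0,2),(2,1),(0,1),(34,1),(0,1),(2,2),(0,2),(2,2),(0,2),
    (2,1),(0,1)],
   [(122,2),(0,2),(2,2),(0,2),(2,1),(0,1),(2,1),(0,1),(34,2),(0,2),(2,2),(0,2),(2,1),(0,1),
    (2,1),(0,1)],
   [(120,2),(0,1),(2,1),(0,2),(2,1),(0,2),(2,2),(0,1),(34,2),(0,1),(2,1),(0,2),(2,1),(0,2),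
    (2,2),(0,1)],
   [(138,1),(0,2),(2,2),(0,1),(2,1),(0,2),(2,2),(0,1),(2,2),(0,1),(2,1),(0,2),(2,2),(0,1),(2,1),
    (0,2)],
   [(136,2),(0,2),(2,2),(0,2),(2,2),(0,2),(2,2),(0,2),(2,1),(0,1),(2,1),(0,1),(2,1),(0,1),(2,1),
    (0,1)],
   [(138,1),(0,1),(2,2),(0,2),(2,1),(0,1),(2,2),(0,2),(2,2),(0,2),(2,1),(0,1),(2,2),(0,2),(2,1),
    (0,1)]]

/-- Rows of a matrix. -/
def matS5 : List (List (ℕ × ℕ)) :=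
  [[(136,2),(0,1),(2,2),(0,1),(2,2),(0,1),(2,2),(0,1),(2,1),(0,2),(2,1),(0,2),(2,1),(0,2),(2,1),
    (0,2)],
   [(138,2),(0,1),(2,2),(0,1),(2,2),(0,1),(2,2),(0,1),(2,1),(0,2),(2,1),(0,2),(2,1),(0,2),(2,1),
    (0,2)],
   [(136,2),(0,2),(2,1),(0,1),(2,2),(0,2),(2,1),(0,1),(2,1),(0,1),(2,2),(0,2),(2,1),(0,1),(2,2),
    (0,2)],
   [(138,1),(0,1),(2,1),(0,1),(2,1),(0,1),(2,1),(0,1),(2,2),(0,2),(2,2),(0,2),(2,2),(0,2),(2,2),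
    (0,2)],
   [(136,1),(0,2),(2,2),(0,1),(2,1),(0,2),(2,2),(0,1),(2,2),(0,1),(2,1),(0,2),(2,2),(0,1),(2,1),
    (0,2)],
   [(138,1),(0,2),(2,2),(0,1),(2,1),(0,2),(2,2),(0,1),(2,1),(0,2),(2,2),(0,1),(2,1),(0,2),(2,2),
    (0,1)],
   [(136,2),(0,2),(2,2),(0,2),(2,2),(0,2),(2,2),(0,2),(2,2),(0,2),(2,2),(0,2),(2,2),(0,2),(2,2),
    (0,2)],
   [(138,1),(0,1),(2,2),(0,2),(2,1),(0,1),(2,2),(0,2),(2,1),(0,1),(2,2),(0,2),(2,1),(0,1),(2,2),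
    (0,2)],
   [(136,2),(0,1),(2,2),(0,1),(2,2),(0,1),(2,2),(0,1),(2,2),(0,1),(2,2),(0,1),(2,2),(0,1),(2,2),
    (0,1)],
   [(138,2),(0,1),(2,2),(0,1),(2,2),(0,1),(2,2),(0,1),(2,2),(0,1),(2,2),(0,1),(2,2),(0,1),(2,2),
    (0,1)],
   [(136,2),(0,2),(2,1),(0,1),(2,2),(0,2),(2,1),(0,1),(2,2),(0,2),(2,1),(0,1),(2,2),(0,2),(2,1),
    (0,1)],
   [(138,1),(0,1),(2,1),(0,1),(2,1),(0,1),(2,1),(0,1),(2,1),(0,1),(2,1),(0,1),(2,1),(0,1),(2,1),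
    (0,1)],
   [(136,1),(0,2),(2,2),(0,1),(2,1),(0,2),(2,2),(0,1),(2,1),(0,2),(2,2),(0,1),(2,1),(0,2),(2,2),
    (0,1)],
   [(138,2),(0,1),(2,1),(0,2),(2,1),(0,2),(2,2),(0,1),(2,1),(0,2),(2,2),(0,1),(2,2),(0,1),(2,1),
    (0,2)],
   [(136,1),(0,1),(2,1),(0,1),(2,2),(0,2),(2,2),(0,2),(2,2),(0,2),(2,2),(0,2),(2,1),(0,1),(2,1),
    (0,1)],
   [(138,2),(0,2),(2,1),(0,1),(2,1),(0,1),(2,2),(0,2),(2,1),(0,1),(2,2),(0,2),(2,2),(0,2),(2,1),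
    (0,1)],
   [(136,1),(0,2),(2,1),(0,2),(2,2),(0,1),(2,2),(0,1),(2,2),(0,1),(2,2),(0,1),(2,1),(0,2),(2,1),
    (0,2)],
   [(138,1),(0,2),(2,1),(0,2),(2,2),(0,1),(2,2),(0,1),(2,2),(0,1),(2,2),(0,1),(2,1),(0,2),(2,1),
    (0,2)],
   [(136,1),(0,1),(2,2),(0,2),(2,2),(0,2),(2,1),(0,1),(2,2),(0,2),(2,1),(0,1),(2,1),(0,1),(2,2),
    (0,2)],
   [(138,2),(0,2),(2,2),(0,2),(2,1),(0,1),(2,1),(0,1),(2,1),(0,1),(2,1),(0,1),(2,2),(0,2),(2,2),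
    (0,2)],
   [(136,2),(0,1),(2,1),(0,2),(2,1),(0,2),(2,2),(0,1),(2,1),(0,2),(2,2),(0,1),(2,2),(0,1),(2,1),
    (0,2)],
   [(138,2),(0,1),(2,1),(0,2),(2,1),(0,2),(2,2),(0,1),(2,2),(0,1),(2,1),(0,2),(2,1),(0,2),(2,2),
    (0,1)],
   [(136,1),(0,1),(2,1),(0,1),(2,2),(0,2),(2,2),(0,2),(2,1),(0,1),(2,1),(0,1),(2,2),(0,2),(2,2),
    (0,2)],
   [(138,2),(0,2),(2,1),(0,1),(2,1),(0,1),(2,2),(0,2),(2,2),(0,2),(2,1),(0,1),(2,1),(0,1),(2,2),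
    (0,2)],
   [(136,1),(0,2),(2,1),(0,2),(2,2),(0,1),(2,2),(0,1),(2,1),(0,2),(2,1),(0,2),(2,2),(0,1),(2,2),
    (0,1)],
   [(138,1),(0,2),(2,1),(0,2),(2,2),(0,1),(2,2),(0,1),(2,1),(0,2),(2,1),(0,2),(2,2),(0,1),(2,2),
    (0,1)],
   [(136,1),(0,1),(2,2),(0,2),(2,2),(0,2),(2,1),(0,1),(2,1),(0,1),(2,2),(0,2),(2,2),(0,2),(2,1),
    (0,1)],
   [(138,2),(0,2),(2,2),(0,2),(2,1),(0,1),(2,1),(0,1),(2,2),(0,2),(2,2),(0,2),(2,1),(0,1),(2,1),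
    (0,1)],
   [(136,2),(0,1),(2,1),(0,2),(2,1),(0,2),(2,2),(0,1),(2,2),(0,1),(2,1),(0,2),(2,1),(0,2),(2,2),
    (0,1)],
   [(186,1),(0,2),(2,2),(0,1),(2,1),(0,2),(2,2),(0,1),(34,2),(0,1),(2,1),(0,2),(2,2),(0,1),
    (2,1),(0,2)],
   [(184,2),(0,2),(2,2),(0,2),(2,2),(0,2),(2,2),(0,2),(34,1),(0,1),(2,1),(0,1),(2,1),(0,1),
    (2,1),(0,1)]]

/-- Rows of a matrix. -/
def matS6 : List (List (ℕ × ℕ)) :=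
  [[(186,1),(0,1),(2,2),(0,2),(2,1),(0,1),(2,2),(0,2),(34,2),(0,2),(2,1),(0,1),(2,2),(0,2),
    (2,1),(0,1)],
   [(184,2),(0,1),(2,2),(0,1),(2,2),(0,1),(2,2),(0,1),(34,1),(0,2),(2,1),(0,2),(2,1),(0,2),
    (2,1),(0,2)],
   [(186,2),(0,1),(2,2),(0,1),(2,2),(0,1),(2,2),(0,1),(34,1),(0,2),(2,1),(0,2),(2,1),(0,2),
    (2,1),(0,2)],
   [(184,2),(0,2),(2,1),(0,1),(2,2),(0,2),(2,1),(0,1),(34,1),(0,1),(2,2),(0,2),(2,1),(0,1),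
    (2,2),(0,2)],
   [(186,1),(0,1),(2,1),(0,1),(2,1),(0,1),(2,1),(0,1),(34,2),(0,2),(2,2),(0,2),(2,2),(0,2),
    (2,2),(0,2)],
   [(184,1),(0,2),(2,2),(0,1),(2,1),(0,2),(2,2),(0,1),(34,2),(0,1),(2,1),(0,2),(2,2),(0,1),
    (2,1),(0,2)],
   [(186,1),(0,2),(2,2),(0,1),(2,1),(0,2),(2,2),(0,1),(34,1),(0,2),(2,2),(0,1),(2,1),(0,2),
    (2,2),(0,1)],
   [(184,2),(0,2),(2,2),(0,2),(2,2),(0,2),(2,2),(0,2),(34,2),(0,2),(2,2),(0,2),(2,2),(0,2),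
    (2,2),(0,2)],
   [(186,1),(0,1),(2,2),(0,2),(2,1),(0,1),(2,2),(0,2),(34,1),(0,1),(2,2),(0,2),(2,1),(0,1),
    (2,2),(0,2)],
   [(184,2),(0,1),(2,2),(0,1),(2,2),(0,1),(2,2),(0,1),(34,2),(0,1),(2,2),(0,1),(2,2),(0,1),
    (2,2),(0,1)],
   [(186,2),(0,1),(2,2),(0,1),(2,2),(0,1),(2,2),(0,1),(34,2),(0,1),(2,2),(0,1),(2,2),(0,1),
    (2,2),(0,1)],
   [(184,2),(0,2),(2,1),(0,1),(2,2),(0,2),(2,1),(0,1),(34,2),(0,2),(2,1),(0,1),(2,2),(0,2),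
    (2,1),(0,1)],
   [(186,1),(0,1),(2,1),(0,1),(2,1),(0,1),(2,1),(0,1),(34,1),(0,1),(2,1),(0,1),(2,1),(0,1),
    (2,1),(0,1)],
   [(184,1),(0,2),(2,2),(0,1),(2,1),(0,2),(2,2),(0,1),(34,1),(0,2),(2,2),(0,1),(2,1),(0,2),
    (2,2),(0,1)],
   [(186,2),(0,1),(2,1),(0,2),(2,1),(0,2),(2,2),(0,1),(34,1),(0,2),(2,2),(0,1),(2,2),(0,1),
    (2,1),(0,2)],
   [(184,1),(0,1),(2,1),(0,1),(2,2),(0,2),(2,2),(0,2),(34,2),(0,2),(2,2),(0,2),(2,1),(0,1),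
    (2,1),(0,1)],
   [(186,2),(0,2),(2,1),(0,1),(2,1),(0,1),(2,2),(0,2),(34,1),(0,1),(2,2),(0,2),(2,2),(0,2),
    (2,1),(0,1)],
   [(184,1),(0,2),(2,1),(0,2),(2,2),(0,1),(2,2),(0,1),(34,2),(0,1),(2,2),(0,1),(2,1),(0,2),
    (2,1),(0,2)],
   [(186,1),(0,2),(2,1),(0,2),(2,2),(0,1),(2,2),(0,1),(34,2),(0,1),(2,2),(0,1),(2,1),(0,2),
    (2,1),(0,2)],
   [(184,1),(0,1),(2,2),(0,2),(2,2),(0,2),(2,1),(0,1),(34,2),(0,2),(2,1),(0,1),(2,1),(0,1),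
    (2,2),(0,2)],
   [(186,2),(0,2),(2,2),(0,2),(2,1),(0,1),(2,1),(0,1),(34,1),(0,1),(2,1),(0,1),(2,2),(0,2),
    (2,2),(0,2)],
   [(184,2),(0,1),(2,1),(0,2),(2,1),(0,2),(2,2),(0,1),(34,1),(0,2),(2,2),(0,1),(2,2),(0,1),
    (2,1),(0,2)],
   [(186,2),(0,1),(2,1),(0,2),(2,1),(0,2),(2,2),(0,1),(34,2),(0,1),(2,1),(0,2),(2,1),(0,2),
    (2,2),(0,1)],
   [(184,1),(0,1),(2,1),(0,1),(2,2),(0,2),(2,2),(0,2),(34,1),(0,1),(2,1),(0,1),(2,2),(0,2),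
    (2,2),(0,2)],
   [(186,2),(0,2),(2,1),(0,1),(2,1),(0,1),(2,2),(0,2),(34,2),(0,2),(2,1),(0,1),(2,1),(0,1),
    (2,2),(0,2)],
   [(184,1),(0,2),(2,1),(0,2),(2,2),(0,1),(2,2),(0,1),(34,1),(0,2),(2,1),(0,2),(2,2),(0,1),
    (2,2),(0,1)],
   [(186,1),(0,2),(2,1),(0,2),(2,2),(0,1),(2,2),(0,1),(34,1),(0,2),(2,1),(0,2),(2,2),(0,1),
    (2,2),(0,1)],
   [(184,1),(0,1),(2,2),(0,2),(2,2),(0,2),(2,1),(0,1),(34,1),(0,1),(2,2),(0,2),(2,2),(0,2),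
    (2,1),(0,1)],
   [(186,2),(0,2),(2,2),(0,2),(2,1),(0,1),(2,1),(0,1),(34,2),(0,2),(2,2),(0,2),(2,1),(0,1),
    (2,1),(0,1)],
   [(184,2),(0,1),(2,1),(0,2),(2,1),(0,2),(2,2),(0,1),(34,2),(0,1),(2,1),(0,2),(2,1),(0,2),
    (2,2),(0,1)],
   [(202,1),(0,2),(2,2),(0,1),(2,1),(0,2),(2,2),(0,1),(2,2),(0,1),(2,1),(0,2),(2,2),(0,1),(2,1),
    (0,2)]]

/-- Rows of a matrix. -/
def matS7 : List (List (ℕ × ℕ)) :=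
  [[(200,2),(0,2),(2,2),(0,2),(2,2),(0,2),(2,2),(0,2),(2,1),(0,1),(2,1),(0,1),(2,1),(0,1),(2,1),
    (0,1)],
   [(202,1),(0,1),(2,2),(0,2),(2,1),(0,1),(2,2),(0,2),(2,2),(0,2),(2,1),(0,1),(2,2),(0,2),(2,1),
    (0,1)],
   [(200,2),(0,1),(2,2),(0,1),(2,2),(0,1),(2,2),(0,1),(2,1),(0,2),(2,1),(0,2),(2,1),(0,2),(2,1),
    (0,2)],
   [(202,2),(0,1),(2,2),(0,1),(2,2),(0,1),(2,2),(0,1),(2,1),(0,2),(2,1),(0,2),(2,1),(0,2),(2,1),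
    (0,2)],
   [(200,2),(0,2),(2,1),(0,1),(2,2),(0,2),(2,1),(0,1),(2,1),(0,1),(2,2),(0,2),(2,1),(0,1),(2,2),
    (0,2)],
   [(202,1),(0,1),(2,1),(0,1),(2,1),(0,1),(2,1),(0,1),(2,2),(0,2),(2,2),(0,2),(2,2),(0,2),(2,2),
    (0,2)],
   [(200,1),(0,2),(2,2),(0,1),(2,1),(0,2),(2,2),(0,1),(2,2),(0,1),(2,1),(0,2),(2,2),(0,1),(2,1),
    (0,2)],
   [(202,1),(0,2),(2,2),(0,1),(2,1),(0,2),(2,2),(0,1),(2,1),(0,2),(2,2),(0,1),(2,1),(0,2),(2,2),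
    (0,1)],
   [(200,2),(0,2),(2,2),(0,2),(2,2),(0,2),(2,2),(0,2),(2,2),(0,2),(2,2),(0,2),(2,2),(0,2),(2,2),
    (0,2)],
   [(202,1),(0,1),(2,2),(0,2),(2,1),(0,1),(2,2),(0,2),(2,1),(0,1),(2,2),(0,2),(2,1),(0,1),(2,2),
    (0,2)],
   [(200,2),(0,1),(2,2),(0,1),(2,2),(0,1),(2,2),(0,1),(2,2),(0,1),(2,2),(0,1),(2,2),(0,1),(2,2),
    (0,1)],
   [(202,2),(0,1),(2,2),(0,1),(2,2),(0,1),(2,2),(0,1),(2,2),(0,1),(2,2),(0,1),(2,2),(0,1),(2,2),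
    (0,1)],
   [(200,2),(0,2),(2,1),(0,1),(2,2),(0,2),(2,1),(0,1),(2,2),(0,2),(2,1),(0,1),(2,2),(0,2),(2,1),
    (0,1)],
   [(202,1),(0,1),(2,1),(0,1),(2,1),(0,1),(2,1),(0,1),(2,1),(0,1),(2,1),(0,1),(2,1),(0,1),(2,1),
    (0,1)],
   [(200,1),(0,2),(2,2),(0,1),(2,1),(0,2),(2,2),(0,1),(2,1),(0,2),(2,2),(0,1),(2,1),(0,2),(2,2),
    (0,1)],
   [(202,2),(0,1),(2,1),(0,2),(2,1),(0,2),(2,2),(0,1),(2,1),(0,2),(2,2),(0,1),(2,2),(0,1),(2,1),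
    (0,2)],
   [(200,1),(0,1),(2,1),(0,1),(2,2),(0,2),(2,2),(0,2),(2,2),(0,2),(2,2),(0,2),(2,1),(0,1),(2,1),
    (0,1)],
   [(202,2),(0,2),(2,1),(0,1),(2,1),(0,1),(2,2),(0,2),(2,1),(0,1),(2,2),(0,2),(2,2),(0,2),(2,1),
    (0,1)],
   [(200,1),(0,2),(2,1),(0,2),(2,2),(0,1),(2,2),(0,1),(2,2),(0,1),(2,2),(0,1),(2,1),(0,2),(2,1),
    (0,2)],
   [(202,1),(0,2),(2,1),(0,2),(2,2),(0,1),(2,2),(0,1),(2,2),(0,1),(2,2),(0,1),(2,1),(0,2),(2,1),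
    (0,2)],
   [(200,1),(0,1),(2,2),(0,2),(2,2),(0,2),(2,1),(0,1),(2,2),(0,2),(2,1),(0,1),(2,1),(0,1),(2,2),
    (0,2)],
   [(202,2),(0,2),(2,2),(0,2),(2,1),(0,1),(2,1),(0,1),(2,1),(0,1),(2,1),(0,1),(2,2),(0,2),(2,2),
    (0,2)],
   [(200,2),(0,1),(2,1),(0,2),(2,1),(0,2),(2,2),(0,1),(2,1),(0,2),(2,2),(0,1),(2,2),(0,1),(2,1),
    (0,2)],
   [(202,2),(0,1),(2,1),(0,2),(2,1),(0,2),(2,2),(0,1),(2,2),(0,1),(2,1),(0,2),(2,1),(0,2),(2,2),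
    (0,1)],
   [(200,1),(0,1),(2,1),(0,1),(2,2),(0,2),(2,2),(0,2),(2,1),(0,1),(2,1),(0,1),(2,2),(0,2),(2,2),
    (0,2)],
   [(202,2),(0,2),(2,1),(0,1),(2,1),(0,1),(2,2),(0,2),(2,2),(0,2),(2,1),(0,1),(2,1),(0,1),(2,2),
    (0,2)],
   [(200,1),(0,2),(2,1),(0,2),(2,2),(0,1),(2,2),(0,1),(2,1),(0,2),(2,1),(0,2),(2,2),(0,1),(2,2),
    (0,1)],
   [(202,1),(0,2),(2,1),(0,2),(2,2),(0,1),(2,2),(0,1),(2,1),(0,2),(2,1),(0,2),(2,2),(0,1),(2,2),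
    (0,1)],
   [(200,1),(0,1),(2,2),(0,2),(2,2),(0,2),(2,1),(0,1),(2,1),(0,1),(2,2),(0,2),(2,2),(0,2),(2,1),
    (0,1)],
   [(202,2),(0,2),(2,2),(0,2),(2,1),(0,1),(2,1),(0,1),(2,2),(0,2),(2,2),(0,2),(2,1),(0,1),(2,1),
    (0,1)],
   [(200,2),(0,1),(2,1),(0,2),(2,1),(0,2),(2,2),(0,1),(2,2),(0,1),(2,1),(0,2),(2,1),(0,2),(2,2),
    (0,1)]]

/-- Rows of a matrix. -/
def matS : List (List (ℕ × ℕ)) :=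
  matS0 ++ matS1 ++ matS2 ++ matS3 ++ matS4 ++ matS5 ++ matS6 ++ matS7

/-- Rows of a matrix. -/
def matSi0 : List (List (ℕ × ℕ)) :=
  [[(0,1)],
   [(5,1)],
   [(16,2)],
   [(22,1)],
   [(72,2)],
   [(56,1)],
   [(17,2)],
   [(79,2)],
   [(3,1)],
   [(54,2)],
   [(9,1)],
   [(10,1)],
   [(11,1)],
   [(74,1)],
   [(15,1)],
   [(81,1)],
   [(7,2)],
   [(1,2)],
   [(97,2)],
   [(18,1)],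
   [(49,1)],
   [(66,2)],
   [(59,1)],
   [(4,2)],
   [(23,1)],
   [(33,1)],
   [(24,1)],
   [(28,1)],
   [(111,1)],
   [(37,1)],
   [(20,2)]]

/-- Rows of a matrix. -/
def matSi1 : List (List (ℕ × ℕ)) :=
  [[(30,1)],
   [(34,2)],
   [(58,1)],
   [(100,2)],
   [(91,1)],
   [(35,1)],
   [(52,2)],
   [(113,1)],
   [(68,2)],
   [(115,1)],
   [(26,2)],
   [(43,1)],
   [(8,1)],
   [(2,1)],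
   [(117,2)],
   [(45,1)],
   [(48,1)],
   [(14,2)],
   [(19,2)],
   [(29,1)],
   [(27,1)],
   [(86,2)],
   [(83,2)],
   [(109,2)],
   [(6,2)],
   [(63,1)],
   [(67,2)],
   [(57,1)],
   [(60,1)],
   [(42,1)],
   [(41,2)]]

/-- Rows of a matrix. -/
def matSi2 : List (List (ℕ × ℕ)) :=
  [[(32,2)],
   [(55,2)],
   [(65,1)],
   [(39,1)],
   [(64,1)],
   [(40,1)],
   [(69,1)],
   [(21,1)],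
   [(96,2)],
   [(70,1)],
   [(61,1)],
   [(53,2)],
   [(73,1)],
   [(12,1)],
   [(50,1)],
   [(76,1)],
   [(80,2)],
   [(78,1)],
   [(44,1)],
   [(82,1)],
   [(110,1)],
   [(114,1)],
   [(107,1)],
   [(84,1)],
   [(77,1)],
   [(46,1)],
   [(87,1)],
   [(90,1)],
   [(108,1)],
   [(104,2)],
   [(88,1)]]

/-- Rows of a matrix. -/
def matSi3 : List (List (ℕ × ℕ)) :=
  [[(71,2)],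
   [(93,1)],
   [(94,1)],
   [(98,1)],
   [(31,2)],
   [(95,1)],
   [(51,2)],
   [(101,1)],
   [(102,2)],
   [(103,1)],
   [(62,1)],
   [(112,2)],
   [(36,1)],
   [(13,1)],
   [(89,1)],
   [(119,1)],
   [(75,1)],
   [(47,2)],
   [(38,1)],
   [(118,1)],
   [(99,2)],
   [(106,1)],
   [(25,2)],
   [(92,1)],
   [(116,2)],
   [(105,1)],
   [(85,1)],
   [(121,2),(1,2),(1,2),(1,1),(1,2),(1,2),(1,2),(1,1),(1,1),(1,1),(1,1),(1,2),(1,1),(1,1),(1,1),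
    (1,2)],
   [(121,2),(1,1),(1,2),(1,2),(1,2),(1,1),(1,2),(1,2),(1,1),(1,2),(1,1),(1,1),(1,1),(1,2),(1,1),
    (1,1)],
   [(120,1),(1,1),(1,2),(1,1),(1,1),(1,1),(1,2),(1,1),(1,2),(1,2),(1,1),(1,2),(1,2),(1,2),(1,1),
    (1,2)],
   [(120,2),(1,1),(1,1),(1,1),(1,2),(1,1),(1,1),(1,1),(1,1),(1,2),(1,2),(1,2),(1,1),(1,2),(1,2),
    (1,2)]]

/-- Rows of a matrix. -/
def matSi4 : List (List (ℕ × ℕ)) :=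
  [[(121,2),(1,2),(1,1),(1,2),(1,2),(1,2),(1,1),(1,2),(1,1),(1,1),(1,2),(1,1),(1,1),(1,1),(1,2),
    (1,1)],
   [(121,2),(1,1),(1,1),(1,1),(1,2),(1,1),(1,1),(1,1),(1,1),(1,2),(1,2),(1,2),(1,1),(1,2),(1,2),
    (1,2)],
   [(120,2),(1,2),(1,2),(1,1),(1,2),(1,2),(1,2),(1,1),(1,1),(1,1),(1,1),(1,2),(1,1),(1,1),(1,1),
    (1,2)],
   [(120,1),(1,2),(1,1),(1,1),(1,1),(1,2),(1,1),(1,1),(1,2),(1,1),(1,2),(1,2),(1,2),(1,1),(1,2),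
    (1,2)],
   [(121,2),(1,2),(1,2),(1,1),(1,2),(1,2),(1,2),(1,1),(1,2),(1,2),(1,2),(1,1),(1,2),(1,2),(1,2),
    (1,1)],
   [(121,2),(1,1),(1,2),(1,2),(1,2),(1,1),(1,2),(1,2),(1,2),(1,1),(1,2),(1,2),(1,2),(1,1),(1,2),
    (1,2)],
   [(120,1),(1,1),(1,2),(1,1),(1,1),(1,1),(1,2),(1,1),(1,1),(1,1),(1,2),(1,1),(1,1),(1,1),(1,2),
    (1,1)],
   [(120,2),(1,1),(1,1),(1,1),(1,2),(1,1),(1,1),(1,1),(1,2),(1,1),(1,1),(1,1),(1,2),(1,1),(1,1),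
    (1,1)],
   [(121,2),(1,2),(1,1),(1,2),(1,2),(1,2),(1,1),(1,2),(1,2),(1,2),(1,1),(1,2),(1,2),(1,2),(1,1),
    (1,2)],
   [(121,2),(1,1),(1,1),(1,1),(1,2),(1,1),(1,1),(1,1),(1,2),(1,1),(1,1),(1,1),(1,2),(1,1),(1,1),
    (1,1)],
   [(120,2),(1,2),(1,2),(1,1),(1,2),(1,2),(1,2),(1,1),(1,2),(1,2),(1,2),(1,1),(1,2),(1,2),(1,2),
    (1,1)],
   [(120,1),(1,2),(1,1),(1,1),(1,1),(1,2),(1,1),(1,1),(1,1),(1,2),(1,1),(1,1),(1,1),(1,2),(1,1),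
    (1,1)],
   [(153,2),(1,2),(1,2),(1,1),(1,2),(1,2),(1,2),(1,1),(1,1),(1,1),(1,1),(1,2),(1,1),(1,1),(1,1),
    (1,2)],
   [(153,2),(1,1),(1,2),(1,2),(1,2),(1,1),(1,2),(1,2),(1,1),(1,2),(1,1),(1,1),(1,1),(1,2),(1,1),
    (1,1)],
   [(152,1),(1,1),(1,2),(1,1),(1,1),(1,1),(1,2),(1,1),(1,2),(1,2),(1,1),(1,2),(1,2),(1,2),(1,1),
    (1,2)],
   [(152,2),(1,1),(1,1),(1,1),(1,2),(1,1),(1,1),(1,1),(1,1),(1,2),(1,2),(1,2),(1,1),(1,2),(1,2),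
    (1,2)],
   [(153,2),(1,2),(1,1),(1,2),(1,2),(1,2),(1,1),(1,2),(1,1),(1,1),(1,2),(1,1),(1,1),(1,1),(1,2),
    (1,1)],
   [(153,2),(1,1),(1,1),(1,1),(1,2),(1,1),(1,1),(1,1),(1,1),(1,2),(1,2),(1,2),(1,1),(1,2),(1,2),
    (1,2)],
   [(152,2),(1,2),(1,2),(1,1),(1,2),(1,2),(1,2),(1,1),(1,1),(1,1),(1,1),(1,2),(1,1),(1,1),(1,1),
    (1,2)],
   [(152,1),(1,2),(1,1),(1,1),(1,1),(1,2),(1,1),(1,1),(1,2),(1,1),(1,2),(1,2),(1,2),(1,1),(1,2),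
    (1,2)],
   [(153,2),(1,2),(1,2),(1,1),(1,2),(1,2),(1,2),(1,1),(1,2),(1,2),(1,2),(1,1),(1,2),(1,2),(1,2),
    (1,1)],
   [(153,2),(1,1),(1,2),(1,2),(1,2),(1,1),(1,2),(1,2),(1,2),(1,1),(1,2),(1,2),(1,2),(1,1),(1,2),
    (1,2)],
   [(152,1),(1,1),(1,2),(1,1),(1,1),(1,1),(1,2),(1,1),(1,1),(1,1),(1,2),(1,1),(1,1),(1,1),(1,2),
    (1,1)],
   [(152,2),(1,1),(1,1),(1,1),(1,2),(1,1),(1,1),(1,1),(1,2),(1,1),(1,1),(1,1),(1,2),(1,1),(1,1),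
    (1,1)],
   [(153,2),(1,2),(1,1),(1,2),(1,2),(1,2),(1,1),(1,2),(1,2),(1,2),(1,1),(1,2),(1,2),(1,2),(1,1),
    (1,2)],
   [(153,2),(1,1),(1,1),(1,1),(1,2),(1,1),(1,1),(1,1),(1,2),(1,1),(1,1),(1,1),(1,2),(1,1),(1,1),
    (1,1)],
   [(152,2),(1,2),(1,2),(1,1),(1,2),(1,2),(1,2),(1,1),(1,2),(1,2),(1,2),(1,1),(1,2),(1,2),(1,2),
    (1,1)],
   [(152,1),(1,2),(1,1),(1,1),(1,1),(1,2),(1,1),(1,1),(1,1),(1,2),(1,1),(1,1),(1,1),(1,2),(1,1),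
    (1,1)],
   [(153,1),(1,1),(1,1),(1,2),(1,2),(1,2),(1,2),(1,1),(1,2),(1,2),(1,2),(1,1),(1,1),(1,1),(1,1),
    (1,2)],
   [(153,1),(1,2),(1,1),(1,1),(1,2),(1,1),(1,2),(1,2),(1,2),(1,1),(1,2),(1,2),(1,1),(1,2),(1,1),
    (1,1)],
   [(152,2),(1,2),(1,1),(1,2),(1,1),(1,1),(1,2),(1,1),(1,1),(1,1),(1,2),(1,1),(1,2),(1,2),(1,1),
    (1,2)]]

/-- Rows of a matrix. -/
def matSi5 : List (List (ℕ × ℕ)) :=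
  [[(152,1),(1,2),(1,2),(1,2),(1,2),(1,1),(1,1),(1,1),(1,2),(1,1),(1,1),(1,1),(1,1),(1,2),(1,2),
    (1,2)],
   [(153,1),(1,1),(1,2),(1,1),(1,2),(1,2),(1,1),(1,2),(1,2),(1,2),(1,1),(1,2),(1,1),(1,1),(1,2),
    (1,1)],
   [(153,1),(1,2),(1,2),(1,2),(1,2),(1,1),(1,1),(1,1),(1,2),(1,1),(1,1),(1,1),(1,1),(1,2),(1,2),
    (1,2)],
   [(152,1),(1,1),(1,1),(1,2),(1,2),(1,2),(1,2),(1,1),(1,2),(1,2),(1,2),(1,1),(1,1),(1,1),(1,1),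
    (1,2)],
   [(152,2),(1,1),(1,2),(1,2),(1,1),(1,2),(1,1),(1,1),(1,1),(1,2),(1,1),(1,1),(1,2),(1,1),(1,2),
    (1,2)],
   [(153,1),(1,1),(1,1),(1,2),(1,2),(1,2),(1,2),(1,1),(1,1),(1,1),(1,1),(1,2),(1,2),(1,2),(1,2),
    (1,1)],
   [(153,1),(1,2),(1,1),(1,1),(1,2),(1,1),(1,2),(1,2),(1,1),(1,2),(1,1),(1,1),(1,2),(1,1),(1,2),
    (1,2)],
   [(152,2),(1,2),(1,1),(1,2),(1,1),(1,1),(1,2),(1,1),(1,2),(1,2),(1,1),(1,2),(1,1),(1,1),(1,2),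
    (1,1)],
   [(152,1),(1,2),(1,2),(1,2),(1,2),(1,1),(1,1),(1,1),(1,1),(1,2),(1,2),(1,2),(1,2),(1,1),(1,1),
    (1,1)],
   [(153,1),(1,1),(1,2),(1,1),(1,2),(1,2),(1,1),(1,2),(1,1),(1,1),(1,2),(1,1),(1,2),(1,2),(1,1),
    (1,2)],
   [(153,1),(1,2),(1,2),(1,2),(1,2),(1,1),(1,1),(1,1),(1,1),(1,2),(1,2),(1,2),(1,2),(1,1),(1,1),
    (1,1)],
   [(152,1),(1,1),(1,1),(1,2),(1,2),(1,2),(1,2),(1,1),(1,1),(1,1),(1,1),(1,2),(1,2),(1,2),(1,2),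
    (1,1)],
   [(152,2),(1,1),(1,2),(1,2),(1,1),(1,2),(1,1),(1,1),(1,2),(1,1),(1,2),(1,2),(1,1),(1,2),(1,1),
    (1,1)],
   [(121,1),(1,1),(1,1),(1,2),(1,2),(1,2),(1,2),(1,1),(1,2),(1,2),(1,2),(1,1),(1,1),(1,1),(1,1),
    (1,2)],
   [(121,1),(1,2),(1,1),(1,1),(1,2),(1,1),(1,2),(1,2),(1,2),(1,1),(1,2),(1,2),(1,1),(1,2),(1,1),
    (1,1)],
   [(120,2),(1,2),(1,1),(1,2),(1,1),(1,1),(1,2),(1,1),(1,1),(1,1),(1,2),(1,1),(1,2),(1,2),(1,1),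
    (1,2)],
   [(120,1),(1,2),(1,2),(1,2),(1,2),(1,1),(1,1),(1,1),(1,2),(1,1),(1,1),(1,1),(1,1),(1,2),(1,2),
    (1,2)],
   [(121,1),(1,1),(1,2),(1,1),(1,2),(1,2),(1,1),(1,2),(1,2),(1,2),(1,1),(1,2),(1,1),(1,1),(1,2),
    (1,1)],
   [(121,1),(1,2),(1,2),(1,2),(1,2),(1,1),(1,1),(1,1),(1,2),(1,1),(1,1),(1,1),(1,1),(1,2),(1,2),
    (1,2)],
   [(120,1),(1,1),(1,1),(1,2),(1,2),(1,2),(1,2),(1,1),(1,2),(1,2),(1,2),(1,1),(1,1),(1,1),(1,1),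
    (1,2)],
   [(120,2),(1,1),(1,2),(1,2),(1,1),(1,2),(1,1),(1,1),(1,1),(1,2),(1,1),(1,1),(1,2),(1,1),(1,2),
    (1,2)],
   [(121,1),(1,1),(1,1),(1,2),(1,2),(1,2),(1,2),(1,1),(1,1),(1,1),(1,1),(1,2),(1,2),(1,2),(1,2),
    (1,1)],
   [(121,1),(1,2),(1,1),(1,1),(1,2),(1,1),(1,2),(1,2),(1,1),(1,2),(1,1),(1,1),(1,2),(1,1),(1,2),
    (1,2)],
   [(120,2),(1,2),(1,1),(1,2),(1,1),(1,1),(1,2),(1,1),(1,2),(1,2),(1,1),(1,2),(1,1),(1,1),(1,2),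
    (1,1)],
   [(120,1),(1,2),(1,2),(1,2),(1,2),(1,1),(1,1),(1,1),(1,1),(1,2),(1,2),(1,2),(1,2),(1,1),(1,1),
    (1,1)],
   [(121,1),(1,1),(1,2),(1,1),(1,2),(1,2),(1,1),(1,2),(1,1),(1,1),(1,2),(1,1),(1,2),(1,2),(1,1),
    (1,2)],
   [(121,1),(1,2),(1,2),(1,2),(1,2),(1,1),(1,1),(1,1),(1,1),(1,2),(1,2),(1,2),(1,2),(1,1),(1,1),
    (1,1)],
   [(120,1),(1,1),(1,1),(1,2),(1,2),(1,2),(1,2),(1,1),(1,1),(1,1),(1,1),(1,2),(1,2),(1,2),(1,2),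
    (1,1)],
   [(120,2),(1,1),(1,2),(1,2),(1,1),(1,2),(1,1),(1,1),(1,2),(1,1),(1,2),(1,2),(1,1),(1,2),(1,1),
    (1,1)],
   [(185,2),(1,2),(1,2),(1,1),(1,2),(1,2),(1,2),(1,1),(1,1),(1,1),(1,1),(1,2),(1,1),(1,1),(1,1),
    (1,2)],
   [(185,2),(1,1),(1,2),(1,2),(1,2),(1,1),(1,2),(1,2),(1,1),(1,2),(1,1),(1,1),(1,1),(1,2),(1,1),
    (1,1)]]

/-- Rows of a matrix. -/
def matSi6 : List (List (ℕ × ℕ)) :=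
  [[(184,1),(1,1),(1,2),(1,1),(1,1),(1,1),(1,2),(1,1),(1,2),(1,2),(1,1),(1,2),(1,2),(1,2),(1,1),
    (1,2)],
   [(184,2),(1,1),(1,1),(1,1),(1,2),(1,1),(1,1),(1,1),(1,1),(1,2),(1,2),(1,2),(1,1),(1,2),(1,2),
    (1,2)],
   [(185,2),(1,2),(1,1),(1,2),(1,2),(1,2),(1,1),(1,2),(1,1),(1,1),(1,2),(1,1),(1,1),(1,1),(1,2),
    (1,1)],
   [(185,2),(1,1),(1,1),(1,1),(1,2),(1,1),(1,1),(1,1),(1,1),(1,2),(1,2),(1,2),(1,1),(1,2),(1,2),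
    (1,2)],
   [(184,2),(1,2),(1,2),(1,1),(1,2),(1,2),(1,2),(1,1),(1,1),(1,1),(1,1),(1,2),(1,1),(1,1),(1,1),
    (1,2)],
   [(184,1),(1,2),(1,1),(1,1),(1,1),(1,2),(1,1),(1,1),(1,2),(1,1),(1,2),(1,2),(1,2),(1,1),(1,2),
    (1,2)],
   [(185,2),(1,2),(1,2),(1,1),(1,2),(1,2),(1,2),(1,1),(1,2),(1,2),(1,2),(1,1),(1,2),(1,2),(1,2),
    (1,1)],
   [(185,2),(1,1),(1,2),(1,2),(1,2),(1,1),(1,2),(1,2),(1,2),(1,1),(1,2),(1,2),(1,2),(1,1),(1,2),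
    (1,2)],
   [(184,1),(1,1),(1,2),(1,1),(1,1),(1,1),(1,2),(1,1),(1,1),(1,1),(1,2),(1,1),(1,1),(1,1),(1,2),
    (1,1)],
   [(184,2),(1,1),(1,1),(1,1),(1,2),(1,1),(1,1),(1,1),(1,2),(1,1),(1,1),(1,1),(1,2),(1,1),(1,1),
    (1,1)],
   [(185,2),(1,2),(1,1),(1,2),(1,2),(1,2),(1,1),(1,2),(1,2),(1,2),(1,1),(1,2),(1,2),(1,2),(1,1),
    (1,2)],
   [(185,2),(1,1),(1,1),(1,1),(1,2),(1,1),(1,1),(1,1),(1,2),(1,1),(1,1),(1,1),(1,2),(1,1),(1,1),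
    (1,1)],
   [(184,2),(1,2),(1,2),(1,1),(1,2),(1,2),(1,2),(1,1),(1,2),(1,2),(1,2),(1,1),(1,2),(1,2),(1,2),
    (1,1)],
   [(184,1),(1,2),(1,1),(1,1),(1,1),(1,2),(1,1),(1,1),(1,1),(1,2),(1,1),(1,1),(1,1),(1,2),(1,1),
    (1,1)],
   [(217,2),(1,2),(1,2),(1,1),(1,2),(1,2),(1,2),(1,1),(1,1),(1,1),(1,1),(1,2),(1,1),(1,1),(1,1),
    (1,2)],
   [(217,2),(1,1),(1,2),(1,2),(1,2),(1,1),(1,2),(1,2),(1,1),(1,2),(1,1),(1,1),(1,1),(1,2),(1,1),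
    (1,1)],
   [(216,1),(1,1),(1,2),(1,1),(1,1),(1,1),(1,2),(1,1),(1,2),(1,2),(1,1),(1,2),(1,2),(1,2),(1,1),
    (1,2)],
   [(216,2),(1,1),(1,1),(1,1),(1,2),(1,1),(1,1),(1,1),(1,1),(1,2),(1,2),(1,2),(1,1),(1,2),(1,2),
    (1,2)],
   [(217,2),(1,2),(1,1),(1,2),(1,2),(1,2),(1,1),(1,2),(1,1),(1,1),(1,2),(1,1),(1,1),(1,1),(1,2),
    (1,1)],
   [(217,2),(1,1),(1,1),(1,1),(1,2),(1,1),(1,1),(1,1),(1,1),(1,2),(1,2),(1,2),(1,1),(1,2),(1,2),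
    (1,2)],
   [(216,2),(1,2),(1,2),(1,1),(1,2),(1,2),(1,2),(1,1),(1,1),(1,1),(1,1),(1,2),(1,1),(1,1),(1,1),
    (1,2)],
   [(216,1),(1,2),(1,1),(1,1),(1,1),(1,2),(1,1),(1,1),(1,2),(1,1),(1,2),(1,2),(1,2),(1,1),(1,2),
    (1,2)],
   [(217,2),(1,2),(1,2),(1,1),(1,2),(1,2),(1,2),(1,1),(1,2),(1,2),(1,2),(1,1),(1,2),(1,2),(1,2),
    (1,1)],
   [(217,2),(1,1),(1,2),(1,2),(1,2),(1,1),(1,2),(1,2),(1,2),(1,1),(1,2),(1,2),(1,2),(1,1),(1,2),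
    (1,2)],
   [(216,1),(1,1),(1,2),(1,1),(1,1),(1,1),(1,2),(1,1),(1,1),(1,1),(1,2),(1,1),(1,1),(1,1),(1,2),
    (1,1)],
   [(216,2),(1,1),(1,1),(1,1),(1,2),(1,1),(1,1),(1,1),(1,2),(1,1),(1,1),(1,1),(1,2),(1,1),(1,1),
    (1,1)],
   [(217,2),(1,2),(1,1),(1,2),(1,2),(1,2),(1,1),(1,2),(1,2),(1,2),(1,1),(1,2),(1,2),(1,2),(1,1),
    (1,2)],
   [(217,2),(1,1),(1,1),(1,1),(1,2),(1,1),(1,1),(1,1),(1,2),(1,1),(1,1),(1,1),(1,2),(1,1),(1,1),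
    (1,1)],
   [(216,2),(1,2),(1,2),(1,1),(1,2),(1,2),(1,2),(1,1),(1,2),(1,2),(1,2),(1,1),(1,2),(1,2),(1,2),
    (1,1)],
   [(216,1),(1,2),(1,1),(1,1),(1,1),(1,2),(1,1),(1,1),(1,1),(1,2),(1,1),(1,1),(1,1),(1,2),(1,1),
    (1,1)],
   [(217,1),(1,1),(1,1),(1,2),(1,2),(1,2),(1,2),(1,1),(1,2),(1,2),(1,2),(1,1),(1,1),(1,1),(1,1),
    (1,2)]]

/-- Rows of a matrix. -/
def matSi7 : List (List (ℕ × ℕ)) :=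
  [[(217,1),(1,2),(1,1),(1,1),(1,2),(1,1),(1,2),(1,2),(1,2),(1,1),(1,2),(1,2),(1,1),(1,2),(1,1),
    (1,1)],
   [(216,2),(1,2),(1,1),(1,2),(1,1),(1,1),(1,2),(1,1),(1,1),(1,1),(1,2),(1,1),(1,2),(1,2),(1,1),
    (1,2)],
   [(216,1),(1,2),(1,2),(1,2),(1,2),(1,1),(1,1),(1,1),(1,2),(1,1),(1,1),(1,1),(1,1),(1,2),(1,2),
    (1,2)],
   [(217,1),(1,1),(1,2),(1,1),(1,2),(1,2),(1,1),(1,2),(1,2),(1,2),(1,1),(1,2),(1,1),(1,1),(1,2),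
    (1,1)],
   [(217,1),(1,2),(1,2),(1,2),(1,2),(1,1),(1,1),(1,1),(1,2),(1,1),(1,1),(1,1),(1,1),(1,2),(1,2),
    (1,2)],
   [(216,1),(1,1),(1,1),(1,2),(1,2),(1,2),(1,2),(1,1),(1,2),(1,2),(1,2),(1,1),(1,1),(1,1),(1,1),
    (1,2)],
   [(216,2),(1,1),(1,2),(1,2),(1,1),(1,2),(1,1),(1,1),(1,1),(1,2),(1,1),(1,1),(1,2),(1,1),(1,2),
    (1,2)],
   [(217,1),(1,1),(1,1),(1,2),(1,2),(1,2),(1,2),(1,1),(1,1),(1,1),(1,1),(1,2),(1,2),(1,2),(1,2),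
    (1,1)],
   [(217,1),(1,2),(1,1),(1,1),(1,2),(1,1),(1,2),(1,2),(1,1),(1,2),(1,1),(1,1),(1,2),(1,1),(1,2),
    (1,2)],
   [(216,2),(1,2),(1,1),(1,2),(1,1),(1,1),(1,2),(1,1),(1,2),(1,2),(1,1),(1,2),(1,1),(1,1),(1,2),
    (1,1)],
   [(216,1),(1,2),(1,2),(1,2),(1,2),(1,1),(1,1),(1,1),(1,1),(1,2),(1,2),(1,2),(1,2),(1,1),(1,1),
    (1,1)],
   [(217,1),(1,1),(1,2),(1,1),(1,2),(1,2),(1,1),(1,2),(1,1),(1,1),(1,2),(1,1),(1,2),(1,2),(1,1),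
    (1,2)],
   [(217,1),(1,2),(1,2),(1,2),(1,2),(1,1),(1,1),(1,1),(1,1),(1,2),(1,2),(1,2),(1,2),(1,1),(1,1),
    (1,1)],
   [(216,1),(1,1),(1,1),(1,2),(1,2),(1,2),(1,2),(1,1),(1,1),(1,1),(1,1),(1,2),(1,2),(1,2),(1,2),
    (1,1)],
   [(216,2),(1,1),(1,2),(1,2),(1,1),(1,2),(1,1),(1,1),(1,2),(1,1),(1,2),(1,2),(1,1),(1,2),(1,1),
    (1,1)],
   [(185,1),(1,1),(1,1),(1,2),(1,2),(1,2),(1,2),(1,1),(1,2),(1,2),(1,2),(1,1),(1,1),(1,1),(1,1),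
    (1,2)],
   [(185,1),(1,2),(1,1),(1,1),(1,2),(1,1),(1,2),(1,2),(1,2),(1,1),(1,2),(1,2),(1,1),(1,2),(1,1),
    (1,1)],
   [(184,2),(1,2),(1,1),(1,2),(1,1),(1,1),(1,2),(1,1),(1,1),(1,1),(1,2),(1,1),(1,2),(1,2),(1,1),
    (1,2)],
   [(184,1),(1,2),(1,2),(1,2),(1,2),(1,1),(1,1),(1,1),(1,2),(1,1),(1,1),(1,1),(1,1),(1,2),(1,2),
    (1,2)],
   [(185,1),(1,1),(1,2),(1,1),(1,2),(1,2),(1,1),(1,2),(1,2),(1,2),(1,1),(1,2),(1,1),(1,1),(1,2),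
    (1,1)],
   [(185,1),(1,2),(1,2),(1,2),(1,2),(1,1),(1,1),(1,1),(1,2),(1,1),(1,1),(1,1),(1,1),(1,2),(1,2),
    (1,2)],
   [(184,1),(1,1),(1,1),(1,2),(1,2),(1,2),(1,2),(1,1),(1,2),(1,2),(1,2),(1,1),(1,1),(1,1),(1,1),
    (1,2)],
   [(184,2),(1,1),(1,2),(1,2),(1,1),(1,2),(1,1),(1,1),(1,1),(1,2),(1,1),(1,1),(1,2),(1,1),(1,2),
    (1,2)],
   [(185,1),(1,1),(1,1),(1,2),(1,2),(1,2),(1,2),(1,1),(1,1),(1,1),(1,1),(1,2),(1,2),(1,2),(1,2),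
    (1,1)],
   [(185,1),(1,2),(1,1),(1,1),(1,2),(1,1),(1,2),(1,2),(1,1),(1,2),(1,1),(1,1),(1,2),(1,1),(1,2),
    (1,2)],
   [(184,2),(1,2),(1,1),(1,2),(1,1),(1,1),(1,2),(1,1),(1,2),(1,2),(1,1),(1,2),(1,1),(1,1),(1,2),
    (1,1)],
   [(184,1),(1,2),(1,2),(1,2),(1,2),(1,1),(1,1),(1,1),(1,1),(1,2),(1,2),(1,2),(1,2),(1,1),(1,1),
    (1,1)],
   [(185,1),(1,1),(1,2),(1,1),(1,2),(1,2),(1,1),(1,2),(1,1),(1,1),(1,2),(1,1),(1,2),(1,2),(1,1),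
    (1,2)],
   [(185,1),(1,2),(1,2),(1,2),(1,2),(1,1),(1,1),(1,1),(1,1),(1,2),(1,2),(1,2),(1,2),(1,1),(1,1),
    (1,1)],
   [(184,1),(1,1),(1,1),(1,2),(1,2),(1,2),(1,2),(1,1),(1,1),(1,1),(1,1),(1,2),(1,2),(1,2),(1,2),
    (1,1)],
   [(184,2),(1,1),(1,2),(1,2),(1,1),(1,2),(1,1),(1,1),(1,2),(1,1),(1,2),(1,2),(1,1),(1,2),(1,1),
    (1,1)]]

/-- Rows of a matrix. -/
def matSi : List (List (ℕ × ℕ)) :=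
  matSi0 ++ matSi1 ++ matSi2 ++ matSi3 ++ matSi4 ++ matSi5 ++ matSi6 ++ matSi7

/-- Rows of a matrix. -/
def matT0 : List (List (ℕ × ℕ)) :=
  [[(0,1)],
   [(1,1)],
   [(2,1)],
   [(3,1)],
   [(4,1)],
   [(56,1)],
   [(63,1)],
   [(78,2)],
   [(43,1)],
   [(33,2)],
   [(115,1)],
   [(67,1)],
   [(58,2)],
   [(86,1)],
   [(117,2)],
   [(92,1)],
   [(7,2)],
   [(6,2)],
   [(101,1)],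
   [(34,2)],
   [(102,1)],
   [(12,2)],
   [(59,1)],
   [(24,1)],
   [(41,2)],
   [(65,2)],
   [(72,1)],
   [(13,1)],
   [(73,1)],
   [(28,1)],
   [(100,1)]]

/-- Rows of a matrix. -/
def matT1 : List (List (ℕ × ℕ)) :=
  [[(32,1)],
   [(95,2)],
   [(68,1)],
   [(93,1)],
   [(35,1)],
   [(105,1)],
   [(38,1)],
   [(106,1)],
   [(11,1)],
   [(69,2)],
   [(23,2)],
   [(22,1)],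
   [(60,1)],
   [(80,1)],
   [(108,1)],
   [(89,1)],
   [(88,2)],
   [(46,2)],
   [(62,1)],
   [(51,1)],
   [(114,1)],
   [(99,1)],
   [(52,1)],
   [(57,1)],
   [(5,2)],
   [(55,2)],
   [(64,2)],
   [(21,1)],
   [(42,1)],
   [(8,1)],
   [(26,1)]]

/-- Rows of a matrix. -/
def matT2 : List (List (ℕ × ℕ)) :=
  [[(96,1)],
   [(17,2)],
   [(54,2)],
   [(75,1)],
   [(10,1)],
   [(39,1)],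
   [(9,2)],
   [(109,2)],
   [(30,1)],
   [(97,2)],
   [(61,1)],
   [(29,1)],
   [(76,1)],
   [(25,2)],
   [(113,1)],
   [(111,1)],
   [(16,1)],
   [(44,2)],
   [(79,2)],
   [(87,1)],
   [(45,1)],
   [(77,1)],
   [(81,1)],
   [(14,1)],
   [(27,1)],
   [(84,1)],
   [(119,1)],
   [(48,2)],
   [(15,1)],
   [(104,2)],
   [(90,1)]]

/-- Rows of a matrix. -/
def matT3 : List (List (ℕ × ℕ)) :=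
  [[(19,2)],
   [(20,1)],
   [(31,2)],
   [(49,1)],
   [(103,1)],
   [(18,2)],
   [(53,1)],
   [(70,1)],
   [(98,2)],
   [(94,1)],
   [(71,2)],
   [(118,2)],
   [(112,1)],
   [(37,1)],
   [(110,1)],
   [(82,1)],
   [(40,1)],
   [(116,1)],
   [(83,1)],
   [(36,1)],
   [(74,1)],
   [(50,1)],
   [(66,1)],
   [(107,1)],
   [(85,2)],
   [(91,1)],
   [(47,2)],
   [(120,1),(2,2),(0,1),(2,2),(0,1),(2,2),(0,1),(2,2),(0,1),(2,2),(0,1),(2,2),(0,2),(2,1),(0,2),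
    (2,1)],
   [(120,2),(2,2),(0,2),(2,2),(0,2),(2,2),(0,2),(2,2),(0,2),(2,2),(0,2),(2,2),(0,1),(2,1),(0,1),
    (2,1)],
   [(120,1),(2,1),(0,2),(2,2),(0,1),(2,1),(0,2),(2,2),(0,1),(2,1),(0,2),(2,2),(0,2),(2,2),(0,1),
    (2,1)],
   [(120,2),(2,1),(0,1),(2,2),(0,2),(2,1),(0,1),(2,2),(0,2),(2,1),(0,1),(2,2),(0,1),(2,2),(0,2),
    (2,1)]]

/-- Rows of a matrix. -/
def matT4 : List (List (ℕ × ℕ)) :=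
  [[(121,2),(0,1),(2,1),(0,2),(2,2),(0,1),(2,1),(0,2),(2,2),(0,1),(2,1),(0,2),(2,1),(0,2),(2,2),
    (0,1)],
   [(121,2),(0,2),(2,1),(0,1),(2,2),(0,2),(2,1),(0,1),(2,2),(0,2),(2,1),(0,1),(2,1),(0,1),(2,2),
    (0,2)],
   [(121,1),(0,1),(2,1),(0,1),(2,1),(0,1),(2,1),(0,1),(2,1),(0,1),(2,1),(0,1),(2,2),(0,2),(2,2),
    (0,2)],
   [(121,1),(0,2),(2,1),(0,2),(2,1),(0,2),(2,1),(0,2),(2,1),(0,2),(2,1),(0,2),(2,2),(0,1),(2,2),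
    (0,1)],
   [(120,1),(2,2),(0,1),(2,2),(0,1),(2,2),(0,1),(2,2),(0,2),(2,1),(0,2),(2,1),(0,1),(2,2),(0,1),
    (2,2)],
   [(120,2),(2,2),(0,2),(2,2),(0,2),(2,2),(0,2),(2,2),(0,1),(2,1),(0,1),(2,1),(0,2),(2,2),(0,2),
    (2,2)],
   [(120,1),(2,1),(0,2),(2,2),(0,1),(2,1),(0,2),(2,2),(0,2),(2,2),(0,1),(2,1),(0,1),(2,1),(0,2),
    (2,2)],
   [(120,2),(2,1),(0,1),(2,2),(0,2),(2,1),(0,1),(2,2),(0,1),(2,2),(0,2),(2,1),(0,2),(2,1),(0,1),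
    (2,2)],
   [(121,2),(0,1),(2,1),(0,2),(2,2),(0,1),(2,1),(0,2),(2,1),(0,2),(2,2),(0,1),(2,2),(0,1),(2,1),
    (0,2)],
   [(121,2),(0,2),(2,1),(0,1),(2,2),(0,2),(2,1),(0,1),(2,1),(0,1),(2,2),(0,2),(2,2),(0,2),(2,1),
    (0,1)],
   [(121,1),(0,1),(2,1),(0,1),(2,1),(0,1),(2,1),(0,1),(2,2),(0,2),(2,2),(0,2),(2,1),(0,1),(2,1),
    (0,1)],
   [(121,1),(0,2),(2,1),(0,2),(2,1),(0,2),(2,1),(0,2),(2,2),(0,1),(2,2),(0,1),(2,1),(0,2),(2,1),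
    (0,2)],
   [(120,2),(2,1),(0,2),(2,1),(0,1),(2,2),(0,1),(2,2),(0,2),(2,1),(0,2),(2,1),(0,2),(2,1),(0,2),
    (2,1)],
   [(120,1),(2,1),(0,1),(2,1),(0,2),(2,2),(0,2),(2,2),(0,1),(2,1),(0,1),(2,1),(0,1),(2,1),(0,1),
    (2,1)],
   [(120,2),(2,2),(0,1),(2,1),(0,1),(2,1),(0,2),(2,2),(0,2),(2,2),(0,1),(2,1),(0,2),(2,2),(0,1),
    (2,1)],
   [(120,1),(2,2),(0,2),(2,1),(0,2),(2,1),(0,1),(2,2),(0,1),(2,2),(0,2),(2,1),(0,1),(2,2),(0,2),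
    (2,1)],
   [(121,1),(0,2),(2,2),(0,1),(2,2),(0,1),(2,1),(0,2),(2,1),(0,2),(2,2),(0,1),(2,1),(0,2),(2,2),
    (0,1)],
   [(121,1),(0,1),(2,2),(0,2),(2,2),(0,2),(2,1),(0,1),(2,1),(0,1),(2,2),(0,2),(2,1),(0,1),(2,2),
    (0,2)],
   [(121,2),(0,2),(2,2),(0,2),(2,1),(0,1),(2,1),(0,1),(2,2),(0,2),(2,2),(0,2),(2,2),(0,2),(2,2),
    (0,2)],
   [(121,2),(0,1),(2,2),(0,1),(2,1),(0,2),(2,1),(0,2),(2,2),(0,1),(2,2),(0,1),(2,2),(0,1),(2,2),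
    (0,1)],
   [(120,2),(2,1),(0,2),(2,1),(0,1),(2,2),(0,1),(2,2),(0,1),(2,2),(0,1),(2,2),(0,1),(2,2),(0,1),
    (2,2)],
   [(120,1),(2,1),(0,1),(2,1),(0,2),(2,2),(0,2),(2,2),(0,2),(2,2),(0,2),(2,2),(0,2),(2,2),(0,2),
    (2,2)],
   [(120,2),(2,2),(0,1),(2,1),(0,1),(2,1),(0,2),(2,2),(0,1),(2,1),(0,2),(2,2),(0,1),(2,1),(0,2),
    (2,2)],
   [(120,1),(2,2),(0,2),(2,1),(0,2),(2,1),(0,1),(2,2),(0,2),(2,1),(0,1),(2,2),(0,2),(2,1),(0,1),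
    (2,2)],
   [(121,1),(0,2),(2,2),(0,1),(2,2),(0,1),(2,1),(0,2),(2,2),(0,1),(2,1),(0,2),(2,2),(0,1),(2,1),
    (0,2)],
   [(121,1),(0,1),(2,2),(0,2),(2,2),(0,2),(2,1),(0,1),(2,2),(0,2),(2,1),(0,1),(2,2),(0,2),(2,1),
    (0,1)],
   [(121,2),(0,2),(2,2),(0,2),(2,1),(0,1),(2,1),(0,1),(2,1),(0,1),(2,1),(0,1),(2,1),(0,1),(2,1),
    (0,1)],
   [(121,2),(0,1),(2,2),(0,1),(2,1),(0,2),(2,1),(0,2),(2,1),(0,2),(2,1),(0,2),(2,1),(0,2),(2,1),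
    (0,2)],
   [(152,1),(2,2),(0,1),(2,2),(0,1),(2,2),(0,1),(2,2),(0,1),(2,2),(0,1),(2,2),(0,2),(2,1),(0,2),
    (2,1)],
   [(152,2),(2,2),(0,2),(2,2),(0,2),(2,2),(0,2),(2,2),(0,2),(2,2),(0,2),(2,2),(0,1),(2,1),(0,1),
    (2,1)],
   [(152,1),(2,1),(0,2),(2,2),(0,1),(2,1),(0,2),(2,2),(0,1),(2,1),(0,2),(2,2),(0,2),(2,2),(0,1),
    (2,1)]]

/-- Rows of a matrix. -/
def matT5 : List (List (ℕ × ℕ)) :=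
  [[(152,2),(2,1),(0,1),(2,2),(0,2),(2,1),(0,1),(2,2),(0,2),(2,1),(0,1),(2,2),(0,1),(2,2),(0,2),
    (2,1)],
   [(153,2),(0,1),(2,1),(0,2),(2,2),(0,1),(2,1),(0,2),(2,2),(0,1),(2,1),(0,2),(2,1),(0,2),(2,2),
    (0,1)],
   [(153,2),(0,2),(2,1),(0,1),(2,2),(0,2),(2,1),(0,1),(2,2),(0,2),(2,1),(0,1),(2,1),(0,1),(2,2),
    (0,2)],
   [(153,1),(0,1),(2,1),(0,1),(2,1),(0,1),(2,1),(0,1),(2,1),(0,1),(2,1),(0,1),(2,2),(0,2),(2,2),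
    (0,2)],
   [(153,1),(0,2),(2,1),(0,2),(2,1),(0,2),(2,1),(0,2),(2,1),(0,2),(2,1),(0,2),(2,2),(0,1),(2,2),
    (0,1)],
   [(152,1),(2,2),(0,1),(2,2),(0,1),(2,2),(0,1),(2,2),(0,2),(2,1),(0,2),(2,1),(0,1),(2,2),(0,1),
    (2,2)],
   [(152,2),(2,2),(0,2),(2,2),(0,2),(2,2),(0,2),(2,2),(0,1),(2,1),(0,1),(2,1),(0,2),(2,2),(0,2),
    (2,2)],
   [(152,1),(2,1),(0,2),(2,2),(0,1),(2,1),(0,2),(2,2),(0,2),(2,2),(0,1),(2,1),(0,1),(2,1),(0,2),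
    (2,2)],
   [(152,2),(2,1),(0,1),(2,2),(0,2),(2,1),(0,1),(2,2),(0,1),(2,2),(0,2),(2,1),(0,2),(2,1),(0,1),
    (2,2)],
   [(153,2),(0,1),(2,1),(0,2),(2,2),(0,1),(2,1),(0,2),(2,1),(0,2),(2,2),(0,1),(2,2),(0,1),(2,1),
    (0,2)],
   [(153,2),(0,2),(2,1),(0,1),(2,2),(0,2),(2,1),(0,1),(2,1),(0,1),(2,2),(0,2),(2,2),(0,2),(2,1),
    (0,1)],
   [(153,1),(0,1),(2,1),(0,1),(2,1),(0,1),(2,1),(0,1),(2,2),(0,2),(2,2),(0,2),(2,1),(0,1),(2,1),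
    (0,1)],
   [(153,1),(0,2),(2,1),(0,2),(2,1),(0,2),(2,1),(0,2),(2,2),(0,1),(2,2),(0,1),(2,1),(0,2),(2,1),
    (0,2)],
   [(152,2),(2,1),(0,2),(2,1),(0,1),(2,2),(0,1),(2,2),(0,2),(2,1),(0,2),(2,1),(0,2),(2,1),(0,2),
    (2,1)],
   [(152,1),(2,1),(0,1),(2,1),(0,2),(2,2),(0,2),(2,2),(0,1),(2,1),(0,1),(2,1),(0,1),(2,1),(0,1),
    (2,1)],
   [(152,2),(2,2),(0,1),(2,1),(0,1),(2,1),(0,2),(2,2),(0,2),(2,2),(0,1),(2,1),(0,2),(2,2),(0,1),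
    (2,1)],
   [(152,1),(2,2),(0,2),(2,1),(0,2),(2,1),(0,1),(2,2),(0,1),(2,2),(0,2),(2,1),(0,1),(2,2),(0,2),
    (2,1)],
   [(153,1),(0,2),(2,2),(0,1),(2,2),(0,1),(2,1),(0,2),(2,1),(0,2),(2,2),(0,1),(2,1),(0,2),(2,2),
    (0,1)],
   [(153,1),(0,1),(2,2),(0,2),(2,2),(0,2),(2,1),(0,1),(2,1),(0,1),(2,2),(0,2),(2,1),(0,1),(2,2),
    (0,2)],
   [(153,2),(0,2),(2,2),(0,2),(2,1),(0,1),(2,1),(0,1),(2,2),(0,2),(2,2),(0,2),(2,2),(0,2),(2,2),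
    (0,2)],
   [(153,2),(0,1),(2,2),(0,1),(2,1),(0,2),(2,1),(0,2),(2,2),(0,1),(2,2),(0,1),(2,2),(0,1),(2,2),
    (0,1)],
   [(152,2),(2,1),(0,2),(2,1),(0,1),(2,2),(0,1),(2,2),(0,1),(2,2),(0,1),(2,2),(0,1),(2,2),(0,1),
    (2,2)],
   [(152,1),(2,1),(0,1),(2,1),(0,2),(2,2),(0,2),(2,2),(0,2),(2,2),(0,2),(2,2),(0,2),(2,2),(0,2),
    (2,2)],
   [(152,2),(2,2),(0,1),(2,1),(0,1),(2,1),(0,2),(2,2),(0,1),(2,1),(0,2),(2,2),(0,1),(2,1),(0,2),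
    (2,2)],
   [(152,1),(2,2),(0,2),(2,1),(0,2),(2,1),(0,1),(2,2),(0,2),(2,1),(0,1),(2,2),(0,2),(2,1),(0,1),
    (2,2)],
   [(153,1),(0,2),(2,2),(0,1),(2,2),(0,1),(2,1),(0,2),(2,2),(0,1),(2,1),(0,2),(2,2),(0,1),(2,1),
    (0,2)],
   [(153,1),(0,1),(2,2),(0,2),(2,2),(0,2),(2,1),(0,1),(2,2),(0,2),(2,1),(0,1),(2,2),(0,2),(2,1),
    (0,1)],
   [(153,2),(0,2),(2,2),(0,2),(2,1),(0,1),(2,1),(0,1),(2,1),(0,1),(2,1),(0,1),(2,1),(0,1),(2,1),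
    (0,1)],
   [(153,2),(0,1),(2,2),(0,1),(2,1),(0,2),(2,1),(0,2),(2,1),(0,2),(2,1),(0,2),(2,1),(0,2),(2,1),
    (0,2)],
   [(184,1),(2,2),(0,1),(2,2),(0,1),(2,2),(0,1),(2,2),(0,1),(2,2),(0,1),(2,2),(0,2),(2,1),(0,2),
    (2,1)],
   [(184,2),(2,2),(0,2),(2,2),(0,2),(2,2),(0,2),(2,2),(0,2),(2,2),(0,2),(2,2),(0,1),(2,1),(0,1),
    (2,1)]]

/-- Rows of a matrix. -/
def matT6 : List (List (ℕ × ℕ)) :=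
  [[(184,1),(2,1),(0,2),(2,2),(0,1),(2,1),(0,2),(2,2),(0,1),(2,1),(0,2),(2,2),(0,2),(2,2),(0,1),
    (2,1)],
   [(184,2),(2,1),(0,1),(2,2),(0,2),(2,1),(0,1),(2,2),(0,2),(2,1),(0,1),(2,2),(0,1),(2,2),(0,2),
    (2,1)],
   [(185,2),(0,1),(2,1),(0,2),(2,2),(0,1),(2,1),(0,2),(2,2),(0,1),(2,1),(0,2),(2,1),(0,2),(2,2),
    (0,1)],
   [(185,2),(0,2),(2,1),(0,1),(2,2),(0,2),(2,1),(0,1),(2,2),(0,2),(2,1),(0,1),(2,1),(0,1),(2,2),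
    (0,2)],
   [(185,1),(0,1),(2,1),(0,1),(2,1),(0,1),(2,1),(0,1),(2,1),(0,1),(2,1),(0,1),(2,2),(0,2),(2,2),
    (0,2)],
   [(185,1),(0,2),(2,1),(0,2),(2,1),(0,2),(2,1),(0,2),(2,1),(0,2),(2,1),(0,2),(2,2),(0,1),(2,2),
    (0,1)],
   [(184,1),(2,2),(0,1),(2,2),(0,1),(2,2),(0,1),(2,2),(0,2),(2,1),(0,2),(2,1),(0,1),(2,2),(0,1),
    (2,2)],
   [(184,2),(2,2),(0,2),(2,2),(0,2),(2,2),(0,2),(2,2),(0,1),(2,1),(0,1),(2,1),(0,2),(2,2),(0,2),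
    (2,2)],
   [(184,1),(2,1),(0,2),(2,2),(0,1),(2,1),(0,2),(2,2),(0,2),(2,2),(0,1),(2,1),(0,1),(2,1),(0,2),
    (2,2)],
   [(184,2),(2,1),(0,1),(2,2),(0,2),(2,1),(0,1),(2,2),(0,1),(2,2),(0,2),(2,1),(0,2),(2,1),(0,1),
    (2,2)],
   [(185,2),(0,1),(2,1),(0,2),(2,2),(0,1),(2,1),(0,2),(2,1),(0,2),(2,2),(0,1),(2,2),(0,1),(2,1),
    (0,2)],
   [(185,2),(0,2),(2,1),(0,1),(2,2),(0,2),(2,1),(0,1),(2,1),(0,1),(2,2),(0,2),(2,2),(0,2),(2,1),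
    (0,1)],
   [(185,1),(0,1),(2,1),(0,1),(2,1),(0,1),(2,1),(0,1),(2,2),(0,2),(2,2),(0,2),(2,1),(0,1),(2,1),
    (0,1)],
   [(185,1),(0,2),(2,1),(0,2),(2,1),(0,2),(2,1),(0,2),(2,2),(0,1),(2,2),(0,1),(2,1),(0,2),(2,1),
    (0,2)],
   [(184,2),(2,1),(0,2),(2,1),(0,1),(2,2),(0,1),(2,2),(0,2),(2,1),(0,2),(2,1),(0,2),(2,1),(0,2),
    (2,1)],
   [(184,1),(2,1),(0,1),(2,1),(0,2),(2,2),(0,2),(2,2),(0,1),(2,1),(0,1),(2,1),(0,1),(2,1),(0,1),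
    (2,1)],
   [(184,2),(2,2),(0,1),(2,1),(0,1),(2,1),(0,2),(2,2),(0,2),(2,2),(0,1),(2,1),(0,2),(2,2),(0,1),
    (2,1)],
   [(184,1),(2,2),(0,2),(2,1),(0,2),(2,1),(0,1),(2,2),(0,1),(2,2),(0,2),(2,1),(0,1),(2,2),(0,2),
    (2,1)],
   [(185,1),(0,2),(2,2),(0,1),(2,2),(0,1),(2,1),(0,2),(2,1),(0,2),(2,2),(0,1),(2,1),(0,2),(2,2),
    (0,1)],
   [(185,1),(0,1),(2,2),(0,2),(2,2),(0,2),(2,1),(0,1),(2,1),(0,1),(2,2),(0,2),(2,1),(0,1),(2,2),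
    (0,2)],
   [(185,2),(0,2),(2,2),(0,2),(2,1),(0,1),(2,1),(0,1),(2,2),(0,2),(2,2),(0,2),(2,2),(0,2),(2,2),
    (0,2)],
   [(185,2),(0,1),(2,2),(0,1),(2,1),(0,2),(2,1),(0,2),(2,2),(0,1),(2,2),(0,1),(2,2),(0,1),(2,2),
    (0,1)],
   [(184,2),(2,1),(0,2),(2,1),(0,1),(2,2),(0,1),(2,2),(0,1),(2,2),(0,1),(2,2),(0,1),(2,2),(0,1),
    (2,2)],
   [(184,1),(2,1),(0,1),(2,1),(0,2),(2,2),(0,2),(2,2),(0,2),(2,2),(0,2),(2,2),(0,2),(2,2),(0,2),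
    (2,2)],
   [(184,2),(2,2),(0,1),(2,1),(0,1),(2,1),(0,2),(2,2),(0,1),(2,1),(0,2),(2,2),(0,1),(2,1),(0,2),
    (2,2)],
   [(184,1),(2,2),(0,2),(2,1),(0,2),(2,1),(0,1),(2,2),(0,2),(2,1),(0,1),(2,2),(0,2),(2,1),(0,1),
    (2,2)],
   [(185,1),(0,2),(2,2),(0,1),(2,2),(0,1),(2,1),(0,2),(2,2),(0,1),(2,1),(0,2),(2,2),(0,1),(2,1),
    (0,2)],
   [(185,1),(0,1),(2,2),(0,2),(2,2),(0,2),(2,1),(0,1),(2,2),(0,2),(2,1),(0,1),(2,2),(0,2),(2,1),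
    (0,1)],
   [(185,2),(0,2),(2,2),(0,2),(2,1),(0,1),(2,1),(0,1),(2,1),(0,1),(2,1),(0,1),(2,1),(0,1),(2,1),
    (0,1)],
   [(185,2),(0,1),(2,2),(0,1),(2,1),(0,2),(2,1),(0,2),(2,1),(0,2),(2,1),(0,2),(2,1),(0,2),(2,1),
    (0,2)],
   [(216,1),(2,2),(0,1),(2,2),(0,1),(2,2),(0,1),(2,2),(0,1),(2,2),(0,1),(2,2),(0,2),(2,1),(0,2),
    (2,1)]]

/-- Rows of a matrix. -/
def matT7 : List (List (ℕ × ℕ)) :=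
  [[(216,2),(2,2),(0,2),(2,2),(0,2),(2,2),(0,2),(2,2),(0,2),(2,2),(0,2),(2,2),(0,1),(2,1),(0,1),
    (2,1)],
   [(216,1),(2,1),(0,2),(2,2),(0,1),(2,1),(0,2),(2,2),(0,1),(2,1),(0,2),(2,2),(0,2),(2,2),(0,1),
    (2,1)],
   [(216,2),(2,1),(0,1),(2,2),(0,2),(2,1),(0,1),(2,2),(0,2),(2,1),(0,1),(2,2),(0,1),(2,2),(0,2),
    (2,1)],
   [(217,2),(0,1),(2,1),(0,2),(2,2),(0,1),(2,1),(0,2),(2,2),(0,1),(2,1),(0,2),(2,1),(0,2),(2,2),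
    (0,1)],
   [(217,2),(0,2),(2,1),(0,1),(2,2),(0,2),(2,1),(0,1),(2,2),(0,2),(2,1),(0,1),(2,1),(0,1),(2,2),
    (0,2)],
   [(217,1),(0,1),(2,1),(0,1),(2,1),(0,1),(2,1),(0,1),(2,1),(0,1),(2,1),(0,1),(2,2),(0,2),(2,2),
    (0,2)],
   [(217,1),(0,2),(2,1),(0,2),(2,1),(0,2),(2,1),(0,2),(2,1),(0,2),(2,1),(0,2),(2,2),(0,1),(2,2),
    (0,1)],
   [(216,1),(2,2),(0,1),(2,2),(0,1),(2,2),(0,1),(2,2),(0,2),(2,1),(0,2),(2,1),(0,1),(2,2),(0,1),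
    (2,2)],
   [(216,2),(2,2),(0,2),(2,2),(0,2),(2,2),(0,2),(2,2),(0,1),(2,1),(0,1),(2,1),(0,2),(2,2),(0,2),
    (2,2)],
   [(216,1),(2,1),(0,2),(2,2),(0,1),(2,1),(0,2),(2,2),(0,2),(2,2),(0,1),(2,1),(0,1),(2,1),(0,2),
    (2,2)],
   [(216,2),(2,1),(0,1),(2,2),(0,2),(2,1),(0,1),(2,2),(0,1),(2,2),(0,2),(2,1),(0,2),(2,1),(0,1),
    (2,2)],
   [(217,2),(0,1),(2,1),(0,2),(2,2),(0,1),(2,1),(0,2),(2,1),(0,2),(2,2),(0,1),(2,2),(0,1),(2,1),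
    (0,2)],
   [(217,2),(0,2),(2,1),(0,1),(2,2),(0,2),(2,1),(0,1),(2,1),(0,1),(2,2),(0,2),(2,2),(0,2),(2,1),
    (0,1)],
   [(217,1),(0,1),(2,1),(0,1),(2,1),(0,1),(2,1),(0,1),(2,2),(0,2),(2,2),(0,2),(2,1),(0,1),(2,1),
    (0,1)],
   [(217,1),(0,2),(2,1),(0,2),(2,1),(0,2),(2,1),(0,2),(2,2),(0,1),(2,2),(0,1),(2,1),(0,2),(2,1),
    (0,2)],
   [(216,2),(2,1),(0,2),(2,1),(0,1),(2,2),(0,1),(2,2),(0,2),(2,1),(0,2),(2,1),(0,2),(2,1),(0,2),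
    (2,1)],
   [(216,1),(2,1),(0,1),(2,1),(0,2),(2,2),(0,2),(2,2),(0,1),(2,1),(0,1),(2,1),(0,1),(2,1),(0,1),
    (2,1)],
   [(216,2),(2,2),(0,1),(2,1),(0,1),(2,1),(0,2),(2,2),(0,2),(2,2),(0,1),(2,1),(0,2),(2,2),(0,1),
    (2,1)],
   [(216,1),(2,2),(0,2),(2,1),(0,2),(2,1),(0,1),(2,2),(0,1),(2,2),(0,2),(2,1),(0,1),(2,2),(0,2),
    (2,1)],
   [(217,1),(0,2),(2,2),(0,1),(2,2),(0,1),(2,1),(0,2),(2,1),(0,2),(2,2),(0,1),(2,1),(0,2),(2,2),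
    (0,1)],
   [(217,1),(0,1),(2,2),(0,2),(2,2),(0,2),(2,1),(0,1),(2,1),(0,1),(2,2),(0,2),(2,1),(0,1),(2,2),
    (0,2)],
   [(217,2),(0,2),(2,2),(0,2),(2,1),(0,1),(2,1),(0,1),(2,2),(0,2),(2,2),(0,2),(2,2),(0,2),(2,2),
    (0,2)],
   [(217,2),(0,1),(2,2),(0,1),(2,1),(0,2),(2,1),(0,2),(2,2),(0,1),(2,2),(0,1),(2,2),(0,1),(2,2),
    (0,1)],
   [(216,2),(2,1),(0,2),(2,1),(0,1),(2,2),(0,1),(2,2),(0,1),(2,2),(0,1),(2,2),(0,1),(2,2),(0,1),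
    (2,2)],
   [(216,1),(2,1),(0,1),(2,1),(0,2),(2,2),(0,2),(2,2),(0,2),(2,2),(0,2),(2,2),(0,2),(2,2),(0,2),
    (2,2)],
   [(216,2),(2,2),(0,1),(2,1),(0,1),(2,1),(0,2),(2,2),(0,1),(2,1),(0,2),(2,2),(0,1),(2,1),(0,2),
    (2,2)],
   [(216,1),(2,2),(0,2),(2,1),(0,2),(2,1),(0,1),(2,2),(0,2),(2,1),(0,1),(2,2),(0,2),(2,1),(0,1),
    (2,2)],
   [(217,1),(0,2),(2,2),(0,1),(2,2),(0,1),(2,1),(0,2),(2,2),(0,1),(2,1),(0,2),(2,2),(0,1),(2,1),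
    (0,2)],
   [(217,1),(0,1),(2,2),(0,2),(2,2),(0,2),(2,1),(0,1),(2,2),(0,2),(2,1),(0,1),(2,2),(0,2),(2,1),
    (0,1)],
   [(217,2),(0,2),(2,2),(0,2),(2,1),(0,1),(2,1),(0,1),(2,1),(0,1),(2,1),(0,1),(2,1),(0,1),(2,1),
    (0,1)],
   [(217,2),(0,1),(2,2),(0,1),(2,1),(0,2),(2,1),(0,2),(2,1),(0,2),(2,1),(0,2),(2,1),(0,2),(2,1),
    (0,2)]]

/-- Rows of a matrix. -/
def matT : List (List (ℕ × ℕ)) :=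
  matT0 ++ matT1 ++ matT2 ++ matT3 ++ matT4 ++ matT5 ++ matT6 ++ matT7

/-- Rows of a matrix. -/
def matTi0 : List (List (ℕ × ℕ)) :=
  [[(0,1)],
   [(1,1)],
   [(2,1)],
   [(3,1)],
   [(4,1)],
   [(55,2)],
   [(17,2)],
   [(16,2)],
   [(60,1)],
   [(68,2)],
   [(66,1)],
   [(39,1)],
   [(21,2)],
   [(27,1)],
   [(85,1)],
   [(90,1)],
   [(78,1)],
   [(63,2)],
   [(98,2)],
   [(93,2)],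
   [(94,1)],
   [(58,1)],
   [(42,1)],
   [(41,2)],
   [(23,1)],
   [(75,2)],
   [(61,1)],
   [(86,1)],
   [(29,1)],
   [(73,1)],
   [(70,1)]]

/-- Rows of a matrix. -/
def matTi1 : List (List (ℕ × ℕ)) :=
  [[(95,2)],
   [(31,1)],
   [(9,2)],
   [(19,2)],
   [(35,1)],
   [(112,1)],
   [(106,1)],
   [(37,1)],
   [(67,1)],
   [(109,1)],
   [(24,2)],
   [(59,1)],
   [(8,1)],
   [(79,2)],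
   [(82,1)],
   [(48,2)],
   [(119,2)],
   [(89,2)],
   [(96,1)],
   [(114,1)],
   [(50,1)],
   [(53,1)],
   [(99,1)],
   [(64,2)],
   [(56,2)],
   [(5,1)],
   [(54,1)],
   [(12,2)],
   [(22,1)],
   [(43,1)],
   [(72,1)]]

/-- Rows of a matrix. -/
def matTi2 : List (List (ℕ × ℕ)) :=
  [[(49,1)],
   [(6,1)],
   [(57,2)],
   [(25,2)],
   [(115,1)],
   [(11,1)],
   [(33,1)],
   [(40,2)],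
   [(100,1)],
   [(103,2)],
   [(26,1)],
   [(28,1)],
   [(113,1)],
   [(65,1)],
   [(74,1)],
   [(83,1)],
   [(7,2)],
   [(80,2)],
   [(44,1)],
   [(84,1)],
   [(108,1)],
   [(111,1)],
   [(87,1)],
   [(117,2)],
   [(13,1)],
   [(81,1)],
   [(47,2)],
   [(46,1)],
   [(92,1)],
   [(118,1)],
   [(15,1)]]

/-- Rows of a matrix. -/
def matTi3 : List (List (ℕ × ℕ)) :=
  [[(34,1)],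
   [(102,1)],
   [(32,2)],
   [(62,1)],
   [(71,2)],
   [(101,2)],
   [(52,1)],
   [(30,1)],
   [(18,1)],
   [(20,1)],
   [(97,1)],
   [(91,2)],
   [(36,1)],
   [(38,1)],
   [(116,1)],
   [(45,1)],
   [(69,2)],
   [(107,1)],
   [(77,1)],
   [(105,1)],
   [(76,1)],
   [(51,1)],
   [(10,1)],
   [(110,1)],
   [(14,2)],
   [(104,2)],
   [(88,1)],
   [(120,1),(0,2),(0,1),(0,2),(4,1),(0,2),(0,1),(0,2),(4,2),(0,1),(0,2),(0,1),(4,2),(0,1),(0,2),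
    (0,1)],
   [(124,2),(0,2),(0,1),(0,1),(4,2),(0,2),(0,1),(0,1),(4,1),(0,1),(0,2),(0,2),(4,1),(0,1),(0,2),
    (0,2)],
   [(124,1),(0,2),(0,1),(0,2),(4,1),(0,2),(0,1),(0,2),(4,2),(0,1),(0,2),(0,1),(4,2),(0,1),(0,2),
    (0,1)],
   [(120,2),(0,2),(0,1),(0,1),(4,2),(0,2),(0,1),(0,1),(4,1),(0,1),(0,2),(0,2),(4,1),(0,1),(0,2),
    (0,2)]]

/-- Rows of a matrix. -/
def matTi4 : List (List (ℕ × ℕ)) :=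
  [[(120,1),(0,2),(0,2),(0,1),(4,1),(0,2),(0,2),(0,1),(4,2),(0,1),(0,1),(0,2),(4,2),(0,1),(0,1),
    (0,2)],
   [(124,1),(0,1),(0,1),(0,1),(4,1),(0,1),(0,1),(0,1),(4,2),(0,2),(0,2),(0,2),(4,2),(0,2),(0,2),
    (0,2)],
   [(124,2),(0,1),(0,1),(0,2),(4,2),(0,1),(0,1),(0,2),(4,1),(0,2),(0,2),(0,1),(4,1),(0,2),(0,2),
    (0,1)],
   [(120,2),(0,2),(0,2),(0,2),(4,2),(0,2),(0,2),(0,2),(4,1),(0,1),(0,1),(0,1),(4,1),(0,1),(0,1),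
    (0,1)],
   [(120,1),(0,2),(0,1),(0,2),(4,1),(0,2),(0,1),(0,2),(4,1),(0,2),(0,1),(0,2),(4,1),(0,2),(0,1),
    (0,2)],
   [(124,2),(0,2),(0,1),(0,1),(4,2),(0,2),(0,1),(0,1),(4,2),(0,2),(0,1),(0,1),(4,2),(0,2),(0,1),
    (0,1)],
   [(124,1),(0,2),(0,1),(0,2),(4,1),(0,2),(0,1),(0,2),(4,1),(0,2),(0,1),(0,2),(4,1),(0,2),(0,1),
    (0,2)],
   [(120,2),(0,2),(0,1),(0,1),(4,2),(0,2),(0,1),(0,1),(4,2),(0,2),(0,1),(0,1),(4,2),(0,2),(0,1),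
    (0,1)],
   [(120,1),(0,2),(0,2),(0,1),(4,1),(0,2),(0,2),(0,1),(4,1),(0,2),(0,2),(0,1),(4,1),(0,2),(0,2),
    (0,1)],
   [(124,1),(0,1),(0,1),(0,1),(4,1),(0,1),(0,1),(0,1),(4,1),(0,1),(0,1),(0,1),(4,1),(0,1),(0,1),
    (0,1)],
   [(124,2),(0,1),(0,1),(0,2),(4,2),(0,1),(0,1),(0,2),(4,2),(0,1),(0,1),(0,2),(4,2),(0,1),(0,1),
    (0,2)],
   [(120,2),(0,2),(0,2),(0,2),(4,2),(0,2),(0,2),(0,2),(4,2),(0,2),(0,2),(0,2),(4,2),(0,2),(0,2),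
    (0,2)],
   [(120,1),(0,2),(0,1),(0,2),(4,2),(0,1),(0,2),(0,1),(4,2),(0,1),(0,2),(0,1),(4,1),(0,2),(0,1),
    (0,2)],
   [(124,2),(0,2),(0,1),(0,1),(4,1),(0,1),(0,2),(0,2),(4,1),(0,1),(0,2),(0,2),(4,2),(0,2),(0,1),
    (0,1)],
   [(124,1),(0,2),(0,1),(0,2),(4,2),(0,1),(0,2),(0,1),(4,2),(0,1),(0,2),(0,1),(4,1),(0,2),(0,1),
    (0,2)],
   [(120,2),(0,2),(0,1),(0,1),(4,1),(0,1),(0,2),(0,2),(4,1),(0,1),(0,2),(0,2),(4,2),(0,2),(0,1),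
    (0,1)],
   [(120,1),(0,2),(0,2),(0,1),(4,2),(0,1),(0,1),(0,2),(4,2),(0,1),(0,1),(0,2),(4,1),(0,2),(0,2),
    (0,1)],
   [(124,1),(0,1),(0,1),(0,1),(4,2),(0,2),(0,2),(0,2),(4,2),(0,2),(0,2),(0,2),(4,1),(0,1),(0,1),
    (0,1)],
   [(124,2),(0,1),(0,1),(0,2),(4,1),(0,2),(0,2),(0,1),(4,1),(0,2),(0,2),(0,1),(4,2),(0,1),(0,1),
    (0,2)],
   [(120,2),(0,2),(0,2),(0,2),(4,1),(0,1),(0,1),(0,1),(4,1),(0,1),(0,1),(0,1),(4,2),(0,2),(0,2),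
    (0,2)],
   [(120,2),(0,1),(0,2),(0,1),(4,1),(0,2),(0,1),(0,2),(4,2),(0,1),(0,2),(0,1),(4,1),(0,2),(0,1),
    (0,2)],
   [(124,1),(0,1),(0,2),(0,2),(4,2),(0,2),(0,1),(0,1),(4,1),(0,1),(0,2),(0,2),(4,2),(0,2),(0,1),
    (0,1)],
   [(124,2),(0,1),(0,2),(0,1),(4,1),(0,2),(0,1),(0,2),(4,2),(0,1),(0,2),(0,1),(4,1),(0,2),(0,1),
    (0,2)],
   [(120,1),(0,1),(0,2),(0,2),(4,2),(0,2),(0,1),(0,1),(4,1),(0,1),(0,2),(0,2),(4,2),(0,2),(0,1),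
    (0,1)],
   [(120,2),(0,1),(0,1),(0,2),(4,1),(0,2),(0,2),(0,1),(4,2),(0,1),(0,1),(0,2),(4,1),(0,2),(0,2),
    (0,1)],
   [(124,2),(0,2),(0,2),(0,2),(4,1),(0,1),(0,1),(0,1),(4,2),(0,2),(0,2),(0,2),(4,1),(0,1),(0,1),
    (0,1)],
   [(124,1),(0,2),(0,2),(0,1),(4,2),(0,1),(0,1),(0,2),(4,1),(0,2),(0,2),(0,1),(4,2),(0,1),(0,1),
    (0,2)],
   [(120,1),(0,1),(0,1),(0,1),(4,2),(0,2),(0,2),(0,2),(4,1),(0,1),(0,1),(0,1),(4,2),(0,2),(0,2),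
    (0,2)],
   [(152,1),(0,2),(0,1),(0,2),(4,1),(0,2),(0,1),(0,2),(4,2),(0,1),(0,2),(0,1),(4,2),(0,1),(0,2),
    (0,1)],
   [(156,2),(0,2),(0,1),(0,1),(4,2),(0,2),(0,1),(0,1),(4,1),(0,1),(0,2),(0,2),(4,1),(0,1),(0,2),
    (0,2)],
   [(156,1),(0,2),(0,1),(0,2),(4,1),(0,2),(0,1),(0,2),(4,2),(0,1),(0,2),(0,1),(4,2),(0,1),(0,2),
    (0,1)]]

/-- Rows of a matrix. -/
def matTi5 : List (List (ℕ × ℕ)) :=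
  [[(152,2),(0,2),(0,1),(0,1),(4,2),(0,2),(0,1),(0,1),(4,1),(0,1),(0,2),(0,2),(4,1),(0,1),(0,2),
    (0,2)],
   [(152,1),(0,2),(0,2),(0,1),(4,1),(0,2),(0,2),(0,1),(4,2),(0,1),(0,1),(0,2),(4,2),(0,1),(0,1),
    (0,2)],
   [(156,1),(0,1),(0,1),(0,1),(4,1),(0,1),(0,1),(0,1),(4,2),(0,2),(0,2),(0,2),(4,2),(0,2),(0,2),
    (0,2)],
   [(156,2),(0,1),(0,1),(0,2),(4,2),(0,1),(0,1),(0,2),(4,1),(0,2),(0,2),(0,1),(4,1),(0,2),(0,2),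
    (0,1)],
   [(152,2),(0,2),(0,2),(0,2),(4,2),(0,2),(0,2),(0,2),(4,1),(0,1),(0,1),(0,1),(4,1),(0,1),(0,1),
    (0,1)],
   [(152,1),(0,2),(0,1),(0,2),(4,1),(0,2),(0,1),(0,2),(4,1),(0,2),(0,1),(0,2),(4,1),(0,2),(0,1),
    (0,2)],
   [(156,2),(0,2),(0,1),(0,1),(4,2),(0,2),(0,1),(0,1),(4,2),(0,2),(0,1),(0,1),(4,2),(0,2),(0,1),
    (0,1)],
   [(156,1),(0,2),(0,1),(0,2),(4,1),(0,2),(0,1),(0,2),(4,1),(0,2),(0,1),(0,2),(4,1),(0,2),(0,1),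
    (0,2)],
   [(152,2),(0,2),(0,1),(0,1),(4,2),(0,2),(0,1),(0,1),(4,2),(0,2),(0,1),(0,1),(4,2),(0,2),(0,1),
    (0,1)],
   [(152,1),(0,2),(0,2),(0,1),(4,1),(0,2),(0,2),(0,1),(4,1),(0,2),(0,2),(0,1),(4,1),(0,2),(0,2),
    (0,1)],
   [(156,1),(0,1),(0,1),(0,1),(4,1),(0,1),(0,1),(0,1),(4,1),(0,1),(0,1),(0,1),(4,1),(0,1),(0,1),
    (0,1)],
   [(156,2),(0,1),(0,1),(0,2),(4,2),(0,1),(0,1),(0,2),(4,2),(0,1),(0,1),(0,2),(4,2),(0,1),(0,1),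
    (0,2)],
   [(152,2),(0,2),(0,2),(0,2),(4,2),(0,2),(0,2),(0,2),(4,2),(0,2),(0,2),(0,2),(4,2),(0,2),(0,2),
    (0,2)],
   [(152,1),(0,2),(0,1),(0,2),(4,2),(0,1),(0,2),(0,1),(4,2),(0,1),(0,2),(0,1),(4,1),(0,2),(0,1),
    (0,2)],
   [(156,2),(0,2),(0,1),(0,1),(4,1),(0,1),(0,2),(0,2),(4,1),(0,1),(0,2),(0,2),(4,2),(0,2),(0,1),
    (0,1)],
   [(156,1),(0,2),(0,1),(0,2),(4,2),(0,1),(0,2),(0,1),(4,2),(0,1),(0,2),(0,1),(4,1),(0,2),(0,1),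
    (0,2)],
   [(152,2),(0,2),(0,1),(0,1),(4,1),(0,1),(0,2),(0,2),(4,1),(0,1),(0,2),(0,2),(4,2),(0,2),(0,1),
    (0,1)],
   [(152,1),(0,2),(0,2),(0,1),(4,2),(0,1),(0,1),(0,2),(4,2),(0,1),(0,1),(0,2),(4,1),(0,2),(0,2),
    (0,1)],
   [(156,1),(0,1),(0,1),(0,1),(4,2),(0,2),(0,2),(0,2),(4,2),(0,2),(0,2),(0,2),(4,1),(0,1),(0,1),
    (0,1)],
   [(156,2),(0,1),(0,1),(0,2),(4,1),(0,2),(0,2),(0,1),(4,1),(0,2),(0,2),(0,1),(4,2),(0,1),(0,1),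
    (0,2)],
   [(152,2),(0,2),(0,2),(0,2),(4,1),(0,1),(0,1),(0,1),(4,1),(0,1),(0,1),(0,1),(4,2),(0,2),(0,2),
    (0,2)],
   [(152,2),(0,1),(0,2),(0,1),(4,1),(0,2),(0,1),(0,2),(4,2),(0,1),(0,2),(0,1),(4,1),(0,2),(0,1),
    (0,2)],
   [(156,1),(0,1),(0,2),(0,2),(4,2),(0,2),(0,1),(0,1),(4,1),(0,1),(0,2),(0,2),(4,2),(0,2),(0,1),
    (0,1)],
   [(156,2),(0,1),(0,2),(0,1),(4,1),(0,2),(0,1),(0,2),(4,2),(0,1),(0,2),(0,1),(4,1),(0,2),(0,1),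
    (0,2)],
   [(152,1),(0,1),(0,2),(0,2),(4,2),(0,2),(0,1),(0,1),(4,1),(0,1),(0,2),(0,2),(4,2),(0,2),(0,1),
    (0,1)],
   [(152,2),(0,1),(0,1),(0,2),(4,1),(0,2),(0,2),(0,1),(4,2),(0,1),(0,1),(0,2),(4,1),(0,2),(0,2),
    (0,1)],
   [(156,2),(0,2),(0,2),(0,2),(4,1),(0,1),(0,1),(0,1),(4,2),(0,2),(0,2),(0,2),(4,1),(0,1),(0,1),
    (0,1)],
   [(156,1),(0,2),(0,2),(0,1),(4,2),(0,1),(0,1),(0,2),(4,1),(0,2),(0,2),(0,1),(4,2),(0,1),(0,1),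
    (0,2)],
   [(152,1),(0,1),(0,1),(0,1),(4,2),(0,2),(0,2),(0,2),(4,1),(0,1),(0,1),(0,1),(4,2),(0,2),(0,2),
    (0,2)],
   [(184,1),(0,2),(0,1),(0,2),(4,1),(0,2),(0,1),(0,2),(4,2),(0,1),(0,2),(0,1),(4,2),(0,1),(0,2),
    (0,1)],
   [(188,2),(0,2),(0,1),(0,1),(4,2),(0,2),(0,1),(0,1),(4,1),(0,1),(0,2),(0,2),(4,1),(0,1),(0,2),
    (0,2)]]

/-- Rows of a matrix. -/
def matTi6 : List (List (ℕ × ℕ)) :=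
  [[(188,1),(0,2),(0,1),(0,2),(4,1),(0,2),(0,1),(0,2),(4,2),(0,1),(0,2),(0,1),(4,2),(0,1),(0,2),
    (0,1)],
   [(184,2),(0,2),(0,1),(0,1),(4,2),(0,2),(0,1),(0,1),(4,1),(0,1),(0,2),(0,2),(4,1),(0,1),(0,2),
    (0,2)],
   [(184,1),(0,2),(0,2),(0,1),(4,1),(0,2),(0,2),(0,1),(4,2),(0,1),(0,1),(0,2),(4,2),(0,1),(0,1),
    (0,2)],
   [(188,1),(0,1),(0,1),(0,1),(4,1),(0,1),(0,1),(0,1),(4,2),(0,2),(0,2),(0,2),(4,2),(0,2),(0,2),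
    (0,2)],
   [(188,2),(0,1),(0,1),(0,2),(4,2),(0,1),(0,1),(0,2),(4,1),(0,2),(0,2),(0,1),(4,1),(0,2),(0,2),
    (0,1)],
   [(184,2),(0,2),(0,2),(0,2),(4,2),(0,2),(0,2),(0,2),(4,1),(0,1),(0,1),(0,1),(4,1),(0,1),(0,1),
    (0,1)],
   [(184,1),(0,2),(0,1),(0,2),(4,1),(0,2),(0,1),(0,2),(4,1),(0,2),(0,1),(0,2),(4,1),(0,2),(0,1),
    (0,2)],
   [(188,2),(0,2),(0,1),(0,1),(4,2),(0,2),(0,1),(0,1),(4,2),(0,2),(0,1),(0,1),(4,2),(0,2),(0,1),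
    (0,1)],
   [(188,1),(0,2),(0,1),(0,2),(4,1),(0,2),(0,1),(0,2),(4,1),(0,2),(0,1),(0,2),(4,1),(0,2),(0,1),
    (0,2)],
   [(184,2),(0,2),(0,1),(0,1),(4,2),(0,2),(0,1),(0,1),(4,2),(0,2),(0,1),(0,1),(4,2),(0,2),(0,1),
    (0,1)],
   [(184,1),(0,2),(0,2),(0,1),(4,1),(0,2),(0,2),(0,1),(4,1),(0,2),(0,2),(0,1),(4,1),(0,2),(0,2),
    (0,1)],
   [(188,1),(0,1),(0,1),(0,1),(4,1),(0,1),(0,1),(0,1),(4,1),(0,1),(0,1),(0,1),(4,1),(0,1),(0,1),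
    (0,1)],
   [(188,2),(0,1),(0,1),(0,2),(4,2),(0,1),(0,1),(0,2),(4,2),(0,1),(0,1),(0,2),(4,2),(0,1),(0,1),
    (0,2)],
   [(184,2),(0,2),(0,2),(0,2),(4,2),(0,2),(0,2),(0,2),(4,2),(0,2),(0,2),(0,2),(4,2),(0,2),(0,2),
    (0,2)],
   [(184,1),(0,2),(0,1),(0,2),(4,2),(0,1),(0,2),(0,1),(4,2),(0,1),(0,2),(0,1),(4,1),(0,2),(0,1),
    (0,2)],
   [(188,2),(0,2),(0,1),(0,1),(4,1),(0,1),(0,2),(0,2),(4,1),(0,1),(0,2),(0,2),(4,2),(0,2),(0,1),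
    (0,1)],
   [(188,1),(0,2),(0,1),(0,2),(4,2),(0,1),(0,2),(0,1),(4,2),(0,1),(0,2),(0,1),(4,1),(0,2),(0,1),
    (0,2)],
   [(184,2),(0,2),(0,1),(0,1),(4,1),(0,1),(0,2),(0,2),(4,1),(0,1),(0,2),(0,2),(4,2),(0,2),(0,1),
    (0,1)],
   [(184,1),(0,2),(0,2),(0,1),(4,2),(0,1),(0,1),(0,2),(4,2),(0,1),(0,1),(0,2),(4,1),(0,2),(0,2),
    (0,1)],
   [(188,1),(0,1),(0,1),(0,1),(4,2),(0,2),(0,2),(0,2),(4,2),(0,2),(0,2),(0,2),(4,1),(0,1),(0,1),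
    (0,1)],
   [(188,2),(0,1),(0,1),(0,2),(4,1),(0,2),(0,2),(0,1),(4,1),(0,2),(0,2),(0,1),(4,2),(0,1),(0,1),
    (0,2)],
   [(184,2),(0,2),(0,2),(0,2),(4,1),(0,1),(0,1),(0,1),(4,1),(0,1),(0,1),(0,1),(4,2),(0,2),(0,2),
    (0,2)],
   [(184,2),(0,1),(0,2),(0,1),(4,1),(0,2),(0,1),(0,2),(4,2),(0,1),(0,2),(0,1),(4,1),(0,2),(0,1),
    (0,2)],
   [(188,1),(0,1),(0,2),(0,2),(4,2),(0,2),(0,1),(0,1),(4,1),(0,1),(0,2),(0,2),(4,2),(0,2),(0,1),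
    (0,1)],
   [(188,2),(0,1),(0,2),(0,1),(4,1),(0,2),(0,1),(0,2),(4,2),(0,1),(0,2),(0,1),(4,1),(0,2),(0,1),
    (0,2)],
   [(184,1),(0,1),(0,2),(0,2),(4,2),(0,2),(0,1),(0,1),(4,1),(0,1),(0,2),(0,2),(4,2),(0,2),(0,1),
    (0,1)],
   [(184,2),(0,1),(0,1),(0,2),(4,1),(0,2),(0,2),(0,1),(4,2),(0,1),(0,1),(0,2),(4,1),(0,2),(0,2),
    (0,1)],
   [(188,2),(0,2),(0,2),(0,2),(4,1),(0,1),(0,1),(0,1),(4,2),(0,2),(0,2),(0,2),(4,1),(0,1),(0,1),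
    (0,1)],
   [(188,1),(0,2),(0,2),(0,1),(4,2),(0,1),(0,1),(0,2),(4,1),(0,2),(0,2),(0,1),(4,2),(0,1),(0,1),
    (0,2)],
   [(184,1),(0,1),(0,1),(0,1),(4,2),(0,2),(0,2),(0,2),(4,1),(0,1),(0,1),(0,1),(4,2),(0,2),(0,2),
    (0,2)],
   [(216,1),(0,2),(0,1),(0,2),(4,1),(0,2),(0,1),(0,2),(4,2),(0,1),(0,2),(0,1),(4,2),(0,1),(0,2),
    (0,1)]]

/-- Rows of a matrix. -/
def matTi7 : List (List (ℕ × ℕ)) :=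
  [[(220,2),(0,2),(0,1),(0,1),(4,2),(0,2),(0,1),(0,1),(4,1),(0,1),(0,2),(0,2),(4,1),(0,1),(0,2),
    (0,2)],
   [(220,1),(0,2),(0,1),(0,2),(4,1),(0,2),(0,1),(0,2),(4,2),(0,1),(0,2),(0,1),(4,2),(0,1),(0,2),
    (0,1)],
   [(216,2),(0,2),(0,1),(0,1),(4,2),(0,2),(0,1),(0,1),(4,1),(0,1),(0,2),(0,2),(4,1),(0,1),(0,2),
    (0,2)],
   [(216,1),(0,2),(0,2),(0,1),(4,1),(0,2),(0,2),(0,1),(4,2),(0,1),(0,1),(0,2),(4,2),(0,1),(0,1),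
    (0,2)],
   [(220,1),(0,1),(0,1),(0,1),(4,1),(0,1),(0,1),(0,1),(4,2),(0,2),(0,2),(0,2),(4,2),(0,2),(0,2),
    (0,2)],
   [(220,2),(0,1),(0,1),(0,2),(4,2),(0,1),(0,1),(0,2),(4,1),(0,2),(0,2),(0,1),(4,1),(0,2),(0,2),
    (0,1)],
   [(216,2),(0,2),(0,2),(0,2),(4,2),(0,2),(0,2),(0,2),(4,1),(0,1),(0,1),(0,1),(4,1),(0,1),(0,1),
    (0,1)],
   [(216,1),(0,2),(0,1),(0,2),(4,1),(0,2),(0,1),(0,2),(4,1),(0,2),(0,1),(0,2),(4,1),(0,2),(0,1),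
    (0,2)],
   [(220,2),(0,2),(0,1),(0,1),(4,2),(0,2),(0,1),(0,1),(4,2),(0,2),(0,1),(0,1),(4,2),(0,2),(0,1),
    (0,1)],
   [(220,1),(0,2),(0,1),(0,2),(4,1),(0,2),(0,1),(0,2),(4,1),(0,2),(0,1),(0,2),(4,1),(0,2),(0,1),
    (0,2)],
   [(216,2),(0,2),(0,1),(0,1),(4,2),(0,2),(0,1),(0,1),(4,2),(0,2),(0,1),(0,1),(4,2),(0,2),(0,1),
    (0,1)],
   [(216,1),(0,2),(0,2),(0,1),(4,1),(0,2),(0,2),(0,1),(4,1),(0,2),(0,2),(0,1),(4,1),(0,2),(0,2),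
    (0,1)],
   [(220,1),(0,1),(0,1),(0,1),(4,1),(0,1),(0,1),(0,1),(4,1),(0,1),(0,1),(0,1),(4,1),(0,1),(0,1),
    (0,1)],
   [(220,2),(0,1),(0,1),(0,2),(4,2),(0,1),(0,1),(0,2),(4,2),(0,1),(0,1),(0,2),(4,2),(0,1),(0,1),
    (0,2)],
   [(216,2),(0,2),(0,2),(0,2),(4,2),(0,2),(0,2),(0,2),(4,2),(0,2),(0,2),(0,2),(4,2),(0,2),(0,2),
    (0,2)],
   [(216,1),(0,2),(0,1),(0,2),(4,2),(0,1),(0,2),(0,1),(4,2),(0,1),(0,2),(0,1),(4,1),(0,2),(0,1),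
    (0,2)],
   [(220,2),(0,2),(0,1),(0,1),(4,1),(0,1),(0,2),(0,2),(4,1),(0,1),(0,2),(0,2),(4,2),(0,2),(0,1),
    (0,1)],
   [(220,1),(0,2),(0,1),(0,2),(4,2),(0,1),(0,2),(0,1),(4,2),(0,1),(0,2),(0,1),(4,1),(0,2),(0,1),
    (0,2)],
   [(216,2),(0,2),(0,1),(0,1),(4,1),(0,1),(0,2),(0,2),(4,1),(0,1),(0,2),(0,2),(4,2),(0,2),(0,1),
    (0,1)],
   [(216,1),(0,2),(0,2),(0,1),(4,2),(0,1),(0,1),(0,2),(4,2),(0,1),(0,1),(0,2),(4,1),(0,2),(0,2),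
    (0,1)],
   [(220,1),(0,1),(0,1),(0,1),(4,2),(0,2),(0,2),(0,2),(4,2),(0,2),(0,2),(0,2),(4,1),(0,1),(0,1),
    (0,1)],
   [(220,2),(0,1),(0,1),(0,2),(4,1),(0,2),(0,2),(0,1),(4,1),(0,2),(0,2),(0,1),(4,2),(0,1),(0,1),
    (0,2)],
   [(216,2),(0,2),(0,2),(0,2),(4,1),(0,1),(0,1),(0,1),(4,1),(0,1),(0,1),(0,1),(4,2),(0,2),(0,2),
    (0,2)],
   [(216,2),(0,1),(0,2),(0,1),(4,1),(0,2),(0,1),(0,2),(4,2),(0,1),(0,2),(0,1),(4,1),(0,2),(0,1),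
    (0,2)],
   [(220,1),(0,1),(0,2),(0,2),(4,2),(0,2),(0,1),(0,1),(4,1),(0,1),(0,2),(0,2),(4,2),(0,2),(0,1),
    (0,1)],
   [(220,2),(0,1),(0,2),(0,1),(4,1),(0,2),(0,1),(0,2),(4,2),(0,1),(0,2),(0,1),(4,1),(0,2),(0,1),
    (0,2)],
   [(216,1),(0,1),(0,2),(0,2),(4,2),(0,2),(0,1),(0,1),(4,1),(0,1),(0,2),(0,2),(4,2),(0,2),(0,1),
    (0,1)],
   [(216,2),(0,1),(0,1),(0,2),(4,1),(0,2),(0,2),(0,1),(4,2),(0,1),(0,1),(0,2),(4,1),(0,2),(0,2),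
    (0,1)],
   [(220,2),(0,2),(0,2),(0,2),(4,1),(0,1),(0,1),(0,1),(4,2),(0,2),(0,2),(0,2),(4,1),(0,1),(0,1),
    (0,1)],
   [(220,1),(0,2),(0,2),(0,1),(4,2),(0,1),(0,1),(0,2),(4,1),(0,2),(0,2),(0,1),(4,2),(0,1),(0,1),
    (0,2)],
   [(216,1),(0,1),(0,1),(0,1),(4,2),(0,2),(0,2),(0,2),(4,1),(0,1),(0,1),(0,1),(4,2),(0,2),(0,2),
    (0,2)]]

/-- Rows of a matrix. -/
def matTi : List (List (ℕ × ℕ)) :=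
  matTi0 ++ matTi1 ++ matTi2 ++ matTi3 ++ matTi4 ++ matTi5 ++ matTi6 ++ matTi7

/-- Rows of a matrix. -/
def matU0 : List (List (ℕ × ℕ)) :=
  [[(3,1)],
   [(4,1)],
   [(35,1)],
   [(0,2)],
   [(1,2)],
   [(64,1)],
   [(98,1)],
   [(73,1)],
   [(22,1)],
   [(95,1)],
   [(11,1)],
   [(10,2)],
   [(94,1)],
   [(14,1)],
   [(13,1)],
   [(118,1)],
   [(29,2)],
   [(18,1)],
   [(17,2)],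
   [(72,1)],
   [(21,1)],
   [(20,2)],
   [(8,2)],
   [(65,2)],
   [(25,1)],
   [(24,2)],
   [(34,1)],
   [(117,2)],
   [(78,2)],
   [(16,2)],
   [(40,2)]]

/-- Rows of a matrix. -/
def matU1 : List (List (ℕ × ℕ)) :=
  [[(68,2)],
   [(33,2)],
   [(32,1)],
   [(26,2)],
   [(2,1)],
   [(37,1)],
   [(36,1)],
   [(112,1)],
   [(115,2)],
   [(30,1)],
   [(75,1)],
   [(43,2)],
   [(42,1)],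
   [(108,1)],
   [(80,1)],
   [(119,1)],
   [(48,1)],
   [(47,1)],
   [(71,2)],
   [(53,2)],
   [(99,2)],
   [(114,2)],
   [(50,2)],
   [(55,2)],
   [(54,1)],
   [(57,2)],
   [(56,1)],
   [(102,2)],
   [(60,2)],
   [(59,1)],
   [(93,1)]]

/-- Rows of a matrix. -/
def matU2 : List (List (ℕ × ℕ)) :=
  [[(103,1)],
   [(101,2)],
   [(5,2)],
   [(23,1)],
   [(67,1)],
   [(66,2)],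
   [(31,1)],
   [(70,2)],
   [(69,1)],
   [(49,1)],
   [(19,2)],
   [(7,1)],
   [(110,1)],
   [(41,2)],
   [(107,1)],
   [(87,1)],
   [(28,2)],
   [(82,2)],
   [(45,1)],
   [(111,1)],
   [(79,2)],
   [(84,1)],
   [(83,1)],
   [(86,1)],
   [(85,1)],
   [(77,1)],
   [(89,1)],
   [(88,1)],
   [(91,1)],
   [(90,1)],
   [(104,2)]]

/-- Rows of a matrix. -/
def matU3 : List (List (ℕ × ℕ)) :=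
  [[(61,2)],
   [(12,2)],
   [(9,2)],
   [(97,1)],
   [(96,2)],
   [(6,2)],
   [(51,2)],
   [(109,2)],
   [(63,1)],
   [(58,1)],
   [(62,2)],
   [(92,2)],
   [(106,1)],
   [(105,1)],
   [(76,1)],
   [(44,1)],
   [(100,1)],
   [(74,1)],
   [(81,1)],
   [(38,1)],
   [(116,1)],
   [(52,2)],
   [(39,1)],
   [(113,1)],
   [(27,2)],
   [(15,1)],
   [(46,1)],
   [(122,2),(0,2),(2,1),(0,1),(2,2),(0,2),(2,1),(0,1),(2,1),(0,1),(2,2),(0,2),(2,1),(0,1),(2,2),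
    (0,2),(2,2),(0,2),(2,1),(0,1),(2,2),(0,2),(2,1),(0,1),(2,1),(0,1),(2,2),(0,2),(2,1),(0,1),
    (2,2),(0,2),(2,2),(0,2),(2,1),(0,1),(2,2),(0,2),(2,1),(0,1),(2,1),(0,1),(2,2),(0,2),(2,1),
    (0,1),(2,2),(0,2),(2,1),(0,1),(2,2),(0,2),(2,1),(0,1),(2,2),(0,2),(2,2),(0,2),(2,1),(0,1),
    (2,2),(0,2),(2,1),(0,1)],
   [(122,2),(0,1),(2,1),(0,2),(2,2),(0,1),(2,1),(0,2),(2,1),(0,2),(2,2),(0,1),(2,1),(0,2),(2,2),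
    (0,1),(2,2),(0,1),(2,1),(0,2),(2,2),(0,1),(2,1),(0,2),(2,1),(0,2),(2,2),(0,1),(2,1),(0,2),
    (2,2),(0,1),(2,2),(0,1),(2,1),(0,2),(2,2),(0,1),(2,1),(0,2),(2,1),(0,2),(2,2),(0,1),(2,1),
    (0,2),(2,2),(0,1),(2,1),(0,2),(2,2),(0,1),(2,1),(0,2),(2,2),(0,1),(2,2),(0,1),(2,1),(0,2),
    (2,2),(0,1),(2,1),(0,2)],
   [(120,1),(0,1),(2,1),(0,1),(2,1),(0,1),(2,1),(0,1),(2,2),(0,2),(2,2),(0,2),(2,2),(0,2),(2,2),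
    (0,2),(2,1),(0,1),(2,1),(0,1),(2,1),(0,1),(2,1),(0,1),(2,2),(0,2),(2,2),(0,2),(2,2),(0,2),
    (2,2),(0,2),(2,1),(0,1),(2,1),(0,1),(2,1),(0,1),(2,1),(0,1),(2,2),(0,2),(2,2),(0,2),(2,2),
    (0,2),(2,2),(0,2),(2,2),(0,2),(2,2),(0,2),(2,2),(0,2),(2,2),(0,2),(2,1),(0,1),(2,1),(0,1),
    (2,1),(0,1),(2,1),(0,1)],
   [(120,1),(0,2),(2,1),(0,2),(2,1),(0,2),(2,1),(0,2),(2,2),(0,1),(2,2),(0,1),(2,2),(0,1),(2,2),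
    (0,1),(2,1),(0,2),(2,1),(0,2),(2,1),(0,2),(2,1),(0,2),(2,2),(0,1),(2,2),(0,1),(2,2),(0,1),
    (2,2),(0,1),(2,1),(0,2),(2,1),(0,2),(2,1),(0,2),(2,1),(0,2),(2,2),(0,1),(2,2),(0,1),(2,2),
    (0,1),(2,2),(0,1),(2,2),(0,1),(2,2),(0,1),(2,2),(0,1),(2,2),(0,1),(2,1),(0,2),(2,1),(0,2),
    (2,1),(0,2),(2,1),(0,2)]]

/-- Rows of a matrix. -/
def matU4 : List (List (ℕ × ℕ)) :=
  [[(122,2),(0,2),(2,2),(0,2),(2,2),(0,2),(2,2),(0,2),(2,1),(0,1),(2,1),(0,1),(2,1),(0,1),(2,1),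
    (0,1),(2,2),(0,2),(2,2),(0,2),(2,2),(0,2),(2,2),(0,2),(2,1),(0,1),(2,1),(0,1),(2,1),(0,1),
    (2,1),(0,1),(2,2),(0,2),(2,2),(0,2),(2,2),(0,2),(2,2),(0,2),(2,1),(0,1),(2,1),(0,1),(2,1),
    (0,1),(2,1),(0,1),(2,1),(0,1),(2,1),(0,1),(2,1),(0,1),(2,1),(0,1),(2,2),(0,2),(2,2),(0,2),
    (2,2),(0,2),(2,2),(0,2)],
   [(122,2),(0,1),(2,2),(0,1),(2,2),(0,1),(2,2),(0,1),(2,1),(0,2),(2,1),(0,2),(2,1),(0,2),(2,1),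
    (0,2),(2,2),(0,1),(2,2),(0,1),(2,2),(0,1),(2,2),(0,1),(2,1),(0,2),(2,1),(0,2),(2,1),(0,2),
    (2,1),(0,2),(2,2),(0,1),(2,2),(0,1),(2,2),(0,1),(2,2),(0,1),(2,1),(0,2),(2,1),(0,2),(2,1),
    (0,2),(2,1),(0,2),(2,1),(0,2),(2,1),(0,2),(2,1),(0,2),(2,1),(0,2),(2,2),(0,1),(2,2),(0,1),
    (2,2),(0,1),(2,2),(0,1)],
   [(120,2),(0,2),(2,1),(0,1),(2,2),(0,2),(2,1),(0,1),(2,1),(0,1),(2,2),(0,2),(2,1),(0,1),(2,2),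
    (0,2),(2,2),(0,2),(2,1),(0,1),(2,2),(0,2),(2,1),(0,1),(2,1),(0,1),(2,2),(0,2),(2,1),(0,1),
    (2,2),(0,2),(2,2),(0,2),(2,1),(0,1),(2,2),(0,2),(2,1),(0,1),(2,1),(0,1),(2,2),(0,2),(2,1),
    (0,1),(2,2),(0,2),(2,1),(0,1),(2,2),(0,2),(2,1),(0,1),(2,2),(0,2),(2,2),(0,2),(2,1),(0,1),
    (2,2),(0,2),(2,1),(0,1)],
   [(120,2),(0,1),(2,1),(0,2),(2,2),(0,1),(2,1),(0,2),(2,1),(0,2),(2,2),(0,1),(2,1),(0,2),(2,2),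
    (0,1),(2,2),(0,1),(2,1),(0,2),(2,2),(0,1),(2,1),(0,2),(2,1),(0,2),(2,2),(0,1),(2,1),(0,2),
    (2,2),(0,1),(2,2),(0,1),(2,1),(0,2),(2,2),(0,1),(2,1),(0,2),(2,1),(0,2),(2,2),(0,1),(2,1),
    (0,2),(2,2),(0,1),(2,1),(0,2),(2,2),(0,1),(2,1),(0,2),(2,2),(0,1),(2,2),(0,1),(2,1),(0,2),
    (2,2),(0,1),(2,1),(0,2)],
   [(122,2),(0,2),(2,1),(0,1),(2,2),(0,2),(2,1),(0,1),(2,2),(0,2),(2,1),(0,1),(2,2),(0,2),(2,1),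
    (0,1),(2,2),(0,2),(2,1),(0,1),(2,2),(0,2),(2,1),(0,1),(2,2),(0,2),(2,1),(0,1),(2,2),(0,2),
    (2,1),(0,1),(2,2),(0,2),(2,1),(0,1),(2,2),(0,2),(2,1),(0,1),(2,2),(0,2),(2,1),(0,1),(2,2),
    (0,2),(2,1),(0,1),(2,1),(0,1),(2,2),(0,2),(2,1),(0,1),(2,2),(0,2),(2,1),(0,1),(2,2),(0,2),
    (2,1),(0,1),(2,2),(0,2)],
   [(122,2),(0,1),(2,1),(0,2),(2,2),(0,1),(2,1),(0,2),(2,2),(0,1),(2,1),(0,2),(2,2),(0,1),(2,1),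
    (0,2),(2,2),(0,1),(2,1),(0,2),(2,2),(0,1),(2,1),(0,2),(2,2),(0,1),(2,1),(0,2),(2,2),(0,1),
    (2,1),(0,2),(2,2),(0,1),(2,1),(0,2),(2,2),(0,1),(2,1),(0,2),(2,2),(0,1),(2,1),(0,2),(2,2),
    (0,1),(2,1),(0,2),(2,1),(0,2),(2,2),(0,1),(2,1),(0,2),(2,2),(0,1),(2,1),(0,2),(2,2),(0,1),
    (2,1),(0,2),(2,2),(0,1)],
   [(120,1),(0,1),(2,1),(0,1),(2,1),(0,1),(2,1),(0,1),(2,1),(0,1),(2,1),(0,1),(2,1),(0,1),(2,1),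
    (0,1),(2,1),(0,1),(2,1),(0,1),(2,1),(0,1),(2,1),(0,1),(2,1),(0,1),(2,1),(0,1),(2,1),(0,1),
    (2,1),(0,1),(2,1),(0,1),(2,1),(0,1),(2,1),(0,1),(2,1),(0,1),(2,1),(0,1),(2,1),(0,1),(2,1),
    (0,1),(2,1),(0,1),(2,2),(0,2),(2,2),(0,2),(2,2),(0,2),(2,2),(0,2),(2,2),(0,2),(2,2),(0,2),
    (2,2),(0,2),(2,2),(0,2)],
   [(120,1),(0,2),(2,1),(0,2),(2,1),(0,2),(2,1),(0,2),(2,1),(0,2),(2,1),(0,2),(2,1),(0,2),(2,1),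
    (0,2),(2,1),(0,2),(2,1),(0,2),(2,1),(0,2),(2,1),(0,2),(2,1),(0,2),(2,1),(0,2),(2,1),(0,2),
    (2,1),(0,2),(2,1),(0,2),(2,1),(0,2),(2,1),(0,2),(2,1),(0,2),(2,1),(0,2),(2,1),(0,2),(2,1),
    (0,2),(2,1),(0,2),(2,2),(0,1),(2,2),(0,1),(2,2),(0,1),(2,2),(0,1),(2,2),(0,1),(2,2),(0,1),
    (2,2),(0,1),(2,2),(0,1)],
   [(122,2),(0,2),(2,2),(0,2),(2,2),(0,2),(2,2),(0,2),(2,2),(0,2),(2,2),(0,2),(2,2),(0,2),(2,2),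
    (0,2),(2,2),(0,2),(2,2),(0,2),(2,2),(0,2),(2,2),(0,2),(2,2),(0,2),(2,2),(0,2),(2,2),(0,2),
    (2,2),(0,2),(2,2),(0,2),(2,2),(0,2),(2,2),(0,2),(2,2),(0,2),(2,2),(0,2),(2,2),(0,2),(2,2),
    (0,2),(2,2),(0,2),(2,1),(0,1),(2,1),(0,1),(2,1),(0,1),(2,1),(0,1),(2,1),(0,1),(2,1),(0,1),
    (2,1),(0,1),(2,1),(0,1)],
   [(122,2),(0,1),(2,2),(0,1),(2,2),(0,1),(2,2),(0,1),(2,2),(0,1),(2,2),(0,1),(2,2),(0,1),(2,2),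
    (0,1),(2,2),(0,1),(2,2),(0,1),(2,2),(0,1),(2,2),(0,1),(2,2),(0,1),(2,2),(0,1),(2,2),(0,1),
    (2,2),(0,1),(2,2),(0,1),(2,2),(0,1),(2,2),(0,1),(2,2),(0,1),(2,2),(0,1),(2,2),(0,1),(2,2),
    (0,1),(2,2),(0,1),(2,1),(0,2),(2,1),(0,2),(2,1),(0,2),(2,1),(0,2),(2,1),(0,2),(2,1),(0,2),
    (2,1),(0,2),(2,1),(0,2)],
   [(120,2),(0,2),(2,1),(0,1),(2,2),(0,2),(2,1),(0,1),(2,2),(0,2),(2,1),(0,1),(2,2),(0,2),(2,1),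
    (0,1),(2,2),(0,2),(2,1),(0,1),(2,2),(0,2),(2,1),(0,1),(2,2),(0,2),(2,1),(0,1),(2,2),(0,2),
    (2,1),(0,1),(2,2),(0,2),(2,1),(0,1),(2,2),(0,2),(2,1),(0,1),(2,2),(0,2),(2,1),(0,1),(2,2),
    (0,2),(2,1),(0,1),(2,1),(0,1),(2,2),(0,2),(2,1),(0,1),(2,2),(0,2),(2,1),(0,1),(2,2),(0,2),
    (2,1),(0,1),(2,2),(0,2)],
   [(120,2),(0,1),(2,1),(0,2),(2,2),(0,1),(2,1),(0,2),(2,2),(0,1),(2,1),(0,2),(2,2),(0,1),(2,1),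
    (0,2),(2,2),(0,1),(2,1),(0,2),(2,2),(0,1),(2,1),(0,2),(2,2),(0,1),(2,1),(0,2),(2,2),(0,1),
    (2,1),(0,2),(2,2),(0,1),(2,1),(0,2),(2,2),(0,1),(2,1),(0,2),(2,2),(0,1),(2,1),(0,2),(2,2),
    (0,1),(2,1),(0,2),(2,1),(0,2),(2,2),(0,1),(2,1),(0,2),(2,2),(0,1),(2,1),(0,2),(2,2),(0,1),
    (2,1),(0,2),(2,2),(0,1)],
   [(122,1),(0,1),(2,2),(0,2),(2,2),(0,2),(2,1),(0,1),(2,2),(0,2),(2,1),(0,1),(2,1),(0,1),(2,2),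
    (0,2),(2,1),(0,1),(2,2),(0,2),(2,2),(0,2),(2,1),(0,1),(2,2),(0,2),(2,1),(0,1),(2,1),(0,1),
    (2,2),(0,2),(2,1),(0,1),(2,2),(0,2),(2,2),(0,2),(2,1),(0,1),(2,2),(0,2),(2,1),(0,1),(2,1),
    (0,1),(2,2),(0,2),(2,2),(0,2),(2,1),(0,1),(2,1),(0,1),(2,2),(0,2),(2,1),(0,1),(2,2),(0,2),
    (2,2),(0,2),(2,1),(0,1)],
   [(122,1),(0,2),(2,2),(0,1),(2,2),(0,1),(2,1),(0,2),(2,2),(0,1),(2,1),(0,2),(2,1),(0,2),(2,2),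
    (0,1),(2,1),(0,2),(2,2),(0,1),(2,2),(0,1),(2,1),(0,2),(2,2),(0,1),(2,1),(0,2),(2,1),(0,2),
    (2,2),(0,1),(2,1),(0,2),(2,2),(0,1),(2,2),(0,1),(2,1),(0,2),(2,2),(0,1),(2,1),(0,2),(2,1),
    (0,2),(2,2),(0,1),(2,2),(0,1),(2,1),(0,2),(2,1),(0,2),(2,2),(0,1),(2,1),(0,2),(2,2),(0,1),
    (2,2),(0,1),(2,1),(0,2)],
   [(120,2),(0,2),(2,2),(0,2),(2,1),(0,1),(2,1),(0,1),(2,1),(0,1),(2,1),(0,1),(2,2),(0,2),(2,2),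
    (0,2),(2,2),(0,2),(2,2),(0,2),(2,1),(0,1),(2,1),(0,1),(2,1),(0,1),(2,1),(0,1),(2,2),(0,2),
    (2,2),(0,2),(2,2),(0,2),(2,2),(0,2),(2,1),(0,1),(2,1),(0,1),(2,1),(0,1),(2,1),(0,1),(2,2),
    (0,2),(2,2),(0,2),(2,1),(0,1),(2,1),(0,1),(2,2),(0,2),(2,2),(0,2),(2,2),(0,2),(2,2),(0,2),
    (2,1),(0,1),(2,1),(0,1)],
   [(120,2),(0,1),(2,2),(0,1),(2,1),(0,2),(2,1),(0,2),(2,1),(0,2),(2,1),(0,2),(2,2),(0,1),(2,2),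
    (0,1),(2,2),(0,1),(2,2),(0,1),(2,1),(0,2),(2,1),(0,2),(2,1),(0,2),(2,1),(0,2),(2,2),(0,1),
    (2,2),(0,1),(2,2),(0,1),(2,2),(0,1),(2,1),(0,2),(2,1),(0,2),(2,1),(0,2),(2,1),(0,2),(2,2),
    (0,1),(2,2),(0,1),(2,1),(0,2),(2,1),(0,2),(2,2),(0,1),(2,2),(0,1),(2,2),(0,1),(2,2),(0,1),
    (2,1),(0,2),(2,1),(0,2)],
   [(122,1),(0,1),(2,1),(0,1),(2,2),(0,2),(2,2),(0,2),(2,2),(0,2),(2,2),(0,2),(2,1),(0,1),(2,1),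
    (0,1),(2,1),(0,1),(2,1),(0,1),(2,2),(0,2),(2,2),(0,2),(2,2),(0,2),(2,2),(0,2),(2,1),(0,1),
    (2,1),(0,1),(2,1),(0,1),(2,1),(0,1),(2,2),(0,2),(2,2),(0,2),(2,2),(0,2),(2,2),(0,2),(2,1),
    (0,1),(2,1),(0,1),(2,2),(0,2),(2,2),(0,2),(2,1),(0,1),(2,1),(0,1),(2,1),(0,1),(2,1),(0,1),
    (2,2),(0,2),(2,2),(0,2)],
   [(122,1),(0,2),(2,1),(0,2),(2,2),(0,1),(2,2),(0,1),(2,2),(0,1),(2,2),(0,1),(2,1),(0,2),(2,1),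
    (0,2),(2,1),(0,2),(2,1),(0,2),(2,2),(0,1),(2,2),(0,1),(2,2),(0,1),(2,2),(0,1),(2,1),(0,2),
    (2,1),(0,2),(2,1),(0,2),(2,1),(0,2),(2,2),(0,1),(2,2),(0,1),(2,2),(0,1),(2,2),(0,1),(2,1),
    (0,2),(2,1),(0,2),(2,2),(0,1),(2,2),(0,1),(2,1),(0,2),(2,1),(0,2),(2,1),(0,2),(2,1),(0,2),
    (2,2),(0,1),(2,2),(0,1)],
   [(120,1),(0,1),(2,2),(0,2),(2,2),(0,2),(2,1),(0,1),(2,2),(0,2),(2,1),(0,1),(2,1),(0,1),(2,2),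
    (0,2),(2,1),(0,1),(2,2),(0,2),(2,2),(0,2),(2,1),(0,1),(2,2),(0,2),(2,1),(0,1),(2,1),(0,1),
    (2,2),(0,2),(2,1),(0,1),(2,2),(0,2),(2,2),(0,2),(2,1),(0,1),(2,2),(0,2),(2,1),(0,1),(2,1),
    (0,1),(2,2),(0,2),(2,2),(0,2),(2,1),(0,1),(2,1),(0,1),(2,2),(0,2),(2,1),(0,1),(2,2),(0,2),
    (2,2),(0,2),(2,1),(0,1)],
   [(120,1),(0,2),(2,2),(0,1),(2,2),(0,1),(2,1),(0,2),(2,2),(0,1),(2,1),(0,2),(2,1),(0,2),(2,2),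
    (0,1),(2,1),(0,2),(2,2),(0,1),(2,2),(0,1),(2,1),(0,2),(2,2),(0,1),(2,1),(0,2),(2,1),(0,2),
    (2,2),(0,1),(2,1),(0,2),(2,2),(0,1),(2,2),(0,1),(2,1),(0,2),(2,2),(0,1),(2,1),(0,2),(2,1),
    (0,2),(2,2),(0,1),(2,2),(0,1),(2,1),(0,2),(2,1),(0,2),(2,2),(0,1),(2,1),(0,2),(2,2),(0,1),
    (2,2),(0,1),(2,1),(0,2)],
   [(122,1),(0,1),(2,2),(0,2),(2,2),(0,2),(2,1),(0,1),(2,1),(0,1),(2,2),(0,2),(2,2),(0,2),(2,1),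
    (0,1),(2,1),(0,1),(2,2),(0,2),(2,2),(0,2),(2,1),(0,1),(2,1),(0,1),(2,2),(0,2),(2,2),(0,2),
    (2,1),(0,1),(2,1),(0,1),(2,2),(0,2),(2,2),(0,2),(2,1),(0,1),(2,1),(0,1),(2,2),(0,2),(2,2),
    (0,2),(2,1),(0,1),(2,2),(0,2),(2,1),(0,1),(2,1),(0,1),(2,2),(0,2),(2,2),(0,2),(2,1),(0,1),
    (2,1),(0,1),(2,2),(0,2)],
   [(122,1),(0,2),(2,2),(0,1),(2,2),(0,1),(2,1),(0,2),(2,1),(0,2),(2,2),(0,1),(2,2),(0,1),(2,1),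
    (0,2),(2,1),(0,2),(2,2),(0,1),(2,2),(0,1),(2,1),(0,2),(2,1),(0,2),(2,2),(0,1),(2,2),(0,1),
    (2,1),(0,2),(2,1),(0,2),(2,2),(0,1),(2,2),(0,1),(2,1),(0,2),(2,1),(0,2),(2,2),(0,1),(2,2),
    (0,1),(2,1),(0,2),(2,2),(0,1),(2,1),(0,2),(2,1),(0,2),(2,2),(0,1),(2,2),(0,1),(2,1),(0,2),
    (2,1),(0,2),(2,2),(0,1)],
   [(120,2),(0,2),(2,2),(0,2),(2,1),(0,1),(2,1),(0,1),(2,2),(0,2),(2,2),(0,2),(2,1),(0,1),(2,1),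
    (0,1),(2,2),(0,2),(2,2),(0,2),(2,1),(0,1),(2,1),(0,1),(2,2),(0,2),(2,2),(0,2),(2,1),(0,1),
    (2,1),(0,1),(2,2),(0,2),(2,2),(0,2),(2,1),(0,1),(2,1),(0,1),(2,2),(0,2),(2,2),(0,2),(2,1),
    (0,1),(2,1),(0,1),(2,1),(0,1),(2,1),(0,1),(2,2),(0,2),(2,2),(0,2),(2,1),(0,1),(2,1),(0,1),
    (2,2),(0,2),(2,2),(0,2)],
   [(120,2),(0,1),(2,2),(0,1),(2,1),(0,2),(2,1),(0,2),(2,2),(0,1),(2,2),(0,1),(2,1),(0,2),(2,1),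
    (0,2),(2,2),(0,1),(2,2),(0,1),(2,1),(0,2),(2,1),(0,2),(2,2),(0,1),(2,2),(0,1),(2,1),(0,2),
    (2,1),(0,2),(2,2),(0,1),(2,2),(0,1),(2,1),(0,2),(2,1),(0,2),(2,2),(0,1),(2,2),(0,1),(2,1),
    (0,2),(2,1),(0,2),(2,1),(0,2),(2,1),(0,2),(2,2),(0,1),(2,2),(0,1),(2,1),(0,2),(2,1),(0,2),
    (2,2),(0,1),(2,2),(0,1)],
   [(122,1),(0,1),(2,1),(0,1),(2,2),(0,2),(2,2),(0,2),(2,1),(0,1),(2,1),(0,1),(2,2),(0,2),(2,2),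
    (0,2),(2,1),(0,1),(2,1),(0,1),(2,2),(0,2),(2,2),(0,2),(2,1),(0,1),(2,1),(0,1),(2,2),(0,2),
    (2,2),(0,2),(2,1),(0,1),(2,1),(0,1),(2,2),(0,2),(2,2),(0,2),(2,1),(0,1),(2,1),(0,1),(2,2),
    (0,2),(2,2),(0,2),(2,2),(0,2),(2,2),(0,2),(2,1),(0,1),(2,1),(0,1),(2,2),(0,2),(2,2),(0,2),
    (2,1),(0,1),(2,1),(0,1)],
   [(122,1),(0,2),(2,1),(0,2),(2,2),(0,1),(2,2),(0,1),(2,1),(0,2),(2,1),(0,2),(2,2),(0,1),(2,2),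
    (0,1),(2,1),(0,2),(2,1),(0,2),(2,2),(0,1),(2,2),(0,1),(2,1),(0,2),(2,1),(0,2),(2,2),(0,1),
    (2,2),(0,1),(2,1),(0,2),(2,1),(0,2),(2,2),(0,1),(2,2),(0,1),(2,1),(0,2),(2,1),(0,2),(2,2),
    (0,1),(2,2),(0,1),(2,2),(0,1),(2,2),(0,1),(2,1),(0,2),(2,1),(0,2),(2,2),(0,1),(2,2),(0,1),
    (2,1),(0,2),(2,1),(0,2)],
   [(120,1),(0,1),(2,2),(0,2),(2,2),(0,2),(2,1),(0,1),(2,1),(0,1),(2,2),(0,2),(2,2),(0,2),(2,1),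
    (0,1),(2,1),(0,1),(2,2),(0,2),(2,2),(0,2),(2,1),(0,1),(2,1),(0,1),(2,2),(0,2),(2,2),(0,2),
    (2,1),(0,1),(2,1),(0,1),(2,2),(0,2),(2,2),(0,2),(2,1),(0,1),(2,1),(0,1),(2,2),(0,2),(2,2),
    (0,2),(2,1),(0,1),(2,2),(0,2),(2,1),(0,1),(2,1),(0,1),(2,2),(0,2),(2,2),(0,2),(2,1),(0,1),
    (2,1),(0,1),(2,2),(0,2)],
   [(120,1),(0,2),(2,2),(0,1),(2,2),(0,1),(2,1),(0,2),(2,1),(0,2),(2,2),(0,1),(2,2),(0,1),(2,1),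
    (0,2),(2,1),(0,2),(2,2),(0,1),(2,2),(0,1),(2,1),(0,2),(2,1),(0,2),(2,2),(0,1),(2,2),(0,1),
    (2,1),(0,2),(2,1),(0,2),(2,2),(0,1),(2,2),(0,1),(2,1),(0,2),(2,1),(0,2),(2,2),(0,1),(2,2),
    (0,1),(2,1),(0,2),(2,2),(0,1),(2,1),(0,2),(2,1),(0,2),(2,2),(0,1),(2,2),(0,1),(2,1),(0,2),
    (2,1),(0,2),(2,2),(0,1)],
   [(122,1),(0,1),(2,2),(0,2),(2,1),(0,1),(2,2),(0,2),(2,2),(0,2),(2,1),(0,1),(2,2),(0,2),(2,1),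
    (0,1),(2,1),(0,1),(2,2),(0,2),(2,1),(0,1),(2,2),(0,2),(2,2),(0,2),(2,1),(0,1),(2,2),(0,2),
    (2,1),(0,1),(2,2),(0,2),(2,1),(0,1),(2,2),(0,2),(2,1),(0,1),(2,1),(0,1),(2,2),(0,2),(2,1),
    (0,1),(2,2),(0,2),(2,1),(0,1),(2,2),(0,2),(2,1),(0,1),(2,2),(0,2),(2,2),(0,2),(2,1),(0,1),
    (2,2),(0,2),(2,1),(0,1)],
   [(122,1),(0,2),(2,2),(0,1),(2,1),(0,2),(2,2),(0,1),(2,2),(0,1),(2,1),(0,2),(2,2),(0,1),(2,1),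
    (0,2),(2,1),(0,2),(2,2),(0,1),(2,1),(0,2),(2,2),(0,1),(2,2),(0,1),(2,1),(0,2),(2,2),(0,1),
    (2,1),(0,2),(2,2),(0,1),(2,1),(0,2),(2,2),(0,1),(2,1),(0,2),(2,1),(0,2),(2,2),(0,1),(2,1),
    (0,2),(2,2),(0,1),(2,1),(0,2),(2,2),(0,1),(2,1),(0,2),(2,2),(0,1),(2,2),(0,1),(2,1),(0,2),
    (2,2),(0,1),(2,1),(0,2)],
   [(120,2),(0,2),(2,2),(0,2),(2,2),(0,2),(2,2),(0,2),(2,1),(0,1),(2,1),(0,1),(2,1),(0,1),(2,1),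
    (0,1),(2,2),(0,2),(2,2),(0,2),(2,2),(0,2),(2,2),(0,2),(2,1),(0,1),(2,1),(0,1),(2,1),(0,1),
    (2,1),(0,1),(2,1),(0,1),(2,1),(0,1),(2,1),(0,1),(2,1),(0,1),(2,2),(0,2),(2,2),(0,2),(2,2),
    (0,2),(2,2),(0,2),(2,2),(0,2),(2,2),(0,2),(2,2),(0,2),(2,2),(0,2),(2,1),(0,1),(2,1),(0,1),
    (2,1),(0,1),(2,1),(0,1)]]

/-- Rows of a matrix. -/
def matU5 : List (List (ℕ × ℕ)) :=
  [[(120,2),(0,1),(2,2),(0,1),(2,2),(0,1),(2,2),(0,1),(2,1),(0,2),(2,1),(0,2),(2,1),(0,2),(2,1),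
    (0,2),(2,2),(0,1),(2,2),(0,1),(2,2),(0,1),(2,2),(0,1),(2,1),(0,2),(2,1),(0,2),(2,1),(0,2),
    (2,1),(0,2),(2,1),(0,2),(2,1),(0,2),(2,1),(0,2),(2,1),(0,2),(2,2),(0,1),(2,2),(0,1),(2,2),
    (0,1),(2,2),(0,1),(2,2),(0,1),(2,2),(0,1),(2,2),(0,1),(2,2),(0,1),(2,1),(0,2),(2,1),(0,2),
    (2,1),(0,2),(2,1),(0,2)],
   [(122,1),(0,1),(2,1),(0,1),(2,1),(0,1),(2,1),(0,1),(2,2),(0,2),(2,2),(0,2),(2,2),(0,2),(2,2),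
    (0,2),(2,1),(0,1),(2,1),(0,1),(2,1),(0,1),(2,1),(0,1),(2,2),(0,2),(2,2),(0,2),(2,2),(0,2),
    (2,2),(0,2),(2,2),(0,2),(2,2),(0,2),(2,2),(0,2),(2,2),(0,2),(2,1),(0,1),(2,1),(0,1),(2,1),
    (0,1),(2,1),(0,1),(2,1),(0,1),(2,1),(0,1),(2,1),(0,1),(2,1),(0,1),(2,2),(0,2),(2,2),(0,2),
    (2,2),(0,2),(2,2),(0,2)],
   [(122,1),(0,2),(2,1),(0,2),(2,1),(0,2),(2,1),(0,2),(2,2),(0,1),(2,2),(0,1),(2,2),(0,1),(2,2),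
    (0,1),(2,1),(0,2),(2,1),(0,2),(2,1),(0,2),(2,1),(0,2),(2,2),(0,1),(2,2),(0,1),(2,2),(0,1),
    (2,2),(0,1),(2,2),(0,1),(2,2),(0,1),(2,2),(0,1),(2,2),(0,1),(2,1),(0,2),(2,1),(0,2),(2,1),
    (0,2),(2,1),(0,2),(2,1),(0,2),(2,1),(0,2),(2,1),(0,2),(2,1),(0,2),(2,2),(0,1),(2,2),(0,1),
    (2,2),(0,1),(2,2),(0,1)],
   [(120,1),(0,1),(2,2),(0,2),(2,1),(0,1),(2,2),(0,2),(2,2),(0,2),(2,1),(0,1),(2,2),(0,2),(2,1),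
    (0,1),(2,1),(0,1),(2,2),(0,2),(2,1),(0,1),(2,2),(0,2),(2,2),(0,2),(2,1),(0,1),(2,2),(0,2),
    (2,1),(0,1),(2,2),(0,2),(2,1),(0,1),(2,2),(0,2),(2,1),(0,1),(2,1),(0,1),(2,2),(0,2),(2,1),
    (0,1),(2,2),(0,2),(2,1),(0,1),(2,2),(0,2),(2,1),(0,1),(2,2),(0,2),(2,2),(0,2),(2,1),(0,1),
    (2,2),(0,2),(2,1),(0,1)],
   [(120,1),(0,2),(2,2),(0,1),(2,1),(0,2),(2,2),(0,1),(2,2),(0,1),(2,1),(0,2),(2,2),(0,1),(2,1),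
    (0,2),(2,1),(0,2),(2,2),(0,1),(2,1),(0,2),(2,2),(0,1),(2,2),(0,1),(2,1),(0,2),(2,2),(0,1),
    (2,1),(0,2),(2,2),(0,1),(2,1),(0,2),(2,2),(0,1),(2,1),(0,2),(2,1),(0,2),(2,2),(0,1),(2,1),
    (0,2),(2,2),(0,1),(2,1),(0,2),(2,2),(0,1),(2,1),(0,2),(2,2),(0,1),(2,2),(0,1),(2,1),(0,2),
    (2,2),(0,1),(2,1),(0,2)],
   [(122,1),(0,1),(2,2),(0,2),(2,1),(0,1),(2,2),(0,2),(2,1),(0,1),(2,2),(0,2),(2,1),(0,1),(2,2),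
    (0,2),(2,1),(0,1),(2,2),(0,2),(2,1),(0,1),(2,2),(0,2),(2,1),(0,1),(2,2),(0,2),(2,1),(0,1),
    (2,2),(0,2),(2,2),(0,2),(2,1),(0,1),(2,2),(0,2),(2,1),(0,1),(2,2),(0,2),(2,1),(0,1),(2,2),
    (0,2),(2,1),(0,1),(2,1),(0,1),(2,2),(0,2),(2,1),(0,1),(2,2),(0,2),(2,1),(0,1),(2,2),(0,2),
    (2,1),(0,1),(2,2),(0,2)],
   [(122,1),(0,2),(2,2),(0,1),(2,1),(0,2),(2,2),(0,1),(2,1),(0,2),(2,2),(0,1),(2,1),(0,2),(2,2),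
    (0,1),(2,1),(0,2),(2,2),(0,1),(2,1),(0,2),(2,2),(0,1),(2,1),(0,2),(2,2),(0,1),(2,1),(0,2),
    (2,2),(0,1),(2,2),(0,1),(2,1),(0,2),(2,2),(0,1),(2,1),(0,2),(2,2),(0,1),(2,1),(0,2),(2,2),
    (0,1),(2,1),(0,2),(2,1),(0,2),(2,2),(0,1),(2,1),(0,2),(2,2),(0,1),(2,1),(0,2),(2,2),(0,1),
    (2,1),(0,2),(2,2),(0,1)],
   [(120,2),(0,2),(2,2),(0,2),(2,2),(0,2),(2,2),(0,2),(2,2),(0,2),(2,2),(0,2),(2,2),(0,2),(2,2),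
    (0,2),(2,2),(0,2),(2,2),(0,2),(2,2),(0,2),(2,2),(0,2),(2,2),(0,2),(2,2),(0,2),(2,2),(0,2),
    (2,2),(0,2),(2,1),(0,1),(2,1),(0,1),(2,1),(0,1),(2,1),(0,1),(2,1),(0,1),(2,1),(0,1),(2,1),
    (0,1),(2,1),(0,1),(2,2),(0,2),(2,2),(0,2),(2,2),(0,2),(2,2),(0,2),(2,2),(0,2),(2,2),(0,2),
    (2,2),(0,2),(2,2),(0,2)],
   [(120,2),(0,1),(2,2),(0,1),(2,2),(0,1),(2,2),(0,1),(2,2),(0,1),(2,2),(0,1),(2,2),(0,1),(2,2),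
    (0,1),(2,2),(0,1),(2,2),(0,1),(2,2),(0,1),(2,2),(0,1),(2,2),(0,1),(2,2),(0,1),(2,2),(0,1),
    (2,2),(0,1),(2,1),(0,2),(2,1),(0,2),(2,1),(0,2),(2,1),(0,2),(2,1),(0,2),(2,1),(0,2),(2,1),
    (0,2),(2,1),(0,2),(2,2),(0,1),(2,2),(0,1),(2,2),(0,1),(2,2),(0,1),(2,2),(0,1),(2,2),(0,1),
    (2,2),(0,1),(2,2),(0,1)],
   [(122,1),(0,1),(2,1),(0,1),(2,1),(0,1),(2,1),(0,1),(2,1),(0,1),(2,1),(0,1),(2,1),(0,1),(2,1),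
    (0,1),(2,1),(0,1),(2,1),(0,1),(2,1),(0,1),(2,1),(0,1),(2,1),(0,1),(2,1),(0,1),(2,1),(0,1),
    (2,1),(0,1),(2,2),(0,2),(2,2),(0,2),(2,2),(0,2),(2,2),(0,2),(2,2),(0,2),(2,2),(0,2),(2,2),
    (0,2),(2,2),(0,2),(2,1),(0,1),(2,1),(0,1),(2,1),(0,1),(2,1),(0,1),(2,1),(0,1),(2,1),(0,1),
    (2,1),(0,1),(2,1),(0,1)],
   [(122,1),(0,2),(2,1),(0,2),(2,1),(0,2),(2,1),(0,2),(2,1),(0,2),(2,1),(0,2),(2,1),(0,2),(2,1),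
    (0,2),(2,1),(0,2),(2,1),(0,2),(2,1),(0,2),(2,1),(0,2),(2,1),(0,2),(2,1),(0,2),(2,1),(0,2),
    (2,1),(0,2),(2,2),(0,1),(2,2),(0,1),(2,2),(0,1),(2,2),(0,1),(2,2),(0,1),(2,2),(0,1),(2,2),
    (0,1),(2,2),(0,1),(2,1),(0,2),(2,1),(0,2),(2,1),(0,2),(2,1),(0,2),(2,1),(0,2),(2,1),(0,2),
    (2,1),(0,2),(2,1),(0,2)],
   [(120,1),(0,1),(2,2),(0,2),(2,1),(0,1),(2,2),(0,2),(2,1),(0,1),(2,2),(0,2),(2,1),(0,1),(2,2),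
    (0,2),(2,1),(0,1),(2,2),(0,2),(2,1),(0,1),(2,2),(0,2),(2,1),(0,1),(2,2),(0,2),(2,1),(0,1),
    (2,2),(0,2),(2,2),(0,2),(2,1),(0,1),(2,2),(0,2),(2,1),(0,1),(2,2),(0,2),(2,1),(0,1),(2,2),
    (0,2),(2,1),(0,1),(2,1),(0,1),(2,2),(0,2),(2,1),(0,1),(2,2),(0,2),(2,1),(0,1),(2,2),(0,2),
    (2,1),(0,1),(2,2),(0,2)],
   [(120,1),(0,2),(2,2),(0,1),(2,1),(0,2),(2,2),(0,1),(2,1),(0,2),(2,2),(0,1),(2,1),(0,2),(2,2),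
    (0,1),(2,1),(0,2),(2,2),(0,1),(2,1),(0,2),(2,2),(0,1),(2,1),(0,2),(2,2),(0,1),(2,1),(0,2),
    (2,2),(0,1),(2,2),(0,1),(2,1),(0,2),(2,2),(0,1),(2,1),(0,2),(2,2),(0,1),(2,1),(0,2),(2,2),
    (0,1),(2,1),(0,2),(2,1),(0,2),(2,2),(0,1),(2,1),(0,2),(2,2),(0,1),(2,1),(0,2),(2,2),(0,1),
    (2,1),(0,2),(2,2),(0,1)],
   [(122,2),(0,2),(2,1),(0,1),(2,1),(0,1),(2,2),(0,2),(2,1),(0,1),(2,2),(0,2),(2,2),(0,2),(2,1),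
    (0,1),(2,2),(0,2),(2,1),(0,1),(2,1),(0,1),(2,2),(0,2),(2,1),(0,1),(2,2),(0,2),(2,2),(0,2),
    (2,1),(0,1),(2,1),(0,1),(2,2),(0,2),(2,2),(0,2),(2,1),(0,1),(2,2),(0,2),(2,1),(0,1),(2,1),
    (0,1),(2,2),(0,2),(2,2),(0,2),(2,1),(0,1),(2,1),(0,1),(2,2),(0,2),(2,1),(0,1),(2,2),(0,2),
    (2,2),(0,2),(2,1),(0,1)],
   [(122,2),(0,1),(2,1),(0,2),(2,1),(0,2),(2,2),(0,1),(2,1),(0,2),(2,2),(0,1),(2,2),(0,1),(2,1),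
    (0,2),(2,2),(0,1),(2,1),(0,2),(2,1),(0,2),(2,2),(0,1),(2,1),(0,2),(2,2),(0,1),(2,2),(0,1),
    (2,1),(0,2),(2,1),(0,2),(2,2),(0,1),(2,2),(0,1),(2,1),(0,2),(2,2),(0,1),(2,1),(0,2),(2,1),
    (0,2),(2,2),(0,1),(2,2),(0,1),(2,1),(0,2),(2,1),(0,2),(2,2),(0,1),(2,1),(0,2),(2,2),(0,1),
    (2,2),(0,1),(2,1),(0,2)],
   [(120,1),(0,1),(2,1),(0,1),(2,2),(0,2),(2,2),(0,2),(2,2),(0,2),(2,2),(0,2),(2,1),(0,1),(2,1),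
    (0,1),(2,1),(0,1),(2,1),(0,1),(2,2),(0,2),(2,2),(0,2),(2,2),(0,2),(2,2),(0,2),(2,1),(0,1),
    (2,1),(0,1),(2,2),(0,2),(2,2),(0,2),(2,1),(0,1),(2,1),(0,1),(2,1),(0,1),(2,1),(0,1),(2,2),
    (0,2),(2,2),(0,2),(2,1),(0,1),(2,1),(0,1),(2,2),(0,2),(2,2),(0,2),(2,2),(0,2),(2,2),(0,2),
    (2,1),(0,1),(2,1),(0,1)],
   [(120,1),(0,2),(2,1),(0,2),(2,2),(0,1),(2,2),(0,1),(2,2),(0,1),(2,2),(0,1),(2,1),(0,2),(2,1),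
    (0,2),(2,1),(0,2),(2,1),(0,2),(2,2),(0,1),(2,2),(0,1),(2,2),(0,1),(2,2),(0,1),(2,1),(0,2),
    (2,1),(0,2),(2,2),(0,1),(2,2),(0,1),(2,1),(0,2),(2,1),(0,2),(2,1),(0,2),(2,1),(0,2),(2,2),
    (0,1),(2,2),(0,1),(2,1),(0,2),(2,1),(0,2),(2,2),(0,1),(2,2),(0,1),(2,2),(0,1),(2,2),(0,1),
    (2,1),(0,2),(2,1),(0,2)],
   [(122,2),(0,2),(2,2),(0,2),(2,1),(0,1),(2,1),(0,1),(2,1),(0,1),(2,1),(0,1),(2,2),(0,2),(2,2),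
    (0,2),(2,2),(0,2),(2,2),(0,2),(2,1),(0,1),(2,1),(0,1),(2,1),(0,1),(2,1),(0,1),(2,2),(0,2),
    (2,2),(0,2),(2,1),(0,1),(2,1),(0,1),(2,2),(0,2),(2,2),(0,2),(2,2),(0,2),(2,2),(0,2),(2,1),
    (0,1),(2,1),(0,1),(2,2),(0,2),(2,2),(0,2),(2,1),(0,1),(2,1),(0,1),(2,1),(0,1),(2,1),(0,1),
    (2,2),(0,2),(2,2),(0,2)],
   [(122,2),(0,1),(2,2),(0,1),(2,1),(0,2),(2,1),(0,2),(2,1),(0,2),(2,1),(0,2),(2,2),(0,1),(2,2),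
    (0,1),(2,2),(0,1),(2,2),(0,1),(2,1),(0,2),(2,1),(0,2),(2,1),(0,2),(2,1),(0,2),(2,2),(0,1),
    (2,2),(0,1),(2,1),(0,2),(2,1),(0,2),(2,2),(0,1),(2,2),(0,1),(2,2),(0,1),(2,2),(0,1),(2,1),
    (0,2),(2,1),(0,2),(2,2),(0,1),(2,2),(0,1),(2,1),(0,2),(2,1),(0,2),(2,1),(0,2),(2,1),(0,2),
    (2,2),(0,1),(2,2),(0,1)],
   [(120,2),(0,2),(2,1),(0,1),(2,1),(0,1),(2,2),(0,2),(2,1),(0,1),(2,2),(0,2),(2,2),(0,2),(2,1),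
    (0,1),(2,2),(0,2),(2,1),(0,1),(2,1),(0,1),(2,2),(0,2),(2,1),(0,1),(2,2),(0,2),(2,2),(0,2),
    (2,1),(0,1),(2,1),(0,1),(2,2),(0,2),(2,2),(0,2),(2,1),(0,1),(2,2),(0,2),(2,1),(0,1),(2,1),
    (0,1),(2,2),(0,2),(2,2),(0,2),(2,1),(0,1),(2,1),(0,1),(2,2),(0,2),(2,1),(0,1),(2,2),(0,2),
    (2,2),(0,2),(2,1),(0,1)],
   [(120,2),(0,1),(2,1),(0,2),(2,1),(0,2),(2,2),(0,1),(2,1),(0,2),(2,2),(0,1),(2,2),(0,1),(2,1),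
    (0,2),(2,2),(0,1),(2,1),(0,2),(2,1),(0,2),(2,2),(0,1),(2,1),(0,2),(2,2),(0,1),(2,2),(0,1),
    (2,1),(0,2),(2,1),(0,2),(2,2),(0,1),(2,2),(0,1),(2,1),(0,2),(2,2),(0,1),(2,1),(0,2),(2,1),
    (0,2),(2,2),(0,1),(2,2),(0,1),(2,1),(0,2),(2,1),(0,2),(2,2),(0,1),(2,1),(0,2),(2,2),(0,1),
    (2,2),(0,1),(2,1),(0,2)],
   [(122,2),(0,2),(2,1),(0,1),(2,1),(0,1),(2,2),(0,2),(2,2),(0,2),(2,1),(0,1),(2,1),(0,1),(2,2),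
    (0,2),(2,2),(0,2),(2,1),(0,1),(2,1),(0,1),(2,2),(0,2),(2,2),(0,2),(2,1),(0,1),(2,1),(0,1),
    (2,2),(0,2),(2,1),(0,1),(2,2),(0,2),(2,2),(0,2),(2,1),(0,1),(2,1),(0,1),(2,2),(0,2),(2,2),
    (0,2),(2,1),(0,1),(2,2),(0,2),(2,1),(0,1),(2,1),(0,1),(2,2),(0,2),(2,2),(0,2),(2,1),(0,1),
    (2,1),(0,1),(2,2),(0,2)],
   [(122,2),(0,1),(2,1),(0,2),(2,1),(0,2),(2,2),(0,1),(2,2),(0,1),(2,1),(0,2),(2,1),(0,2),(2,2),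
    (0,1),(2,2),(0,1),(2,1),(0,2),(2,1),(0,2),(2,2),(0,1),(2,2),(0,1),(2,1),(0,2),(2,1),(0,2),
    (2,2),(0,1),(2,1),(0,2),(2,2),(0,1),(2,2),(0,1),(2,1),(0,2),(2,1),(0,2),(2,2),(0,1),(2,2),
    (0,1),(2,1),(0,2),(2,2),(0,1),(2,1),(0,2),(2,1),(0,2),(2,2),(0,1),(2,2),(0,1),(2,1),(0,2),
    (2,1),(0,2),(2,2),(0,1)],
   [(120,1),(0,1),(2,1),(0,1),(2,2),(0,2),(2,2),(0,2),(2,1),(0,1),(2,1),(0,1),(2,2),(0,2),(2,2),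
    (0,2),(2,1),(0,1),(2,1),(0,1),(2,2),(0,2),(2,2),(0,2),(2,1),(0,1),(2,1),(0,1),(2,2),(0,2),
    (2,2),(0,2),(2,2),(0,2),(2,2),(0,2),(2,1),(0,1),(2,1),(0,1),(2,2),(0,2),(2,2),(0,2),(2,1),
    (0,1),(2,1),(0,1),(2,1),(0,1),(2,1),(0,1),(2,2),(0,2),(2,2),(0,2),(2,1),(0,1),(2,1),(0,1),
    (2,2),(0,2),(2,2),(0,2)],
   [(120,1),(0,2),(2,1),(0,2),(2,2),(0,1),(2,2),(0,1),(2,1),(0,2),(2,1),(0,2),(2,2),(0,1),(2,2),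
    (0,1),(2,1),(0,2),(2,1),(0,2),(2,2),(0,1),(2,2),(0,1),(2,1),(0,2),(2,1),(0,2),(2,2),(0,1),
    (2,2),(0,1),(2,2),(0,1),(2,2),(0,1),(2,1),(0,2),(2,1),(0,2),(2,2),(0,1),(2,2),(0,1),(2,1),
    (0,2),(2,1),(0,2),(2,1),(0,2),(2,1),(0,2),(2,2),(0,1),(2,2),(0,1),(2,1),(0,2),(2,1),(0,2),
    (2,2),(0,1),(2,2),(0,1)],
   [(122,2),(0,2),(2,2),(0,2),(2,1),(0,1),(2,1),(0,1),(2,2),(0,2),(2,2),(0,2),(2,1),(0,1),(2,1),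
    (0,1),(2,2),(0,2),(2,2),(0,2),(2,1),(0,1),(2,1),(0,1),(2,2),(0,2),(2,2),(0,2),(2,1),(0,1),
    (2,1),(0,1),(2,1),(0,1),(2,1),(0,1),(2,2),(0,2),(2,2),(0,2),(2,1),(0,1),(2,1),(0,1),(2,2),
    (0,2),(2,2),(0,2),(2,2),(0,2),(2,2),(0,2),(2,1),(0,1),(2,1),(0,1),(2,2),(0,2),(2,2),(0,2),
    (2,1),(0,1),(2,1),(0,1)],
   [(122,2),(0,1),(2,2),(0,1),(2,1),(0,2),(2,1),(0,2),(2,2),(0,1),(2,2),(0,1),(2,1),(0,2),(2,1),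
    (0,2),(2,2),(0,1),(2,2),(0,1),(2,1),(0,2),(2,1),(0,2),(2,2),(0,1),(2,2),(0,1),(2,1),(0,2),
    (2,1),(0,2),(2,1),(0,2),(2,1),(0,2),(2,2),(0,1),(2,2),(0,1),(2,1),(0,2),(2,1),(0,2),(2,2),
    (0,1),(2,2),(0,1),(2,2),(0,1),(2,2),(0,1),(2,1),(0,2),(2,1),(0,2),(2,2),(0,1),(2,2),(0,1),
    (2,1),(0,2),(2,1),(0,2)],
   [(120,2),(0,2),(2,1),(0,1),(2,1),(0,1),(2,2),(0,2),(2,2),(0,2),(2,1),(0,1),(2,1),(0,1),(2,2),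
    (0,2),(2,2),(0,2),(2,1),(0,1),(2,1),(0,1),(2,2),(0,2),(2,2),(0,2),(2,1),(0,1),(2,1),(0,1),
    (2,2),(0,2),(2,1),(0,1),(2,2),(0,2),(2,2),(0,2),(2,1),(0,1),(2,1),(0,1),(2,2),(0,2),(2,2),
    (0,2),(2,1),(0,1),(2,2),(0,2),(2,1),(0,1),(2,1),(0,1),(2,2),(0,2),(2,2),(0,2),(2,1),(0,1),
    (2,1),(0,1),(2,2),(0,2)],
   [(120,2),(0,1),(2,1),(0,2),(2,1),(0,2),(2,2),(0,1),(2,2),(0,1),(2,1),(0,2),(2,1),(0,2),(2,2),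
    (0,1),(2,2),(0,1),(2,1),(0,2),(2,1),(0,2),(2,2),(0,1),(2,2),(0,1),(2,1),(0,2),(2,1),(0,2),
    (2,2),(0,1),(2,1),(0,2),(2,2),(0,1),(2,2),(0,1),(2,1),(0,2),(2,1),(0,2),(2,2),(0,1),(2,2),
    (0,1),(2,1),(0,2),(2,2),(0,1),(2,1),(0,2),(2,1),(0,2),(2,2),(0,1),(2,2),(0,1),(2,1),(0,2),
    (2,1),(0,2),(2,2),(0,1)],
   [(122,2),(0,2),(2,1),(0,1),(2,2),(0,2),(2,1),(0,1),(2,1),(0,1),(2,2),(0,2),(2,1),(0,1),(2,2),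
    (0,2),(2,1),(0,1),(2,2),(0,2),(2,1),(0,1),(2,2),(0,2),(2,2),(0,2),(2,1),(0,1),(2,2),(0,2),
    (2,1),(0,1),(2,2),(0,2),(2,1),(0,1),(2,2),(0,2),(2,1),(0,1),(2,1),(0,1),(2,2),(0,2),(2,1),
    (0,1),(2,2),(0,2),(2,2),(0,2),(2,1),(0,1),(2,2),(0,2),(2,1),(0,1),(2,1),(0,1),(2,2),(0,2),
    (2,1),(0,1),(2,2),(0,2)],
   [(122,2),(0,1),(2,1),(0,2),(2,2),(0,1),(2,1),(0,2),(2,1),(0,2),(2,2),(0,1),(2,1),(0,2),(2,2),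
    (0,1),(2,1),(0,2),(2,2),(0,1),(2,1),(0,2),(2,2),(0,1),(2,2),(0,1),(2,1),(0,2),(2,2),(0,1),
    (2,1),(0,2),(2,2),(0,1),(2,1),(0,2),(2,2),(0,1),(2,1),(0,2),(2,1),(0,2),(2,2),(0,1),(2,1),
    (0,2),(2,2),(0,1),(2,2),(0,1),(2,1),(0,2),(2,2),(0,1),(2,1),(0,2),(2,1),(0,2),(2,2),(0,1),
    (2,1),(0,2),(2,2),(0,1)]]

/-- Rows of a matrix. -/
def matU6 : List (List (ℕ × ℕ)) :=
  [[(120,1),(0,1),(2,1),(0,1),(2,1),(0,1),(2,1),(0,1),(2,2),(0,2),(2,2),(0,2),(2,2),(0,2),(2,2),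
    (0,2),(2,2),(0,2),(2,2),(0,2),(2,2),(0,2),(2,2),(0,2),(2,1),(0,1),(2,1),(0,1),(2,1),(0,1),
    (2,1),(0,1),(2,1),(0,1),(2,1),(0,1),(2,1),(0,1),(2,1),(0,1),(2,2),(0,2),(2,2),(0,2),(2,2),
    (0,2),(2,2),(0,2),(2,1),(0,1),(2,1),(0,1),(2,1),(0,1),(2,1),(0,1),(2,2),(0,2),(2,2),(0,2),
    (2,2),(0,2),(2,2),(0,2)],
   [(120,1),(0,2),(2,1),(0,2),(2,1),(0,2),(2,1),(0,2),(2,2),(0,1),(2,2),(0,1),(2,2),(0,1),(2,2),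
    (0,1),(2,2),(0,1),(2,2),(0,1),(2,2),(0,1),(2,2),(0,1),(2,1),(0,2),(2,1),(0,2),(2,1),(0,2),
    (2,1),(0,2),(2,1),(0,2),(2,1),(0,2),(2,1),(0,2),(2,1),(0,2),(2,2),(0,1),(2,2),(0,1),(2,2),
    (0,1),(2,2),(0,1),(2,1),(0,2),(2,1),(0,2),(2,1),(0,2),(2,1),(0,2),(2,2),(0,1),(2,2),(0,1),
    (2,2),(0,1),(2,2),(0,1)],
   [(122,2),(0,2),(2,2),(0,2),(2,2),(0,2),(2,2),(0,2),(2,1),(0,1),(2,1),(0,1),(2,1),(0,1),(2,1),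
    (0,1),(2,1),(0,1),(2,1),(0,1),(2,1),(0,1),(2,1),(0,1),(2,2),(0,2),(2,2),(0,2),(2,2),(0,2),
    (2,2),(0,2),(2,2),(0,2),(2,2),(0,2),(2,2),(0,2),(2,2),(0,2),(2,1),(0,1),(2,1),(0,1),(2,1),
    (0,1),(2,1),(0,1),(2,2),(0,2),(2,2),(0,2),(2,2),(0,2),(2,2),(0,2),(2,1),(0,1),(2,1),(0,1),
    (2,1),(0,1),(2,1),(0,1)],
   [(122,2),(0,1),(2,2),(0,1),(2,2),(0,1),(2,2),(0,1),(2,1),(0,2),(2,1),(0,2),(2,1),(0,2),(2,1),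
    (0,2),(2,1),(0,2),(2,1),(0,2),(2,1),(0,2),(2,1),(0,2),(2,2),(0,1),(2,2),(0,1),(2,2),(0,1),
    (2,2),(0,1),(2,2),(0,1),(2,2),(0,1),(2,2),(0,1),(2,2),(0,1),(2,1),(0,2),(2,1),(0,2),(2,1),
    (0,2),(2,1),(0,2),(2,2),(0,1),(2,2),(0,1),(2,2),(0,1),(2,2),(0,1),(2,1),(0,2),(2,1),(0,2),
    (2,1),(0,2),(2,1),(0,2)],
   [(120,2),(0,2),(2,1),(0,1),(2,2),(0,2),(2,1),(0,1),(2,1),(0,1),(2,2),(0,2),(2,1),(0,1),(2,2),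
    (0,2),(2,1),(0,1),(2,2),(0,2),(2,1),(0,1),(2,2),(0,2),(2,2),(0,2),(2,1),(0,1),(2,2),(0,2),
    (2,1),(0,1),(2,2),(0,2),(2,1),(0,1),(2,2),(0,2),(2,1),(0,1),(2,1),(0,1),(2,2),(0,2),(2,1),
    (0,1),(2,2),(0,2),(2,2),(0,2),(2,1),(0,1),(2,2),(0,2),(2,1),(0,1),(2,1),(0,1),(2,2),(0,2),
    (2,1),(0,1),(2,2),(0,2)],
   [(120,2),(0,1),(2,1),(0,2),(2,2),(0,1),(2,1),(0,2),(2,1),(0,2),(2,2),(0,1),(2,1),(0,2),(2,2),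
    (0,1),(2,1),(0,2),(2,2),(0,1),(2,1),(0,2),(2,2),(0,1),(2,2),(0,1),(2,1),(0,2),(2,2),(0,1),
    (2,1),(0,2),(2,2),(0,1),(2,1),(0,2),(2,2),(0,1),(2,1),(0,2),(2,1),(0,2),(2,2),(0,1),(2,1),
    (0,2),(2,2),(0,1),(2,2),(0,1),(2,1),(0,2),(2,2),(0,1),(2,1),(0,2),(2,1),(0,2),(2,2),(0,1),
    (2,1),(0,2),(2,2),(0,1)],
   [(122,2),(0,2),(2,1),(0,1),(2,2),(0,2),(2,1),(0,1),(2,2),(0,2),(2,1),(0,1),(2,2),(0,2),(2,1),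
    (0,1),(2,1),(0,1),(2,2),(0,2),(2,1),(0,1),(2,2),(0,2),(2,1),(0,1),(2,2),(0,2),(2,1),(0,1),
    (2,2),(0,2),(2,2),(0,2),(2,1),(0,1),(2,2),(0,2),(2,1),(0,1),(2,2),(0,2),(2,1),(0,1),(2,2),
    (0,2),(2,1),(0,1),(2,2),(0,2),(2,1),(0,1),(2,2),(0,2),(2,1),(0,1),(2,2),(0,2),(2,1),(0,1),
    (2,2),(0,2),(2,1),(0,1)],
   [(122,2),(0,1),(2,1),(0,2),(2,2),(0,1),(2,1),(0,2),(2,2),(0,1),(2,1),(0,2),(2,2),(0,1),(2,1),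
    (0,2),(2,1),(0,2),(2,2),(0,1),(2,1),(0,2),(2,2),(0,1),(2,1),(0,2),(2,2),(0,1),(2,1),(0,2),
    (2,2),(0,1),(2,2),(0,1),(2,1),(0,2),(2,2),(0,1),(2,1),(0,2),(2,2),(0,1),(2,1),(0,2),(2,2),
    (0,1),(2,1),(0,2),(2,2),(0,1),(2,1),(0,2),(2,2),(0,1),(2,1),(0,2),(2,2),(0,1),(2,1),(0,2),
    (2,2),(0,1),(2,1),(0,2)],
   [(120,1),(0,1),(2,1),(0,1),(2,1),(0,1),(2,1),(0,1),(2,1),(0,1),(2,1),(0,1),(2,1),(0,1),(2,1),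
    (0,1),(2,2),(0,2),(2,2),(0,2),(2,2),(0,2),(2,2),(0,2),(2,2),(0,2),(2,2),(0,2),(2,2),(0,2),
    (2,2),(0,2),(2,1),(0,1),(2,1),(0,1),(2,1),(0,1),(2,1),(0,1),(2,1),(0,1),(2,1),(0,1),(2,1),
    (0,1),(2,1),(0,1),(2,1),(0,1),(2,1),(0,1),(2,1),(0,1),(2,1),(0,1),(2,1),(0,1),(2,1),(0,1),
    (2,1),(0,1),(2,1),(0,1)],
   [(120,1),(0,2),(2,1),(0,2),(2,1),(0,2),(2,1),(0,2),(2,1),(0,2),(2,1),(0,2),(2,1),(0,2),(2,1),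
    (0,2),(2,2),(0,1),(2,2),(0,1),(2,2),(0,1),(2,2),(0,1),(2,2),(0,1),(2,2),(0,1),(2,2),(0,1),
    (2,2),(0,1),(2,1),(0,2),(2,1),(0,2),(2,1),(0,2),(2,1),(0,2),(2,1),(0,2),(2,1),(0,2),(2,1),
    (0,2),(2,1),(0,2),(2,1),(0,2),(2,1),(0,2),(2,1),(0,2),(2,1),(0,2),(2,1),(0,2),(2,1),(0,2),
    (2,1),(0,2),(2,1),(0,2)],
   [(122,2),(0,2),(2,2),(0,2),(2,2),(0,2),(2,2),(0,2),(2,2),(0,2),(2,2),(0,2),(2,2),(0,2),(2,2),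
    (0,2),(2,1),(0,1),(2,1),(0,1),(2,1),(0,1),(2,1),(0,1),(2,1),(0,1),(2,1),(0,1),(2,1),(0,1),
    (2,1),(0,1),(2,2),(0,2),(2,2),(0,2),(2,2),(0,2),(2,2),(0,2),(2,2),(0,2),(2,2),(0,2),(2,2),
    (0,2),(2,2),(0,2),(2,2),(0,2),(2,2),(0,2),(2,2),(0,2),(2,2),(0,2),(2,2),(0,2),(2,2),(0,2),
    (2,2),(0,2),(2,2),(0,2)],
   [(122,2),(0,1),(2,2),(0,1),(2,2),(0,1),(2,2),(0,1),(2,2),(0,1),(2,2),(0,1),(2,2),(0,1),(2,2),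
    (0,1),(2,1),(0,2),(2,1),(0,2),(2,1),(0,2),(2,1),(0,2),(2,1),(0,2),(2,1),(0,2),(2,1),(0,2),
    (2,1),(0,2),(2,2),(0,1),(2,2),(0,1),(2,2),(0,1),(2,2),(0,1),(2,2),(0,1),(2,2),(0,1),(2,2),
    (0,1),(2,2),(0,1),(2,2),(0,1),(2,2),(0,1),(2,2),(0,1),(2,2),(0,1),(2,2),(0,1),(2,2),(0,1),
    (2,2),(0,1),(2,2),(0,1)],
   [(120,2),(0,2),(2,1),(0,1),(2,2),(0,2),(2,1),(0,1),(2,2),(0,2),(2,1),(0,1),(2,2),(0,2),(2,1),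
    (0,1),(2,1),(0,1),(2,2),(0,2),(2,1),(0,1),(2,2),(0,2),(2,1),(0,1),(2,2),(0,2),(2,1),(0,1),
    (2,2),(0,2),(2,2),(0,2),(2,1),(0,1),(2,2),(0,2),(2,1),(0,1),(2,2),(0,2),(2,1),(0,1),(2,2),
    (0,2),(2,1),(0,1),(2,2),(0,2),(2,1),(0,1),(2,2),(0,2),(2,1),(0,1),(2,2),(0,2),(2,1),(0,1),
    (2,2),(0,2),(2,1),(0,1)],
   [(120,2),(0,1),(2,1),(0,2),(2,2),(0,1),(2,1),(0,2),(2,2),(0,1),(2,1),(0,2),(2,2),(0,1),(2,1),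
    (0,2),(2,1),(0,2),(2,2),(0,1),(2,1),(0,2),(2,2),(0,1),(2,1),(0,2),(2,2),(0,1),(2,1),(0,2),
    (2,2),(0,1),(2,2),(0,1),(2,1),(0,2),(2,2),(0,1),(2,1),(0,2),(2,2),(0,1),(2,1),(0,2),(2,2),
    (0,1),(2,1),(0,2),(2,2),(0,1),(2,1),(0,2),(2,2),(0,1),(2,1),(0,2),(2,2),(0,1),(2,1),(0,2),
    (2,2),(0,1),(2,1),(0,2)],
   [(122,1),(0,1),(2,2),(0,2),(2,2),(0,2),(2,1),(0,1),(2,2),(0,2),(2,1),(0,1),(2,1),(0,1),(2,2),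
    (0,2),(2,2),(0,2),(2,1),(0,1),(2,1),(0,1),(2,2),(0,2),(2,1),(0,1),(2,2),(0,2),(2,2),(0,2),
    (2,1),(0,1),(2,1),(0,1),(2,2),(0,2),(2,2),(0,2),(2,1),(0,1),(2,2),(0,2),(2,1),(0,1),(2,1),
    (0,1),(2,2),(0,2),(2,1),(0,1),(2,2),(0,2),(2,2),(0,2),(2,1),(0,1),(2,2),(0,2),(2,1),(0,1),
    (2,1),(0,1),(2,2),(0,2)],
   [(122,1),(0,2),(2,2),(0,1),(2,2),(0,1),(2,1),(0,2),(2,2),(0,1),(2,1),(0,2),(2,1),(0,2),(2,2),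
    (0,1),(2,2),(0,1),(2,1),(0,2),(2,1),(0,2),(2,2),(0,1),(2,1),(0,2),(2,2),(0,1),(2,2),(0,1),
    (2,1),(0,2),(2,1),(0,2),(2,2),(0,1),(2,2),(0,1),(2,1),(0,2),(2,2),(0,1),(2,1),(0,2),(2,1),
    (0,2),(2,2),(0,1),(2,1),(0,2),(2,2),(0,1),(2,2),(0,1),(2,1),(0,2),(2,2),(0,1),(2,1),(0,2),
    (2,1),(0,2),(2,2),(0,1)],
   [(120,2),(0,2),(2,2),(0,2),(2,1),(0,1),(2,1),(0,1),(2,1),(0,1),(2,1),(0,1),(2,2),(0,2),(2,2),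
    (0,2),(2,1),(0,1),(2,1),(0,1),(2,2),(0,2),(2,2),(0,2),(2,2),(0,2),(2,2),(0,2),(2,1),(0,1),
    (2,1),(0,1),(2,2),(0,2),(2,2),(0,2),(2,1),(0,1),(2,1),(0,1),(2,1),(0,1),(2,1),(0,1),(2,2),
    (0,2),(2,2),(0,2),(2,2),(0,2),(2,2),(0,2),(2,1),(0,1),(2,1),(0,1),(2,1),(0,1),(2,1),(0,1),
    (2,2),(0,2),(2,2),(0,2)],
   [(120,2),(0,1),(2,2),(0,1),(2,1),(0,2),(2,1),(0,2),(2,1),(0,2),(2,1),(0,2),(2,2),(0,1),(2,2),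
    (0,1),(2,1),(0,2),(2,1),(0,2),(2,2),(0,1),(2,2),(0,1),(2,2),(0,1),(2,2),(0,1),(2,1),(0,2),
    (2,1),(0,2),(2,2),(0,1),(2,2),(0,1),(2,1),(0,2),(2,1),(0,2),(2,1),(0,2),(2,1),(0,2),(2,2),
    (0,1),(2,2),(0,1),(2,2),(0,1),(2,2),(0,1),(2,1),(0,2),(2,1),(0,2),(2,1),(0,2),(2,1),(0,2),
    (2,2),(0,1),(2,2),(0,1)],
   [(122,1),(0,1),(2,1),(0,1),(2,2),(0,2),(2,2),(0,2),(2,2),(0,2),(2,2),(0,2),(2,1),(0,1),(2,1),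
    (0,1),(2,2),(0,2),(2,2),(0,2),(2,1),(0,1),(2,1),(0,1),(2,1),(0,1),(2,1),(0,1),(2,2),(0,2),
    (2,2),(0,2),(2,1),(0,1),(2,1),(0,1),(2,2),(0,2),(2,2),(0,2),(2,2),(0,2),(2,2),(0,2),(2,1),
    (0,1),(2,1),(0,1),(2,1),(0,1),(2,1),(0,1),(2,2),(0,2),(2,2),(0,2),(2,2),(0,2),(2,2),(0,2),
    (2,1),(0,1),(2,1),(0,1)],
   [(122,1),(0,2),(2,1),(0,2),(2,2),(0,1),(2,2),(0,1),(2,2),(0,1),(2,2),(0,1),(2,1),(0,2),(2,1),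
    (0,2),(2,2),(0,1),(2,2),(0,1),(2,1),(0,2),(2,1),(0,2),(2,1),(0,2),(2,1),(0,2),(2,2),(0,1),
    (2,2),(0,1),(2,1),(0,2),(2,1),(0,2),(2,2),(0,1),(2,2),(0,1),(2,2),(0,1),(2,2),(0,1),(2,1),
    (0,2),(2,1),(0,2),(2,1),(0,2),(2,1),(0,2),(2,2),(0,1),(2,2),(0,1),(2,2),(0,1),(2,2),(0,1),
    (2,1),(0,2),(2,1),(0,2)],
   [(120,1),(0,1),(2,2),(0,2),(2,2),(0,2),(2,1),(0,1),(2,2),(0,2),(2,1),(0,1),(2,1),(0,1),(2,2),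
    (0,2),(2,2),(0,2),(2,1),(0,1),(2,1),(0,1),(2,2),(0,2),(2,1),(0,1),(2,2),(0,2),(2,2),(0,2),
    (2,1),(0,1),(2,1),(0,1),(2,2),(0,2),(2,2),(0,2),(2,1),(0,1),(2,2),(0,2),(2,1),(0,1),(2,1),
    (0,1),(2,2),(0,2),(2,1),(0,1),(2,2),(0,2),(2,2),(0,2),(2,1),(0,1),(2,2),(0,2),(2,1),(0,1),
    (2,1),(0,1),(2,2),(0,2)],
   [(120,1),(0,2),(2,2),(0,1),(2,2),(0,1),(2,1),(0,2),(2,2),(0,1),(2,1),(0,2),(2,1),(0,2),(2,2),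
    (0,1),(2,2),(0,1),(2,1),(0,2),(2,1),(0,2),(2,2),(0,1),(2,1),(0,2),(2,2),(0,1),(2,2),(0,1),
    (2,1),(0,2),(2,1),(0,2),(2,2),(0,1),(2,2),(0,1),(2,1),(0,2),(2,2),(0,1),(2,1),(0,2),(2,1),
    (0,2),(2,2),(0,1),(2,1),(0,2),(2,2),(0,1),(2,2),(0,1),(2,1),(0,2),(2,2),(0,1),(2,1),(0,2),
    (2,1),(0,2),(2,2),(0,1)],
   [(122,1),(0,1),(2,2),(0,2),(2,2),(0,2),(2,1),(0,1),(2,1),(0,1),(2,2),(0,2),(2,2),(0,2),(2,1),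
    (0,1),(2,2),(0,2),(2,1),(0,1),(2,1),(0,1),(2,2),(0,2),(2,2),(0,2),(2,1),(0,1),(2,1),(0,1),
    (2,2),(0,2),(2,1),(0,1),(2,2),(0,2),(2,2),(0,2),(2,1),(0,1),(2,1),(0,1),(2,2),(0,2),(2,2),
    (0,2),(2,1),(0,1),(2,1),(0,1),(2,2),(0,2),(2,2),(0,2),(2,1),(0,1),(2,1),(0,1),(2,2),(0,2),
    (2,2),(0,2),(2,1),(0,1)],
   [(122,1),(0,2),(2,2),(0,1),(2,2),(0,1),(2,1),(0,2),(2,1),(0,2),(2,2),(0,1),(2,2),(0,1),(2,1),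
    (0,2),(2,2),(0,1),(2,1),(0,2),(2,1),(0,2),(2,2),(0,1),(2,2),(0,1),(2,1),(0,2),(2,1),(0,2),
    (2,2),(0,1),(2,1),(0,2),(2,2),(0,1),(2,2),(0,1),(2,1),(0,2),(2,1),(0,2),(2,2),(0,1),(2,2),
    (0,1),(2,1),(0,2),(2,1),(0,2),(2,2),(0,1),(2,2),(0,1),(2,1),(0,2),(2,1),(0,2),(2,2),(0,1),
    (2,2),(0,1),(2,1),(0,2)],
   [(120,2),(0,2),(2,2),(0,2),(2,1),(0,1),(2,1),(0,1),(2,2),(0,2),(2,2),(0,2),(2,1),(0,1),(2,1),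
    (0,1),(2,1),(0,1),(2,1),(0,1),(2,2),(0,2),(2,2),(0,2),(2,1),(0,1),(2,1),(0,1),(2,2),(0,2),
    (2,2),(0,2),(2,2),(0,2),(2,2),(0,2),(2,1),(0,1),(2,1),(0,1),(2,2),(0,2),(2,2),(0,2),(2,1),
    (0,1),(2,1),(0,1),(2,2),(0,2),(2,2),(0,2),(2,1),(0,1),(2,1),(0,1),(2,2),(0,2),(2,2),(0,2),
    (2,1),(0,1),(2,1),(0,1)],
   [(120,2),(0,1),(2,2),(0,1),(2,1),(0,2),(2,1),(0,2),(2,2),(0,1),(2,2),(0,1),(2,1),(0,2),(2,1),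
    (0,2),(2,1),(0,2),(2,1),(0,2),(2,2),(0,1),(2,2),(0,1),(2,1),(0,2),(2,1),(0,2),(2,2),(0,1),
    (2,2),(0,1),(2,2),(0,1),(2,2),(0,1),(2,1),(0,2),(2,1),(0,2),(2,2),(0,1),(2,2),(0,1),(2,1),
    (0,2),(2,1),(0,2),(2,2),(0,1),(2,2),(0,1),(2,1),(0,2),(2,1),(0,2),(2,2),(0,1),(2,2),(0,1),
    (2,1),(0,2),(2,1),(0,2)],
   [(122,1),(0,1),(2,1),(0,1),(2,2),(0,2),(2,2),(0,2),(2,1),(0,1),(2,1),(0,1),(2,2),(0,2),(2,2),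
    (0,2),(2,2),(0,2),(2,2),(0,2),(2,1),(0,1),(2,1),(0,1),(2,2),(0,2),(2,2),(0,2),(2,1),(0,1),
    (2,1),(0,1),(2,1),(0,1),(2,1),(0,1),(2,2),(0,2),(2,2),(0,2),(2,1),(0,1),(2,1),(0,1),(2,2),
    (0,2),(2,2),(0,2),(2,1),(0,1),(2,1),(0,1),(2,2),(0,2),(2,2),(0,2),(2,1),(0,1),(2,1),(0,1),
    (2,2),(0,2),(2,2),(0,2)],
   [(122,1),(0,2),(2,1),(0,2),(2,2),(0,1),(2,2),(0,1),(2,1),(0,2),(2,1),(0,2),(2,2),(0,1),(2,2),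
    (0,1),(2,2),(0,1),(2,2),(0,1),(2,1),(0,2),(2,1),(0,2),(2,2),(0,1),(2,2),(0,1),(2,1),(0,2),
    (2,1),(0,2),(2,1),(0,2),(2,1),(0,2),(2,2),(0,1),(2,2),(0,1),(2,1),(0,2),(2,1),(0,2),(2,2),
    (0,1),(2,2),(0,1),(2,1),(0,2),(2,1),(0,2),(2,2),(0,1),(2,2),(0,1),(2,1),(0,2),(2,1),(0,2),
    (2,2),(0,1),(2,2),(0,1)],
   [(120,1),(0,1),(2,2),(0,2),(2,2),(0,2),(2,1),(0,1),(2,1),(0,1),(2,2),(0,2),(2,2),(0,2),(2,1),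
    (0,1),(2,2),(0,2),(2,1),(0,1),(2,1),(0,1),(2,2),(0,2),(2,2),(0,2),(2,1),(0,1),(2,1),(0,1),
    (2,2),(0,2),(2,1),(0,1),(2,2),(0,2),(2,2),(0,2),(2,1),(0,1),(2,1),(0,1),(2,2),(0,2),(2,2),
    (0,2),(2,1),(0,1),(2,1),(0,1),(2,2),(0,2),(2,2),(0,2),(2,1),(0,1),(2,1),(0,1),(2,2),(0,2),
    (2,2),(0,2),(2,1),(0,1)],
   [(120,1),(0,2),(2,2),(0,1),(2,2),(0,1),(2,1),(0,2),(2,1),(0,2),(2,2),(0,1),(2,2),(0,1),(2,1),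
    (0,2),(2,2),(0,1),(2,1),(0,2),(2,1),(0,2),(2,2),(0,1),(2,2),(0,1),(2,1),(0,2),(2,1),(0,2),
    (2,2),(0,1),(2,1),(0,2),(2,2),(0,1),(2,2),(0,1),(2,1),(0,2),(2,1),(0,2),(2,2),(0,1),(2,2),
    (0,1),(2,1),(0,2),(2,1),(0,2),(2,2),(0,1),(2,2),(0,1),(2,1),(0,2),(2,1),(0,2),(2,2),(0,1),
    (2,2),(0,1),(2,1),(0,2)],
   [(122,2),(0,2),(2,1),(0,1),(2,2),(0,2),(2,1),(0,1),(2,1),(0,1),(2,2),(0,2),(2,1),(0,1),(2,2),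
    (0,2),(2,1),(0,1),(2,2),(0,2),(2,1),(0,1),(2,2),(0,2),(2,2),(0,2),(2,1),(0,1),(2,2),(0,2),
    (2,1),(0,1),(2,1),(0,1),(2,2),(0,2),(2,1),(0,1),(2,2),(0,2),(2,2),(0,2),(2,1),(0,1),(2,2),
    (0,2),(2,1),(0,1),(2,1),(0,1),(2,2),(0,2),(2,1),(0,1),(2,2),(0,2),(2,2),(0,2),(2,1),(0,1),
    (2,2),(0,2),(2,1),(0,1)]]

/-- Rows of a matrix. -/
def matU7 : List (List (ℕ × ℕ)) :=
  [[(122,2),(0,1),(2,1),(0,2),(2,2),(0,1),(2,1),(0,2),(2,1),(0,2),(2,2),(0,1),(2,1),(0,2),(2,2),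
    (0,1),(2,1),(0,2),(2,2),(0,1),(2,1),(0,2),(2,2),(0,1),(2,2),(0,1),(2,1),(0,2),(2,2),(0,1),
    (2,1),(0,2),(2,1),(0,2),(2,2),(0,1),(2,1),(0,2),(2,2),(0,1),(2,2),(0,1),(2,1),(0,2),(2,2),
    (0,1),(2,1),(0,2),(2,1),(0,2),(2,2),(0,1),(2,1),(0,2),(2,2),(0,1),(2,2),(0,1),(2,1),(0,2),
    (2,2),(0,1),(2,1),(0,2)],
   [(120,1),(0,1),(2,1),(0,1),(2,1),(0,1),(2,1),(0,1),(2,2),(0,2),(2,2),(0,2),(2,2),(0,2),(2,2),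
    (0,2),(2,2),(0,2),(2,2),(0,2),(2,2),(0,2),(2,2),(0,2),(2,1),(0,1),(2,1),(0,1),(2,1),(0,1),
    (2,1),(0,1),(2,2),(0,2),(2,2),(0,2),(2,2),(0,2),(2,2),(0,2),(2,1),(0,1),(2,1),(0,1),(2,1),
    (0,1),(2,1),(0,1),(2,2),(0,2),(2,2),(0,2),(2,2),(0,2),(2,2),(0,2),(2,1),(0,1),(2,1),(0,1),
    (2,1),(0,1),(2,1),(0,1)],
   [(120,1),(0,2),(2,1),(0,2),(2,1),(0,2),(2,1),(0,2),(2,2),(0,1),(2,2),(0,1),(2,2),(0,1),(2,2),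
    (0,1),(2,2),(0,1),(2,2),(0,1),(2,2),(0,1),(2,2),(0,1),(2,1),(0,2),(2,1),(0,2),(2,1),(0,2),
    (2,1),(0,2),(2,2),(0,1),(2,2),(0,1),(2,2),(0,1),(2,2),(0,1),(2,1),(0,2),(2,1),(0,2),(2,1),
    (0,2),(2,1),(0,2),(2,2),(0,1),(2,2),(0,1),(2,2),(0,1),(2,2),(0,1),(2,1),(0,2),(2,1),(0,2),
    (2,1),(0,2),(2,1),(0,2)],
   [(122,2),(0,2),(2,2),(0,2),(2,2),(0,2),(2,2),(0,2),(2,1),(0,1),(2,1),(0,1),(2,1),(0,1),(2,1),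
    (0,1),(2,1),(0,1),(2,1),(0,1),(2,1),(0,1),(2,1),(0,1),(2,2),(0,2),(2,2),(0,2),(2,2),(0,2),
    (2,2),(0,2),(2,1),(0,1),(2,1),(0,1),(2,1),(0,1),(2,1),(0,1),(2,2),(0,2),(2,2),(0,2),(2,2),
    (0,2),(2,2),(0,2),(2,1),(0,1),(2,1),(0,1),(2,1),(0,1),(2,1),(0,1),(2,2),(0,2),(2,2),(0,2),
    (2,2),(0,2),(2,2),(0,2)],
   [(122,2),(0,1),(2,2),(0,1),(2,2),(0,1),(2,2),(0,1),(2,1),(0,2),(2,1),(0,2),(2,1),(0,2),(2,1),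
    (0,2),(2,1),(0,2),(2,1),(0,2),(2,1),(0,2),(2,1),(0,2),(2,2),(0,1),(2,2),(0,1),(2,2),(0,1),
    (2,2),(0,1),(2,1),(0,2),(2,1),(0,2),(2,1),(0,2),(2,1),(0,2),(2,2),(0,1),(2,2),(0,1),(2,2),
    (0,1),(2,2),(0,1),(2,1),(0,2),(2,1),(0,2),(2,1),(0,2),(2,1),(0,2),(2,2),(0,1),(2,2),(0,1),
    (2,2),(0,1),(2,2),(0,1)],
   [(120,2),(0,2),(2,1),(0,1),(2,2),(0,2),(2,1),(0,1),(2,1),(0,1),(2,2),(0,2),(2,1),(0,1),(2,2),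
    (0,2),(2,1),(0,1),(2,2),(0,2),(2,1),(0,1),(2,2),(0,2),(2,2),(0,2),(2,1),(0,1),(2,2),(0,2),
    (2,1),(0,1),(2,1),(0,1),(2,2),(0,2),(2,1),(0,1),(2,2),(0,2),(2,2),(0,2),(2,1),(0,1),(2,2),
    (0,2),(2,1),(0,1),(2,1),(0,1),(2,2),(0,2),(2,1),(0,1),(2,2),(0,2),(2,2),(0,2),(2,1),(0,1),
    (2,2),(0,2),(2,1),(0,1)],
   [(120,2),(0,1),(2,1),(0,2),(2,2),(0,1),(2,1),(0,2),(2,1),(0,2),(2,2),(0,1),(2,1),(0,2),(2,2),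
    (0,1),(2,1),(0,2),(2,2),(0,1),(2,1),(0,2),(2,2),(0,1),(2,2),(0,1),(2,1),(0,2),(2,2),(0,1),
    (2,1),(0,2),(2,1),(0,2),(2,2),(0,1),(2,1),(0,2),(2,2),(0,1),(2,2),(0,1),(2,1),(0,2),(2,2),
    (0,1),(2,1),(0,2),(2,1),(0,2),(2,2),(0,1),(2,1),(0,2),(2,2),(0,1),(2,2),(0,1),(2,1),(0,2),
    (2,2),(0,1),(2,1),(0,2)],
   [(122,2),(0,2),(2,1),(0,1),(2,2),(0,2),(2,1),(0,1),(2,2),(0,2),(2,1),(0,1),(2,2),(0,2),(2,1),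
    (0,1),(2,1),(0,1),(2,2),(0,2),(2,1),(0,1),(2,2),(0,2),(2,1),(0,1),(2,2),(0,2),(2,1),(0,1),
    (2,2),(0,2),(2,1),(0,1),(2,2),(0,2),(2,1),(0,1),(2,2),(0,2),(2,1),(0,1),(2,2),(0,2),(2,1),
    (0,1),(2,2),(0,2),(2,1),(0,1),(2,2),(0,2),(2,1),(0,1),(2,2),(0,2),(2,1),(0,1),(2,2),(0,2),
    (2,1),(0,1),(2,2),(0,2)],
   [(122,2),(0,1),(2,1),(0,2),(2,2),(0,1),(2,1),(0,2),(2,2),(0,1),(2,1),(0,2),(2,2),(0,1),(2,1),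
    (0,2),(2,1),(0,2),(2,2),(0,1),(2,1),(0,2),(2,2),(0,1),(2,1),(0,2),(2,2),(0,1),(2,1),(0,2),
    (2,2),(0,1),(2,1),(0,2),(2,2),(0,1),(2,1),(0,2),(2,2),(0,1),(2,1),(0,2),(2,2),(0,1),(2,1),
    (0,2),(2,2),(0,1),(2,1),(0,2),(2,2),(0,1),(2,1),(0,2),(2,2),(0,1),(2,1),(0,2),(2,2),(0,1),
    (2,1),(0,2),(2,2),(0,1)],
   [(120,1),(0,1),(2,1),(0,1),(2,1),(0,1),(2,1),(0,1),(2,1),(0,1),(2,1),(0,1),(2,1),(0,1),(2,1),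
    (0,1),(2,2),(0,2),(2,2),(0,2),(2,2),(0,2),(2,2),(0,2),(2,2),(0,2),(2,2),(0,2),(2,2),(0,2),
    (2,2),(0,2),(2,2),(0,2),(2,2),(0,2),(2,2),(0,2),(2,2),(0,2),(2,2),(0,2),(2,2),(0,2),(2,2),
    (0,2),(2,2),(0,2),(2,2),(0,2),(2,2),(0,2),(2,2),(0,2),(2,2),(0,2),(2,2),(0,2),(2,2),(0,2),
    (2,2),(0,2),(2,2),(0,2)],
   [(120,1),(0,2),(2,1),(0,2),(2,1),(0,2),(2,1),(0,2),(2,1),(0,2),(2,1),(0,2),(2,1),(0,2),(2,1),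
    (0,2),(2,2),(0,1),(2,2),(0,1),(2,2),(0,1),(2,2),(0,1),(2,2),(0,1),(2,2),(0,1),(2,2),(0,1),
    (2,2),(0,1),(2,2),(0,1),(2,2),(0,1),(2,2),(0,1),(2,2),(0,1),(2,2),(0,1),(2,2),(0,1),(2,2),
    (0,1),(2,2),(0,1),(2,2),(0,1),(2,2),(0,1),(2,2),(0,1),(2,2),(0,1),(2,2),(0,1),(2,2),(0,1),
    (2,2),(0,1),(2,2),(0,1)],
   [(122,2),(0,2),(2,2),(0,2),(2,2),(0,2),(2,2),(0,2),(2,2),(0,2),(2,2),(0,2),(2,2),(0,2),(2,2),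
    (0,2),(2,1),(0,1),(2,1),(0,1),(2,1),(0,1),(2,1),(0,1),(2,1),(0,1),(2,1),(0,1),(2,1),(0,1),
    (2,1),(0,1),(2,1),(0,1),(2,1),(0,1),(2,1),(0,1),(2,1),(0,1),(2,1),(0,1),(2,1),(0,1),(2,1),
    (0,1),(2,1),(0,1),(2,1),(0,1),(2,1),(0,1),(2,1),(0,1),(2,1),(0,1),(2,1),(0,1),(2,1),(0,1),
    (2,1),(0,1),(2,1),(0,1)],
   [(122,2),(0,1),(2,2),(0,1),(2,2),(0,1),(2,2),(0,1),(2,2),(0,1),(2,2),(0,1),(2,2),(0,1),(2,2),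
    (0,1),(2,1),(0,2),(2,1),(0,2),(2,1),(0,2),(2,1),(0,2),(2,1),(0,2),(2,1),(0,2),(2,1),(0,2),
    (2,1),(0,2),(2,1),(0,2),(2,1),(0,2),(2,1),(0,2),(2,1),(0,2),(2,1),(0,2),(2,1),(0,2),(2,1),
    (0,2),(2,1),(0,2),(2,1),(0,2),(2,1),(0,2),(2,1),(0,2),(2,1),(0,2),(2,1),(0,2),(2,1),(0,2),
    (2,1),(0,2),(2,1),(0,2)],
   [(120,2),(0,2),(2,1),(0,1),(2,2),(0,2),(2,1),(0,1),(2,2),(0,2),(2,1),(0,1),(2,2),(0,2),(2,1),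
    (0,1),(2,1),(0,1),(2,2),(0,2),(2,1),(0,1),(2,2),(0,2),(2,1),(0,1),(2,2),(0,2),(2,1),(0,1),
    (2,2),(0,2),(2,1),(0,1),(2,2),(0,2),(2,1),(0,1),(2,2),(0,2),(2,1),(0,1),(2,2),(0,2),(2,1),
    (0,1),(2,2),(0,2),(2,1),(0,1),(2,2),(0,2),(2,1),(0,1),(2,2),(0,2),(2,1),(0,1),(2,2),(0,2),
    (2,1),(0,1),(2,2),(0,2)],
   [(120,2),(0,1),(2,1),(0,2),(2,2),(0,1),(2,1),(0,2),(2,2),(0,1),(2,1),(0,2),(2,2),(0,1),(2,1),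
    (0,2),(2,1),(0,2),(2,2),(0,1),(2,1),(0,2),(2,2),(0,1),(2,1),(0,2),(2,2),(0,1),(2,1),(0,2),
    (2,2),(0,1),(2,1),(0,2),(2,2),(0,1),(2,1),(0,2),(2,2),(0,1),(2,1),(0,2),(2,2),(0,1),(2,1),
    (0,2),(2,2),(0,1),(2,1),(0,2),(2,2),(0,1),(2,1),(0,2),(2,2),(0,1),(2,1),(0,2),(2,2),(0,1),
    (2,1),(0,2),(2,2),(0,1)],
   [(122,1),(0,1),(2,2),(0,2),(2,2),(0,2),(2,1),(0,1),(2,2),(0,2),(2,1),(0,1),(2,1),(0,1),(2,2),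
    (0,2),(2,2),(0,2),(2,1),(0,1),(2,1),(0,1),(2,2),(0,2),(2,1),(0,1),(2,2),(0,2),(2,2),(0,2),
    (2,1),(0,1),(2,2),(0,2),(2,1),(0,1),(2,1),(0,1),(2,2),(0,2),(2,1),(0,1),(2,2),(0,2),(2,2),
    (0,2),(2,1),(0,1),(2,2),(0,2),(2,1),(0,1),(2,1),(0,1),(2,2),(0,2),(2,1),(0,1),(2,2),(0,2),
    (2,2),(0,2),(2,1),(0,1)],
   [(122,1),(0,2),(2,2),(0,1),(2,2),(0,1),(2,1),(0,2),(2,2),(0,1),(2,1),(0,2),(2,1),(0,2),(2,2),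
    (0,1),(2,2),(0,1),(2,1),(0,2),(2,1),(0,2),(2,2),(0,1),(2,1),(0,2),(2,2),(0,1),(2,2),(0,1),
    (2,1),(0,2),(2,2),(0,1),(2,1),(0,2),(2,1),(0,2),(2,2),(0,1),(2,1),(0,2),(2,2),(0,1),(2,2),
    (0,1),(2,1),(0,2),(2,2),(0,1),(2,1),(0,2),(2,1),(0,2),(2,2),(0,1),(2,1),(0,2),(2,2),(0,1),
    (2,2),(0,1),(2,1),(0,2)],
   [(120,2),(0,2),(2,2),(0,2),(2,1),(0,1),(2,1),(0,1),(2,1),(0,1),(2,1),(0,1),(2,2),(0,2),(2,2),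
    (0,2),(2,1),(0,1),(2,1),(0,1),(2,2),(0,2),(2,2),(0,2),(2,2),(0,2),(2,2),(0,2),(2,1),(0,1),
    (2,1),(0,1),(2,1),(0,1),(2,1),(0,1),(2,2),(0,2),(2,2),(0,2),(2,2),(0,2),(2,2),(0,2),(2,1),
    (0,1),(2,1),(0,1),(2,1),(0,1),(2,1),(0,1),(2,2),(0,2),(2,2),(0,2),(2,2),(0,2),(2,2),(0,2),
    (2,1),(0,1),(2,1),(0,1)],
   [(120,2),(0,1),(2,2),(0,1),(2,1),(0,2),(2,1),(0,2),(2,1),(0,2),(2,1),(0,2),(2,2),(0,1),(2,2),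
    (0,1),(2,1),(0,2),(2,1),(0,2),(2,2),(0,1),(2,2),(0,1),(2,2),(0,1),(2,2),(0,1),(2,1),(0,2),
    (2,1),(0,2),(2,1),(0,2),(2,1),(0,2),(2,2),(0,1),(2,2),(0,1),(2,2),(0,1),(2,2),(0,1),(2,1),
    (0,2),(2,1),(0,2),(2,1),(0,2),(2,1),(0,2),(2,2),(0,1),(2,2),(0,1),(2,2),(0,1),(2,2),(0,1),
    (2,1),(0,2),(2,1),(0,2)],
   [(122,1),(0,1),(2,1),(0,1),(2,2),(0,2),(2,2),(0,2),(2,2),(0,2),(2,2),(0,2),(2,1),(0,1),(2,1),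
    (0,1),(2,2),(0,2),(2,2),(0,2),(2,1),(0,1),(2,1),(0,1),(2,1),(0,1),(2,1),(0,1),(2,2),(0,2),
    (2,2),(0,2),(2,2),(0,2),(2,2),(0,2),(2,1),(0,1),(2,1),(0,1),(2,1),(0,1),(2,1),(0,1),(2,2),
    (0,2),(2,2),(0,2),(2,2),(0,2),(2,2),(0,2),(2,1),(0,1),(2,1),(0,1),(2,1),(0,1),(2,1),(0,1),
    (2,2),(0,2),(2,2),(0,2)],
   [(122,1),(0,2),(2,1),(0,2),(2,2),(0,1),(2,2),(0,1),(2,2),(0,1),(2,2),(0,1),(2,1),(0,2),(2,1),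
    (0,2),(2,2),(0,1),(2,2),(0,1),(2,1),(0,2),(2,1),(0,2),(2,1),(0,2),(2,1),(0,2),(2,2),(0,1),
    (2,2),(0,1),(2,2),(0,1),(2,2),(0,1),(2,1),(0,2),(2,1),(0,2),(2,1),(0,2),(2,1),(0,2),(2,2),
    (0,1),(2,2),(0,1),(2,2),(0,1),(2,2),(0,1),(2,1),(0,2),(2,1),(0,2),(2,1),(0,2),(2,1),(0,2),
    (2,2),(0,1),(2,2),(0,1)],
   [(120,1),(0,1),(2,2),(0,2),(2,2),(0,2),(2,1),(0,1),(2,2),(0,2),(2,1),(0,1),(2,1),(0,1),(2,2),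
    (0,2),(2,2),(0,2),(2,1),(0,1),(2,1),(0,1),(2,2),(0,2),(2,1),(0,1),(2,2),(0,2),(2,2),(0,2),
    (2,1),(0,1),(2,2),(0,2),(2,1),(0,1),(2,1),(0,1),(2,2),(0,2),(2,1),(0,1),(2,2),(0,2),(2,2),
    (0,2),(2,1),(0,1),(2,2),(0,2),(2,1),(0,1),(2,1),(0,1),(2,2),(0,2),(2,1),(0,1),(2,2),(0,2),
    (2,2),(0,2),(2,1),(0,1)],
   [(120,1),(0,2),(2,2),(0,1),(2,2),(0,1),(2,1),(0,2),(2,2),(0,1),(2,1),(0,2),(2,1),(0,2),(2,2),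
    (0,1),(2,2),(0,1),(2,1),(0,2),(2,1),(0,2),(2,2),(0,1),(2,1),(0,2),(2,2),(0,1),(2,2),(0,1),
    (2,1),(0,2),(2,2),(0,1),(2,1),(0,2),(2,1),(0,2),(2,2),(0,1),(2,1),(0,2),(2,2),(0,1),(2,2),
    (0,1),(2,1),(0,2),(2,2),(0,1),(2,1),(0,2),(2,1),(0,2),(2,2),(0,1),(2,1),(0,2),(2,2),(0,1),
    (2,2),(0,1),(2,1),(0,2)],
   [(122,1),(0,1),(2,2),(0,2),(2,2),(0,2),(2,1),(0,1),(2,1),(0,1),(2,2),(0,2),(2,2),(0,2),(2,1),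
    (0,1),(2,2),(0,2),(2,1),(0,1),(2,1),(0,1),(2,2),(0,2),(2,2),(0,2),(2,1),(0,1),(2,1),(0,1),
    (2,2),(0,2),(2,2),(0,2),(2,1),(0,1),(2,1),(0,1),(2,2),(0,2),(2,2),(0,2),(2,1),(0,1),(2,1),
    (0,1),(2,2),(0,2),(2,2),(0,2),(2,1),(0,1),(2,1),(0,1),(2,2),(0,2),(2,2),(0,2),(2,1),(0,1),
    (2,1),(0,1),(2,2),(0,2)],
   [(122,1),(0,2),(2,2),(0,1),(2,2),(0,1),(2,1),(0,2),(2,1),(0,2),(2,2),(0,1),(2,2),(0,1),(2,1),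
    (0,2),(2,2),(0,1),(2,1),(0,2),(2,1),(0,2),(2,2),(0,1),(2,2),(0,1),(2,1),(0,2),(2,1),(0,2),
    (2,2),(0,1),(2,2),(0,1),(2,1),(0,2),(2,1),(0,2),(2,2),(0,1),(2,2),(0,1),(2,1),(0,2),(2,1),
    (0,2),(2,2),(0,1),(2,2),(0,1),(2,1),(0,2),(2,1),(0,2),(2,2),(0,1),(2,2),(0,1),(2,1),(0,2),
    (2,1),(0,2),(2,2),(0,1)],
   [(120,2),(0,2),(2,2),(0,2),(2,1),(0,1),(2,1),(0,1),(2,2),(0,2),(2,2),(0,2),(2,1),(0,1),(2,1),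
    (0,1),(2,1),(0,1),(2,1),(0,1),(2,2),(0,2),(2,2),(0,2),(2,1),(0,1),(2,1),(0,1),(2,2),(0,2),
    (2,2),(0,2),(2,1),(0,1),(2,1),(0,1),(2,2),(0,2),(2,2),(0,2),(2,1),(0,1),(2,1),(0,1),(2,2),
    (0,2),(2,2),(0,2),(2,1),(0,1),(2,1),(0,1),(2,2),(0,2),(2,2),(0,2),(2,1),(0,1),(2,1),(0,1),
    (2,2),(0,2),(2,2),(0,2)],
   [(120,2),(0,1),(2,2),(0,1),(2,1),(0,2),(2,1),(0,2),(2,2),(0,1),(2,2),(0,1),(2,1),(0,2),(2,1),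
    (0,2),(2,1),(0,2),(2,1),(0,2),(2,2),(0,1),(2,2),(0,1),(2,1),(0,2),(2,1),(0,2),(2,2),(0,1),
    (2,2),(0,1),(2,1),(0,2),(2,1),(0,2),(2,2),(0,1),(2,2),(0,1),(2,1),(0,2),(2,1),(0,2),(2,2),
    (0,1),(2,2),(0,1),(2,1),(0,2),(2,1),(0,2),(2,2),(0,1),(2,2),(0,1),(2,1),(0,2),(2,1),(0,2),
    (2,2),(0,1),(2,2),(0,1)],
   [(122,1),(0,1),(2,1),(0,1),(2,2),(0,2),(2,2),(0,2),(2,1),(0,1),(2,1),(0,1),(2,2),(0,2),(2,2),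
    (0,2),(2,2),(0,2),(2,2),(0,2),(2,1),(0,1),(2,1),(0,1),(2,2),(0,2),(2,2),(0,2),(2,1),(0,1),
    (2,1),(0,1),(2,2),(0,2),(2,2),(0,2),(2,1),(0,1),(2,1),(0,1),(2,2),(0,2),(2,2),(0,2),(2,1),
    (0,1),(2,1),(0,1),(2,2),(0,2),(2,2),(0,2),(2,1),(0,1),(2,1),(0,1),(2,2),(0,2),(2,2),(0,2),
    (2,1),(0,1),(2,1),(0,1)],
   [(122,1),(0,2),(2,1),(0,2),(2,2),(0,1),(2,2),(0,1),(2,1),(0,2),(2,1),(0,2),(2,2),(0,1),(2,2),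
    (0,1),(2,2),(0,1),(2,2),(0,1),(2,1),(0,2),(2,1),(0,2),(2,2),(0,1),(2,2),(0,1),(2,1),(0,2),
    (2,1),(0,2),(2,2),(0,1),(2,2),(0,1),(2,1),(0,2),(2,1),(0,2),(2,2),(0,1),(2,2),(0,1),(2,1),
    (0,2),(2,1),(0,2),(2,2),(0,1),(2,2),(0,1),(2,1),(0,2),(2,1),(0,2),(2,2),(0,1),(2,2),(0,1),
    (2,1),(0,2),(2,1),(0,2)],
   [(120,1),(0,1),(2,2),(0,2),(2,2),(0,2),(2,1),(0,1),(2,1),(0,1),(2,2),(0,2),(2,2),(0,2),(2,1),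
    (0,1),(2,2),(0,2),(2,1),(0,1),(2,1),(0,1),(2,2),(0,2),(2,2),(0,2),(2,1),(0,1),(2,1),(0,1),
    (2,2),(0,2),(2,2),(0,2),(2,1),(0,1),(2,1),(0,1),(2,2),(0,2),(2,2),(0,2),(2,1),(0,1),(2,1),
    (0,1),(2,2),(0,2),(2,2),(0,2),(2,1),(0,1),(2,1),(0,1),(2,2),(0,2),(2,2),(0,2),(2,1),(0,1),
    (2,1),(0,1),(2,2),(0,2)],
   [(120,1),(0,2),(2,2),(0,1),(2,2),(0,1),(2,1),(0,2),(2,1),(0,2),(2,2),(0,1),(2,2),(0,1),(2,1),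
    (0,2),(2,2),(0,1),(2,1),(0,2),(2,1),(0,2),(2,2),(0,1),(2,2),(0,1),(2,1),(0,2),(2,1),(0,2),
    (2,2),(0,1),(2,2),(0,1),(2,1),(0,2),(2,1),(0,2),(2,2),(0,1),(2,2),(0,1),(2,1),(0,2),(2,1),
    (0,2),(2,2),(0,1),(2,2),(0,1),(2,1),(0,2),(2,1),(0,2),(2,2),(0,1),(2,2),(0,1),(2,1),(0,2),
    (2,1),(0,2),(2,2),(0,1)]]

/-- Rows of a matrix. -/
def matU : List (List (ℕ × ℕ)) :=
  matU0 ++ matU1 ++ matU2 ++ matU3 ++ matU4 ++ matU5 ++ matU6 ++ matU7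

/-- Rows of a matrix. -/
def matUi0 : List (List (ℕ × ℕ)) :=
  [[(3,2)],
   [(4,2)],
   [(35,1)],
   [(0,1)],
   [(1,1)],
   [(64,2)],
   [(98,2)],
   [(73,1)],
   [(22,2)],
   [(95,2)],
   [(11,2)],
   [(10,1)],
   [(94,2)],
   [(14,1)],
   [(13,1)],
   [(118,1)],
   [(29,2)],
   [(18,2)],
   [(17,1)],
   [(72,2)],
   [(21,2)],
   [(20,1)],
   [(8,1)],
   [(65,1)],
   [(25,2)],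
   [(24,1)],
   [(34,2)],
   [(117,2)],
   [(78,2)],
   [(16,2)],
   [(40,1)]]

/-- Rows of a matrix. -/
def matUi1 : List (List (ℕ × ℕ)) :=
  [[(68,1)],
   [(33,1)],
   [(32,2)],
   [(26,1)],
   [(2,1)],
   [(37,1)],
   [(36,1)],
   [(112,1)],
   [(115,1)],
   [(30,2)],
   [(75,2)],
   [(43,1)],
   [(42,2)],
   [(108,1)],
   [(80,1)],
   [(119,1)],
   [(48,1)],
   [(47,1)],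
   [(71,1)],
   [(53,2)],
   [(99,2)],
   [(114,2)],
   [(50,2)],
   [(55,1)],
   [(54,2)],
   [(57,1)],
   [(56,2)],
   [(102,1)],
   [(60,1)],
   [(59,2)],
   [(93,2)]]

/-- Rows of a matrix. -/
def matUi2 : List (List (ℕ × ℕ)) :=
  [[(103,2)],
   [(101,1)],
   [(5,1)],
   [(23,2)],
   [(67,2)],
   [(66,1)],
   [(31,2)],
   [(70,1)],
   [(69,2)],
   [(49,2)],
   [(19,1)],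
   [(7,1)],
   [(110,1)],
   [(41,1)],
   [(107,1)],
   [(87,1)],
   [(28,2)],
   [(82,2)],
   [(45,1)],
   [(111,1)],
   [(79,2)],
   [(84,1)],
   [(83,1)],
   [(86,1)],
   [(85,1)],
   [(77,1)],
   [(89,1)],
   [(88,1)],
   [(91,1)],
   [(90,1)],
   [(104,2)]]

/-- Rows of a matrix. -/
def matUi3 : List (List (ℕ × ℕ)) :=
  [[(61,1)],
   [(12,1)],
   [(9,1)],
   [(97,2)],
   [(96,1)],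
   [(6,1)],
   [(51,2)],
   [(109,1)],
   [(63,2)],
   [(58,2)],
   [(62,1)],
   [(92,2)],
   [(106,1)],
   [(105,1)],
   [(76,1)],
   [(44,1)],
   [(100,2)],
   [(74,1)],
   [(81,1)],
   [(38,1)],
   [(116,1)],
   [(52,2)],
   [(39,2)],
   [(113,1)],
   [(27,2)],
   [(15,1)],
   [(46,1)],
   [(122,1),(0,1),(2,2),(0,2),(2,1),(0,1),(2,2),(0,2),(2,2),(0,2),(2,1),(0,1),(2,2),(0,2),(2,1),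
    (0,1),(2,2),(0,2),(2,1),(0,1),(2,2),(0,2),(2,1),(0,1),(2,1),(0,1),(2,2),(0,2),(2,1),(0,1),
    (2,2),(0,2),(2,1),(0,1),(2,2),(0,2),(2,1),(0,1),(2,2),(0,2),(2,2),(0,2),(2,1),(0,1),(2,2),
    (0,2),(2,1),(0,1),(2,1),(0,1),(2,2),(0,2),(2,1),(0,1),(2,2),(0,2),(2,2),(0,2),(2,1),(0,1),
    (2,2),(0,2),(2,1),(0,1)],
   [(122,1),(0,2),(2,2),(0,1),(2,1),(0,2),(2,2),(0,1),(2,2),(0,1),(2,1),(0,2),(2,2),(0,1),(2,1),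
    (0,2),(2,2),(0,1),(2,1),(0,2),(2,2),(0,1),(2,1),(0,2),(2,1),(0,2),(2,2),(0,1),(2,1),(0,2),
    (2,2),(0,1),(2,1),(0,2),(2,2),(0,1),(2,1),(0,2),(2,2),(0,1),(2,2),(0,1),(2,1),(0,2),(2,2),
    (0,1),(2,1),(0,2),(2,1),(0,2),(2,2),(0,1),(2,1),(0,2),(2,2),(0,1),(2,2),(0,1),(2,1),(0,2),
    (2,2),(0,1),(2,1),(0,2)],
   [(120,2),(0,2),(2,2),(0,2),(2,2),(0,2),(2,2),(0,2),(2,1),(0,1),(2,1),(0,1),(2,1),(0,1),(2,1),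
    (0,1),(2,1),(0,1),(2,1),(0,1),(2,1),(0,1),(2,1),(0,1),(2,2),(0,2),(2,2),(0,2),(2,2),(0,2),
    (2,2),(0,2),(2,2),(0,2),(2,2),(0,2),(2,2),(0,2),(2,2),(0,2),(2,1),(0,1),(2,1),(0,1),(2,1),
    (0,1),(2,1),(0,1),(2,2),(0,2),(2,2),(0,2),(2,2),(0,2),(2,2),(0,2),(2,1),(0,1),(2,1),(0,1),
    (2,1),(0,1),(2,1),(0,1)],
   [(120,2),(0,1),(2,2),(0,1),(2,2),(0,1),(2,2),(0,1),(2,1),(0,2),(2,1),(0,2),(2,1),(0,2),(2,1),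
    (0,2),(2,1),(0,2),(2,1),(0,2),(2,1),(0,2),(2,1),(0,2),(2,2),(0,1),(2,2),(0,1),(2,2),(0,1),
    (2,2),(0,1),(2,2),(0,1),(2,2),(0,1),(2,2),(0,1),(2,2),(0,1),(2,1),(0,2),(2,1),(0,2),(2,1),
    (0,2),(2,1),(0,2),(2,2),(0,1),(2,2),(0,1),(2,2),(0,1),(2,2),(0,1),(2,1),(0,2),(2,1),(0,2),
    (2,1),(0,2),(2,1),(0,2)]]

/-- Rows of a matrix. -/
def matUi4 : List (List (ℕ × ℕ)) :=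
  [[(122,1),(0,1),(2,1),(0,1),(2,1),(0,1),(2,1),(0,1),(2,2),(0,2),(2,2),(0,2),(2,2),(0,2),(2,2),
    (0,2),(2,2),(0,2),(2,2),(0,2),(2,2),(0,2),(2,2),(0,2),(2,1),(0,1),(2,1),(0,1),(2,1),(0,1),
    (2,1),(0,1),(2,1),(0,1),(2,1),(0,1),(2,1),(0,1),(2,1),(0,1),(2,2),(0,2),(2,2),(0,2),(2,2),
    (0,2),(2,2),(0,2),(2,1),(0,1),(2,1),(0,1),(2,1),(0,1),(2,1),(0,1),(2,2),(0,2),(2,2),(0,2),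
    (2,2),(0,2),(2,2),(0,2)],
   [(122,1),(0,2),(2,1),(0,2),(2,1),(0,2),(2,1),(0,2),(2,2),(0,1),(2,2),(0,1),(2,2),(0,1),(2,2),
    (0,1),(2,2),(0,1),(2,2),(0,1),(2,2),(0,1),(2,2),(0,1),(2,1),(0,2),(2,1),(0,2),(2,1),(0,2),
    (2,1),(0,2),(2,1),(0,2),(2,1),(0,2),(2,1),(0,2),(2,1),(0,2),(2,2),(0,1),(2,2),(0,1),(2,2),
    (0,1),(2,2),(0,1),(2,1),(0,2),(2,1),(0,2),(2,1),(0,2),(2,1),(0,2),(2,2),(0,1),(2,2),(0,1),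
    (2,2),(0,1),(2,2),(0,1)],
   [(120,1),(0,1),(2,2),(0,2),(2,1),(0,1),(2,2),(0,2),(2,2),(0,2),(2,1),(0,1),(2,2),(0,2),(2,1),
    (0,1),(2,2),(0,2),(2,1),(0,1),(2,2),(0,2),(2,1),(0,1),(2,1),(0,1),(2,2),(0,2),(2,1),(0,1),
    (2,2),(0,2),(2,1),(0,1),(2,2),(0,2),(2,1),(0,1),(2,2),(0,2),(2,2),(0,2),(2,1),(0,1),(2,2),
    (0,2),(2,1),(0,1),(2,1),(0,1),(2,2),(0,2),(2,1),(0,1),(2,2),(0,2),(2,2),(0,2),(2,1),(0,1),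
    (2,2),(0,2),(2,1),(0,1)],
   [(120,1),(0,2),(2,2),(0,1),(2,1),(0,2),(2,2),(0,1),(2,2),(0,1),(2,1),(0,2),(2,2),(0,1),(2,1),
    (0,2),(2,2),(0,1),(2,1),(0,2),(2,2),(0,1),(2,1),(0,2),(2,1),(0,2),(2,2),(0,1),(2,1),(0,2),
    (2,2),(0,1),(2,1),(0,2),(2,2),(0,1),(2,1),(0,2),(2,2),(0,1),(2,2),(0,1),(2,1),(0,2),(2,2),
    (0,1),(2,1),(0,2),(2,1),(0,2),(2,2),(0,1),(2,1),(0,2),(2,2),(0,1),(2,2),(0,1),(2,1),(0,2),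
    (2,2),(0,1),(2,1),(0,2)],
   [(122,1),(0,1),(2,2),(0,2),(2,1),(0,1),(2,2),(0,2),(2,1),(0,1),(2,2),(0,2),(2,1),(0,1),(2,2),
    (0,2),(2,2),(0,2),(2,1),(0,1),(2,2),(0,2),(2,1),(0,1),(2,2),(0,2),(2,1),(0,1),(2,2),(0,2),
    (2,1),(0,1),(2,1),(0,1),(2,2),(0,2),(2,1),(0,1),(2,2),(0,2),(2,1),(0,1),(2,2),(0,2),(2,1),
    (0,1),(2,2),(0,2),(2,1),(0,1),(2,2),(0,2),(2,1),(0,1),(2,2),(0,2),(2,1),(0,1),(2,2),(0,2),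
    (2,1),(0,1),(2,2),(0,2)],
   [(122,1),(0,2),(2,2),(0,1),(2,1),(0,2),(2,2),(0,1),(2,1),(0,2),(2,2),(0,1),(2,1),(0,2),(2,2),
    (0,1),(2,2),(0,1),(2,1),(0,2),(2,2),(0,1),(2,1),(0,2),(2,2),(0,1),(2,1),(0,2),(2,2),(0,1),
    (2,1),(0,2),(2,1),(0,2),(2,2),(0,1),(2,1),(0,2),(2,2),(0,1),(2,1),(0,2),(2,2),(0,1),(2,1),
    (0,2),(2,2),(0,1),(2,1),(0,2),(2,2),(0,1),(2,1),(0,2),(2,2),(0,1),(2,1),(0,2),(2,2),(0,1),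
    (2,1),(0,2),(2,2),(0,1)],
   [(120,2),(0,2),(2,2),(0,2),(2,2),(0,2),(2,2),(0,2),(2,2),(0,2),(2,2),(0,2),(2,2),(0,2),(2,2),
    (0,2),(2,1),(0,1),(2,1),(0,1),(2,1),(0,1),(2,1),(0,1),(2,1),(0,1),(2,1),(0,1),(2,1),(0,1),
    (2,1),(0,1),(2,2),(0,2),(2,2),(0,2),(2,2),(0,2),(2,2),(0,2),(2,2),(0,2),(2,2),(0,2),(2,2),
    (0,2),(2,2),(0,2),(2,2),(0,2),(2,2),(0,2),(2,2),(0,2),(2,2),(0,2),(2,2),(0,2),(2,2),(0,2),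
    (2,2),(0,2),(2,2),(0,2)],
   [(120,2),(0,1),(2,2),(0,1),(2,2),(0,1),(2,2),(0,1),(2,2),(0,1),(2,2),(0,1),(2,2),(0,1),(2,2),
    (0,1),(2,1),(0,2),(2,1),(0,2),(2,1),(0,2),(2,1),(0,2),(2,1),(0,2),(2,1),(0,2),(2,1),(0,2),
    (2,1),(0,2),(2,2),(0,1),(2,2),(0,1),(2,2),(0,1),(2,2),(0,1),(2,2),(0,1),(2,2),(0,1),(2,2),
    (0,1),(2,2),(0,1),(2,2),(0,1),(2,2),(0,1),(2,2),(0,1),(2,2),(0,1),(2,2),(0,1),(2,2),(0,1),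
    (2,2),(0,1),(2,2),(0,1)],
   [(122,1),(0,1),(2,1),(0,1),(2,1),(0,1),(2,1),(0,1),(2,1),(0,1),(2,1),(0,1),(2,1),(0,1),(2,1),
    (0,1),(2,2),(0,2),(2,2),(0,2),(2,2),(0,2),(2,2),(0,2),(2,2),(0,2),(2,2),(0,2),(2,2),(0,2),
    (2,2),(0,2),(2,1),(0,1),(2,1),(0,1),(2,1),(0,1),(2,1),(0,1),(2,1),(0,1),(2,1),(0,1),(2,1),
    (0,1),(2,1),(0,1),(2,1),(0,1),(2,1),(0,1),(2,1),(0,1),(2,1),(0,1),(2,1),(0,1),(2,1),(0,1),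
    (2,1),(0,1),(2,1),(0,1)],
   [(122,1),(0,2),(2,1),(0,2),(2,1),(0,2),(2,1),(0,2),(2,1),(0,2),(2,1),(0,2),(2,1),(0,2),(2,1),
    (0,2),(2,2),(0,1),(2,2),(0,1),(2,2),(0,1),(2,2),(0,1),(2,2),(0,1),(2,2),(0,1),(2,2),(0,1),
    (2,2),(0,1),(2,1),(0,2),(2,1),(0,2),(2,1),(0,2),(2,1),(0,2),(2,1),(0,2),(2,1),(0,2),(2,1),
    (0,2),(2,1),(0,2),(2,1),(0,2),(2,1),(0,2),(2,1),(0,2),(2,1),(0,2),(2,1),(0,2),(2,1),(0,2),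
    (2,1),(0,2),(2,1),(0,2)],
   [(120,1),(0,1),(2,2),(0,2),(2,1),(0,1),(2,2),(0,2),(2,1),(0,1),(2,2),(0,2),(2,1),(0,1),(2,2),
    (0,2),(2,2),(0,2),(2,1),(0,1),(2,2),(0,2),(2,1),(0,1),(2,2),(0,2),(2,1),(0,1),(2,2),(0,2),
    (2,1),(0,1),(2,1),(0,1),(2,2),(0,2),(2,1),(0,1),(2,2),(0,2),(2,1),(0,1),(2,2),(0,2),(2,1),
    (0,1),(2,2),(0,2),(2,1),(0,1),(2,2),(0,2),(2,1),(0,1),(2,2),(0,2),(2,1),(0,1),(2,2),(0,2),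
    (2,1),(0,1),(2,2),(0,2)],
   [(120,1),(0,2),(2,2),(0,1),(2,1),(0,2),(2,2),(0,1),(2,1),(0,2),(2,2),(0,1),(2,1),(0,2),(2,2),
    (0,1),(2,2),(0,1),(2,1),(0,2),(2,2),(0,1),(2,1),(0,2),(2,2),(0,1),(2,1),(0,2),(2,2),(0,1),
    (2,1),(0,2),(2,1),(0,2),(2,2),(0,1),(2,1),(0,2),(2,2),(0,1),(2,1),(0,2),(2,2),(0,1),(2,1),
    (0,2),(2,2),(0,1),(2,1),(0,2),(2,2),(0,1),(2,1),(0,2),(2,2),(0,1),(2,1),(0,2),(2,2),(0,1),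
    (2,1),(0,2),(2,2),(0,1)],
   [(122,2),(0,2),(2,1),(0,1),(2,1),(0,1),(2,2),(0,2),(2,1),(0,1),(2,2),(0,2),(2,2),(0,2),(2,1),
    (0,1),(2,1),(0,1),(2,2),(0,2),(2,2),(0,2),(2,1),(0,1),(2,2),(0,2),(2,1),(0,1),(2,1),(0,1),
    (2,2),(0,2),(2,2),(0,2),(2,1),(0,1),(2,1),(0,1),(2,2),(0,2),(2,1),(0,1),(2,2),(0,2),(2,2),
    (0,2),(2,1),(0,1),(2,2),(0,2),(2,1),(0,1),(2,1),(0,1),(2,2),(0,2),(2,1),(0,1),(2,2),(0,2),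
    (2,2),(0,2),(2,1),(0,1)],
   [(122,2),(0,1),(2,1),(0,2),(2,1),(0,2),(2,2),(0,1),(2,1),(0,2),(2,2),(0,1),(2,2),(0,1),(2,1),
    (0,2),(2,1),(0,2),(2,2),(0,1),(2,2),(0,1),(2,1),(0,2),(2,2),(0,1),(2,1),(0,2),(2,1),(0,2),
    (2,2),(0,1),(2,2),(0,1),(2,1),(0,2),(2,1),(0,2),(2,2),(0,1),(2,1),(0,2),(2,2),(0,1),(2,2),
    (0,1),(2,1),(0,2),(2,2),(0,1),(2,1),(0,2),(2,1),(0,2),(2,2),(0,1),(2,1),(0,2),(2,2),(0,1),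
    (2,2),(0,1),(2,1),(0,2)],
   [(120,1),(0,1),(2,1),(0,1),(2,2),(0,2),(2,2),(0,2),(2,2),(0,2),(2,2),(0,2),(2,1),(0,1),(2,1),
    (0,1),(2,2),(0,2),(2,2),(0,2),(2,1),(0,1),(2,1),(0,1),(2,1),(0,1),(2,1),(0,1),(2,2),(0,2),
    (2,2),(0,2),(2,1),(0,1),(2,1),(0,1),(2,2),(0,2),(2,2),(0,2),(2,2),(0,2),(2,2),(0,2),(2,1),
    (0,1),(2,1),(0,1),(2,1),(0,1),(2,1),(0,1),(2,2),(0,2),(2,2),(0,2),(2,2),(0,2),(2,2),(0,2),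
    (2,1),(0,1),(2,1),(0,1)],
   [(120,1),(0,2),(2,1),(0,2),(2,2),(0,1),(2,2),(0,1),(2,2),(0,1),(2,2),(0,1),(2,1),(0,2),(2,1),
    (0,2),(2,2),(0,1),(2,2),(0,1),(2,1),(0,2),(2,1),(0,2),(2,1),(0,2),(2,1),(0,2),(2,2),(0,1),
    (2,2),(0,1),(2,1),(0,2),(2,1),(0,2),(2,2),(0,1),(2,2),(0,1),(2,2),(0,1),(2,2),(0,1),(2,1),
    (0,2),(2,1),(0,2),(2,1),(0,2),(2,1),(0,2),(2,2),(0,1),(2,2),(0,1),(2,2),(0,1),(2,2),(0,1),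
    (2,1),(0,2),(2,1),(0,2)],
   [(122,2),(0,2),(2,2),(0,2),(2,1),(0,1),(2,1),(0,1),(2,1),(0,1),(2,1),(0,1),(2,2),(0,2),(2,2),
    (0,2),(2,1),(0,1),(2,1),(0,1),(2,2),(0,2),(2,2),(0,2),(2,2),(0,2),(2,2),(0,2),(2,1),(0,1),
    (2,1),(0,1),(2,2),(0,2),(2,2),(0,2),(2,1),(0,1),(2,1),(0,1),(2,1),(0,1),(2,1),(0,1),(2,2),
    (0,2),(2,2),(0,2),(2,2),(0,2),(2,2),(0,2),(2,1),(0,1),(2,1),(0,1),(2,1),(0,1),(2,1),(0,1),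
    (2,2),(0,2),(2,2),(0,2)],
   [(122,2),(0,1),(2,2),(0,1),(2,1),(0,2),(2,1),(0,2),(2,1),(0,2),(2,1),(0,2),(2,2),(0,1),(2,2),
    (0,1),(2,1),(0,2),(2,1),(0,2),(2,2),(0,1),(2,2),(0,1),(2,2),(0,1),(2,2),(0,1),(2,1),(0,2),
    (2,1),(0,2),(2,2),(0,1),(2,2),(0,1),(2,1),(0,2),(2,1),(0,2),(2,1),(0,2),(2,1),(0,2),(2,2),
    (0,1),(2,2),(0,1),(2,2),(0,1),(2,2),(0,1),(2,1),(0,2),(2,1),(0,2),(2,1),(0,2),(2,1),(0,2),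
    (2,2),(0,1),(2,2),(0,1)],
   [(120,2),(0,2),(2,1),(0,1),(2,1),(0,1),(2,2),(0,2),(2,1),(0,1),(2,2),(0,2),(2,2),(0,2),(2,1),
    (0,1),(2,1),(0,1),(2,2),(0,2),(2,2),(0,2),(2,1),(0,1),(2,2),(0,2),(2,1),(0,1),(2,1),(0,1),
    (2,2),(0,2),(2,2),(0,2),(2,1),(0,1),(2,1),(0,1),(2,2),(0,2),(2,1),(0,1),(2,2),(0,2),(2,2),
    (0,2),(2,1),(0,1),(2,2),(0,2),(2,1),(0,1),(2,1),(0,1),(2,2),(0,2),(2,1),(0,1),(2,2),(0,2),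
    (2,2),(0,2),(2,1),(0,1)],
   [(120,2),(0,1),(2,1),(0,2),(2,1),(0,2),(2,2),(0,1),(2,1),(0,2),(2,2),(0,1),(2,2),(0,1),(2,1),
    (0,2),(2,1),(0,2),(2,2),(0,1),(2,2),(0,1),(2,1),(0,2),(2,2),(0,1),(2,1),(0,2),(2,1),(0,2),
    (2,2),(0,1),(2,2),(0,1),(2,1),(0,2),(2,1),(0,2),(2,2),(0,1),(2,1),(0,2),(2,2),(0,1),(2,2),
    (0,1),(2,1),(0,2),(2,2),(0,1),(2,1),(0,2),(2,1),(0,2),(2,2),(0,1),(2,1),(0,2),(2,2),(0,1),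
    (2,2),(0,1),(2,1),(0,2)],
   [(122,2),(0,2),(2,1),(0,1),(2,1),(0,1),(2,2),(0,2),(2,2),(0,2),(2,1),(0,1),(2,1),(0,1),(2,2),
    (0,2),(2,1),(0,1),(2,2),(0,2),(2,2),(0,2),(2,1),(0,1),(2,1),(0,1),(2,2),(0,2),(2,2),(0,2),
    (2,1),(0,1),(2,2),(0,2),(2,1),(0,1),(2,1),(0,1),(2,2),(0,2),(2,2),(0,2),(2,1),(0,1),(2,1),
    (0,1),(2,2),(0,2),(2,2),(0,2),(2,1),(0,1),(2,1),(0,1),(2,2),(0,2),(2,2),(0,2),(2,1),(0,1),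
    (2,1),(0,1),(2,2),(0,2)],
   [(122,2),(0,1),(2,1),(0,2),(2,1),(0,2),(2,2),(0,1),(2,2),(0,1),(2,1),(0,2),(2,1),(0,2),(2,2),
    (0,1),(2,1),(0,2),(2,2),(0,1),(2,2),(0,1),(2,1),(0,2),(2,1),(0,2),(2,2),(0,1),(2,2),(0,1),
    (2,1),(0,2),(2,2),(0,1),(2,1),(0,2),(2,1),(0,2),(2,2),(0,1),(2,2),(0,1),(2,1),(0,2),(2,1),
    (0,2),(2,2),(0,1),(2,2),(0,1),(2,1),(0,2),(2,1),(0,2),(2,2),(0,1),(2,2),(0,1),(2,1),(0,2),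
    (2,1),(0,2),(2,2),(0,1)],
   [(120,1),(0,1),(2,1),(0,1),(2,2),(0,2),(2,2),(0,2),(2,1),(0,1),(2,1),(0,1),(2,2),(0,2),(2,2),
    (0,2),(2,2),(0,2),(2,2),(0,2),(2,1),(0,1),(2,1),(0,1),(2,2),(0,2),(2,2),(0,2),(2,1),(0,1),
    (2,1),(0,1),(2,1),(0,1),(2,1),(0,1),(2,2),(0,2),(2,2),(0,2),(2,1),(0,1),(2,1),(0,1),(2,2),
    (0,2),(2,2),(0,2),(2,1),(0,1),(2,1),(0,1),(2,2),(0,2),(2,2),(0,2),(2,1),(0,1),(2,1),(0,1),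
    (2,2),(0,2),(2,2),(0,2)],
   [(120,1),(0,2),(2,1),(0,2),(2,2),(0,1),(2,2),(0,1),(2,1),(0,2),(2,1),(0,2),(2,2),(0,1),(2,2),
    (0,1),(2,2),(0,1),(2,2),(0,1),(2,1),(0,2),(2,1),(0,2),(2,2),(0,1),(2,2),(0,1),(2,1),(0,2),
    (2,1),(0,2),(2,1),(0,2),(2,1),(0,2),(2,2),(0,1),(2,2),(0,1),(2,1),(0,2),(2,1),(0,2),(2,2),
    (0,1),(2,2),(0,1),(2,1),(0,2),(2,1),(0,2),(2,2),(0,1),(2,2),(0,1),(2,1),(0,2),(2,1),(0,2),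
    (2,2),(0,1),(2,2),(0,1)],
   [(122,2),(0,2),(2,2),(0,2),(2,1),(0,1),(2,1),(0,1),(2,2),(0,2),(2,2),(0,2),(2,1),(0,1),(2,1),
    (0,1),(2,1),(0,1),(2,1),(0,1),(2,2),(0,2),(2,2),(0,2),(2,1),(0,1),(2,1),(0,1),(2,2),(0,2),
    (2,2),(0,2),(2,2),(0,2),(2,2),(0,2),(2,1),(0,1),(2,1),(0,1),(2,2),(0,2),(2,2),(0,2),(2,1),
    (0,1),(2,1),(0,1),(2,2),(0,2),(2,2),(0,2),(2,1),(0,1),(2,1),(0,1),(2,2),(0,2),(2,2),(0,2),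
    (2,1),(0,1),(2,1),(0,1)],
   [(122,2),(0,1),(2,2),(0,1),(2,1),(0,2),(2,1),(0,2),(2,2),(0,1),(2,2),(0,1),(2,1),(0,2),(2,1),
    (0,2),(2,1),(0,2),(2,1),(0,2),(2,2),(0,1),(2,2),(0,1),(2,1),(0,2),(2,1),(0,2),(2,2),(0,1),
    (2,2),(0,1),(2,2),(0,1),(2,2),(0,1),(2,1),(0,2),(2,1),(0,2),(2,2),(0,1),(2,2),(0,1),(2,1),
    (0,2),(2,1),(0,2),(2,2),(0,1),(2,2),(0,1),(2,1),(0,2),(2,1),(0,2),(2,2),(0,1),(2,2),(0,1),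
    (2,1),(0,2),(2,1),(0,2)],
   [(120,2),(0,2),(2,1),(0,1),(2,1),(0,1),(2,2),(0,2),(2,2),(0,2),(2,1),(0,1),(2,1),(0,1),(2,2),
    (0,2),(2,1),(0,1),(2,2),(0,2),(2,2),(0,2),(2,1),(0,1),(2,1),(0,1),(2,2),(0,2),(2,2),(0,2),
    (2,1),(0,1),(2,2),(0,2),(2,1),(0,1),(2,1),(0,1),(2,2),(0,2),(2,2),(0,2),(2,1),(0,1),(2,1),
    (0,1),(2,2),(0,2),(2,2),(0,2),(2,1),(0,1),(2,1),(0,1),(2,2),(0,2),(2,2),(0,2),(2,1),(0,1),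
    (2,1),(0,1),(2,2),(0,2)],
   [(120,2),(0,1),(2,1),(0,2),(2,1),(0,2),(2,2),(0,1),(2,2),(0,1),(2,1),(0,2),(2,1),(0,2),(2,2),
    (0,1),(2,1),(0,2),(2,2),(0,1),(2,2),(0,1),(2,1),(0,2),(2,1),(0,2),(2,2),(0,1),(2,2),(0,1),
    (2,1),(0,2),(2,2),(0,1),(2,1),(0,2),(2,1),(0,2),(2,2),(0,1),(2,2),(0,1),(2,1),(0,2),(2,1),
    (0,2),(2,2),(0,1),(2,2),(0,1),(2,1),(0,2),(2,1),(0,2),(2,2),(0,1),(2,2),(0,1),(2,1),(0,2),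
    (2,1),(0,2),(2,2),(0,1)],
   [(122,1),(0,1),(2,2),(0,2),(2,1),(0,1),(2,2),(0,2),(2,2),(0,2),(2,1),(0,1),(2,2),(0,2),(2,1),
    (0,1),(2,2),(0,2),(2,1),(0,1),(2,2),(0,2),(2,1),(0,1),(2,1),(0,1),(2,2),(0,2),(2,1),(0,1),
    (2,2),(0,2),(2,2),(0,2),(2,1),(0,1),(2,2),(0,2),(2,1),(0,1),(2,1),(0,1),(2,2),(0,2),(2,1),
    (0,1),(2,2),(0,2),(2,2),(0,2),(2,1),(0,1),(2,2),(0,2),(2,1),(0,1),(2,1),(0,1),(2,2),(0,2),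
    (2,1),(0,1),(2,2),(0,2)],
   [(122,1),(0,2),(2,2),(0,1),(2,1),(0,2),(2,2),(0,1),(2,2),(0,1),(2,1),(0,2),(2,2),(0,1),(2,1),
    (0,2),(2,2),(0,1),(2,1),(0,2),(2,2),(0,1),(2,1),(0,2),(2,1),(0,2),(2,2),(0,1),(2,1),(0,2),
    (2,2),(0,1),(2,2),(0,1),(2,1),(0,2),(2,2),(0,1),(2,1),(0,2),(2,1),(0,2),(2,2),(0,1),(2,1),
    (0,2),(2,2),(0,1),(2,2),(0,1),(2,1),(0,2),(2,2),(0,1),(2,1),(0,2),(2,1),(0,2),(2,2),(0,1),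
    (2,1),(0,2),(2,2),(0,1)],
   [(120,2),(0,2),(2,2),(0,2),(2,2),(0,2),(2,2),(0,2),(2,1),(0,1),(2,1),(0,1),(2,1),(0,1),(2,1),
    (0,1),(2,1),(0,1),(2,1),(0,1),(2,1),(0,1),(2,1),(0,1),(2,2),(0,2),(2,2),(0,2),(2,2),(0,2),
    (2,2),(0,2),(2,1),(0,1),(2,1),(0,1),(2,1),(0,1),(2,1),(0,1),(2,2),(0,2),(2,2),(0,2),(2,2),
    (0,2),(2,2),(0,2),(2,1),(0,1),(2,1),(0,1),(2,1),(0,1),(2,1),(0,1),(2,2),(0,2),(2,2),(0,2),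
    (2,2),(0,2),(2,2),(0,2)]]

/-- Rows of a matrix. -/
def matUi5 : List (List (ℕ × ℕ)) :=
  [[(120,2),(0,1),(2,2),(0,1),(2,2),(0,1),(2,2),(0,1),(2,1),(0,2),(2,1),(0,2),(2,1),(0,2),(2,1),
    (0,2),(2,1),(0,2),(2,1),(0,2),(2,1),(0,2),(2,1),(0,2),(2,2),(0,1),(2,2),(0,1),(2,2),(0,1),
    (2,2),(0,1),(2,1),(0,2),(2,1),(0,2),(2,1),(0,2),(2,1),(0,2),(2,2),(0,1),(2,2),(0,1),(2,2),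
    (0,1),(2,2),(0,1),(2,1),(0,2),(2,1),(0,2),(2,1),(0,2),(2,1),(0,2),(2,2),(0,1),(2,2),(0,1),
    (2,2),(0,1),(2,2),(0,1)],
   [(122,1),(0,1),(2,1),(0,1),(2,1),(0,1),(2,1),(0,1),(2,2),(0,2),(2,2),(0,2),(2,2),(0,2),(2,2),
    (0,2),(2,2),(0,2),(2,2),(0,2),(2,2),(0,2),(2,2),(0,2),(2,1),(0,1),(2,1),(0,1),(2,1),(0,1),
    (2,1),(0,1),(2,2),(0,2),(2,2),(0,2),(2,2),(0,2),(2,2),(0,2),(2,1),(0,1),(2,1),(0,1),(2,1),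
    (0,1),(2,1),(0,1),(2,2),(0,2),(2,2),(0,2),(2,2),(0,2),(2,2),(0,2),(2,1),(0,1),(2,1),(0,1),
    (2,1),(0,1),(2,1),(0,1)],
   [(122,1),(0,2),(2,1),(0,2),(2,1),(0,2),(2,1),(0,2),(2,2),(0,1),(2,2),(0,1),(2,2),(0,1),(2,2),
    (0,1),(2,2),(0,1),(2,2),(0,1),(2,2),(0,1),(2,2),(0,1),(2,1),(0,2),(2,1),(0,2),(2,1),(0,2),
    (2,1),(0,2),(2,2),(0,1),(2,2),(0,1),(2,2),(0,1),(2,2),(0,1),(2,1),(0,2),(2,1),(0,2),(2,1),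
    (0,2),(2,1),(0,2),(2,2),(0,1),(2,2),(0,1),(2,2),(0,1),(2,2),(0,1),(2,1),(0,2),(2,1),(0,2),
    (2,1),(0,2),(2,1),(0,2)],
   [(120,1),(0,1),(2,2),(0,2),(2,1),(0,1),(2,2),(0,2),(2,2),(0,2),(2,1),(0,1),(2,2),(0,2),(2,1),
    (0,1),(2,2),(0,2),(2,1),(0,1),(2,2),(0,2),(2,1),(0,1),(2,1),(0,1),(2,2),(0,2),(2,1),(0,1),
    (2,2),(0,2),(2,2),(0,2),(2,1),(0,1),(2,2),(0,2),(2,1),(0,1),(2,1),(0,1),(2,2),(0,2),(2,1),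
    (0,1),(2,2),(0,2),(2,2),(0,2),(2,1),(0,1),(2,2),(0,2),(2,1),(0,1),(2,1),(0,1),(2,2),(0,2),
    (2,1),(0,1),(2,2),(0,2)],
   [(120,1),(0,2),(2,2),(0,1),(2,1),(0,2),(2,2),(0,1),(2,2),(0,1),(2,1),(0,2),(2,2),(0,1),(2,1),
    (0,2),(2,2),(0,1),(2,1),(0,2),(2,2),(0,1),(2,1),(0,2),(2,1),(0,2),(2,2),(0,1),(2,1),(0,2),
    (2,2),(0,1),(2,2),(0,1),(2,1),(0,2),(2,2),(0,1),(2,1),(0,2),(2,1),(0,2),(2,2),(0,1),(2,1),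
    (0,2),(2,2),(0,1),(2,2),(0,1),(2,1),(0,2),(2,2),(0,1),(2,1),(0,2),(2,1),(0,2),(2,2),(0,1),
    (2,1),(0,2),(2,2),(0,1)],
   [(122,1),(0,1),(2,2),(0,2),(2,1),(0,1),(2,2),(0,2),(2,1),(0,1),(2,2),(0,2),(2,1),(0,1),(2,2),
    (0,2),(2,2),(0,2),(2,1),(0,1),(2,2),(0,2),(2,1),(0,1),(2,2),(0,2),(2,1),(0,1),(2,2),(0,2),
    (2,1),(0,1),(2,2),(0,2),(2,1),(0,1),(2,2),(0,2),(2,1),(0,1),(2,2),(0,2),(2,1),(0,1),(2,2),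
    (0,2),(2,1),(0,1),(2,2),(0,2),(2,1),(0,1),(2,2),(0,2),(2,1),(0,1),(2,2),(0,2),(2,1),(0,1),
    (2,2),(0,2),(2,1),(0,1)],
   [(122,1),(0,2),(2,2),(0,1),(2,1),(0,2),(2,2),(0,1),(2,1),(0,2),(2,2),(0,1),(2,1),(0,2),(2,2),
    (0,1),(2,2),(0,1),(2,1),(0,2),(2,2),(0,1),(2,1),(0,2),(2,2),(0,1),(2,1),(0,2),(2,2),(0,1),
    (2,1),(0,2),(2,2),(0,1),(2,1),(0,2),(2,2),(0,1),(2,1),(0,2),(2,2),(0,1),(2,1),(0,2),(2,2),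
    (0,1),(2,1),(0,2),(2,2),(0,1),(2,1),(0,2),(2,2),(0,1),(2,1),(0,2),(2,2),(0,1),(2,1),(0,2),
    (2,2),(0,1),(2,1),(0,2)],
   [(120,2),(0,2),(2,2),(0,2),(2,2),(0,2),(2,2),(0,2),(2,2),(0,2),(2,2),(0,2),(2,2),(0,2),(2,2),
    (0,2),(2,1),(0,1),(2,1),(0,1),(2,1),(0,1),(2,1),(0,1),(2,1),(0,1),(2,1),(0,1),(2,1),(0,1),
    (2,1),(0,1),(2,1),(0,1),(2,1),(0,1),(2,1),(0,1),(2,1),(0,1),(2,1),(0,1),(2,1),(0,1),(2,1),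
    (0,1),(2,1),(0,1),(2,1),(0,1),(2,1),(0,1),(2,1),(0,1),(2,1),(0,1),(2,1),(0,1),(2,1),(0,1),
    (2,1),(0,1),(2,1),(0,1)],
   [(120,2),(0,1),(2,2),(0,1),(2,2),(0,1),(2,2),(0,1),(2,2),(0,1),(2,2),(0,1),(2,2),(0,1),(2,2),
    (0,1),(2,1),(0,2),(2,1),(0,2),(2,1),(0,2),(2,1),(0,2),(2,1),(0,2),(2,1),(0,2),(2,1),(0,2),
    (2,1),(0,2),(2,1),(0,2),(2,1),(0,2),(2,1),(0,2),(2,1),(0,2),(2,1),(0,2),(2,1),(0,2),(2,1),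
    (0,2),(2,1),(0,2),(2,1),(0,2),(2,1),(0,2),(2,1),(0,2),(2,1),(0,2),(2,1),(0,2),(2,1),(0,2),
    (2,1),(0,2),(2,1),(0,2)],
   [(122,1),(0,1),(2,1),(0,1),(2,1),(0,1),(2,1),(0,1),(2,1),(0,1),(2,1),(0,1),(2,1),(0,1),(2,1),
    (0,1),(2,2),(0,2),(2,2),(0,2),(2,2),(0,2),(2,2),(0,2),(2,2),(0,2),(2,2),(0,2),(2,2),(0,2),
    (2,2),(0,2),(2,2),(0,2),(2,2),(0,2),(2,2),(0,2),(2,2),(0,2),(2,2),(0,2),(2,2),(0,2),(2,2),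
    (0,2),(2,2),(0,2),(2,2),(0,2),(2,2),(0,2),(2,2),(0,2),(2,2),(0,2),(2,2),(0,2),(2,2),(0,2),
    (2,2),(0,2),(2,2),(0,2)],
   [(122,1),(0,2),(2,1),(0,2),(2,1),(0,2),(2,1),(0,2),(2,1),(0,2),(2,1),(0,2),(2,1),(0,2),(2,1),
    (0,2),(2,2),(0,1),(2,2),(0,1),(2,2),(0,1),(2,2),(0,1),(2,2),(0,1),(2,2),(0,1),(2,2),(0,1),
    (2,2),(0,1),(2,2),(0,1),(2,2),(0,1),(2,2),(0,1),(2,2),(0,1),(2,2),(0,1),(2,2),(0,1),(2,2),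
    (0,1),(2,2),(0,1),(2,2),(0,1),(2,2),(0,1),(2,2),(0,1),(2,2),(0,1),(2,2),(0,1),(2,2),(0,1),
    (2,2),(0,1),(2,2),(0,1)],
   [(120,1),(0,1),(2,2),(0,2),(2,1),(0,1),(2,2),(0,2),(2,1),(0,1),(2,2),(0,2),(2,1),(0,1),(2,2),
    (0,2),(2,2),(0,2),(2,1),(0,1),(2,2),(0,2),(2,1),(0,1),(2,2),(0,2),(2,1),(0,1),(2,2),(0,2),
    (2,1),(0,1),(2,2),(0,2),(2,1),(0,1),(2,2),(0,2),(2,1),(0,1),(2,2),(0,2),(2,1),(0,1),(2,2),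
    (0,2),(2,1),(0,1),(2,2),(0,2),(2,1),(0,1),(2,2),(0,2),(2,1),(0,1),(2,2),(0,2),(2,1),(0,1),
    (2,2),(0,2),(2,1),(0,1)],
   [(120,1),(0,2),(2,2),(0,1),(2,1),(0,2),(2,2),(0,1),(2,1),(0,2),(2,2),(0,1),(2,1),(0,2),(2,2),
    (0,1),(2,2),(0,1),(2,1),(0,2),(2,2),(0,1),(2,1),(0,2),(2,2),(0,1),(2,1),(0,2),(2,2),(0,1),
    (2,1),(0,2),(2,2),(0,1),(2,1),(0,2),(2,2),(0,1),(2,1),(0,2),(2,2),(0,1),(2,1),(0,2),(2,2),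
    (0,1),(2,1),(0,2),(2,2),(0,1),(2,1),(0,2),(2,2),(0,1),(2,1),(0,2),(2,2),(0,1),(2,1),(0,2),
    (2,2),(0,1),(2,1),(0,2)],
   [(122,2),(0,2),(2,1),(0,1),(2,1),(0,1),(2,2),(0,2),(2,1),(0,1),(2,2),(0,2),(2,2),(0,2),(2,1),
    (0,1),(2,1),(0,1),(2,2),(0,2),(2,2),(0,2),(2,1),(0,1),(2,2),(0,2),(2,1),(0,1),(2,1),(0,1),
    (2,2),(0,2),(2,1),(0,1),(2,2),(0,2),(2,2),(0,2),(2,1),(0,1),(2,2),(0,2),(2,1),(0,1),(2,1),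
    (0,1),(2,2),(0,2),(2,1),(0,1),(2,2),(0,2),(2,2),(0,2),(2,1),(0,1),(2,2),(0,2),(2,1),(0,1),
    (2,1),(0,1),(2,2),(0,2)],
   [(122,2),(0,1),(2,1),(0,2),(2,1),(0,2),(2,2),(0,1),(2,1),(0,2),(2,2),(0,1),(2,2),(0,1),(2,1),
    (0,2),(2,1),(0,2),(2,2),(0,1),(2,2),(0,1),(2,1),(0,2),(2,2),(0,1),(2,1),(0,2),(2,1),(0,2),
    (2,2),(0,1),(2,1),(0,2),(2,2),(0,1),(2,2),(0,1),(2,1),(0,2),(2,2),(0,1),(2,1),(0,2),(2,1),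
    (0,2),(2,2),(0,1),(2,1),(0,2),(2,2),(0,1),(2,2),(0,1),(2,1),(0,2),(2,2),(0,1),(2,1),(0,2),
    (2,1),(0,2),(2,2),(0,1)],
   [(120,1),(0,1),(2,1),(0,1),(2,2),(0,2),(2,2),(0,2),(2,2),(0,2),(2,2),(0,2),(2,1),(0,1),(2,1),
    (0,1),(2,2),(0,2),(2,2),(0,2),(2,1),(0,1),(2,1),(0,1),(2,1),(0,1),(2,1),(0,1),(2,2),(0,2),
    (2,2),(0,2),(2,2),(0,2),(2,2),(0,2),(2,1),(0,1),(2,1),(0,1),(2,1),(0,1),(2,1),(0,1),(2,2),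
    (0,2),(2,2),(0,2),(2,2),(0,2),(2,2),(0,2),(2,1),(0,1),(2,1),(0,1),(2,1),(0,1),(2,1),(0,1),
    (2,2),(0,2),(2,2),(0,2)],
   [(120,1),(0,2),(2,1),(0,2),(2,2),(0,1),(2,2),(0,1),(2,2),(0,1),(2,2),(0,1),(2,1),(0,2),(2,1),
    (0,2),(2,2),(0,1),(2,2),(0,1),(2,1),(0,2),(2,1),(0,2),(2,1),(0,2),(2,1),(0,2),(2,2),(0,1),
    (2,2),(0,1),(2,2),(0,1),(2,2),(0,1),(2,1),(0,2),(2,1),(0,2),(2,1),(0,2),(2,1),(0,2),(2,2),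
    (0,1),(2,2),(0,1),(2,2),(0,1),(2,2),(0,1),(2,1),(0,2),(2,1),(0,2),(2,1),(0,2),(2,1),(0,2),
    (2,2),(0,1),(2,2),(0,1)],
   [(122,2),(0,2),(2,2),(0,2),(2,1),(0,1),(2,1),(0,1),(2,1),(0,1),(2,1),(0,1),(2,2),(0,2),(2,2),
    (0,2),(2,1),(0,1),(2,1),(0,1),(2,2),(0,2),(2,2),(0,2),(2,2),(0,2),(2,2),(0,2),(2,1),(0,1),
    (2,1),(0,1),(2,1),(0,1),(2,1),(0,1),(2,2),(0,2),(2,2),(0,2),(2,2),(0,2),(2,2),(0,2),(2,1),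
    (0,1),(2,1),(0,1),(2,1),(0,1),(2,1),(0,1),(2,2),(0,2),(2,2),(0,2),(2,2),(0,2),(2,2),(0,2),
    (2,1),(0,1),(2,1),(0,1)],
   [(122,2),(0,1),(2,2),(0,1),(2,1),(0,2),(2,1),(0,2),(2,1),(0,2),(2,1),(0,2),(2,2),(0,1),(2,2),
    (0,1),(2,1),(0,2),(2,1),(0,2),(2,2),(0,1),(2,2),(0,1),(2,2),(0,1),(2,2),(0,1),(2,1),(0,2),
    (2,1),(0,2),(2,1),(0,2),(2,1),(0,2),(2,2),(0,1),(2,2),(0,1),(2,2),(0,1),(2,2),(0,1),(2,1),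
    (0,2),(2,1),(0,2),(2,1),(0,2),(2,1),(0,2),(2,2),(0,1),(2,2),(0,1),(2,2),(0,1),(2,2),(0,1),
    (2,1),(0,2),(2,1),(0,2)],
   [(120,2),(0,2),(2,1),(0,1),(2,1),(0,1),(2,2),(0,2),(2,1),(0,1),(2,2),(0,2),(2,2),(0,2),(2,1),
    (0,1),(2,1),(0,1),(2,2),(0,2),(2,2),(0,2),(2,1),(0,1),(2,2),(0,2),(2,1),(0,1),(2,1),(0,1),
    (2,2),(0,2),(2,1),(0,1),(2,2),(0,2),(2,2),(0,2),(2,1),(0,1),(2,2),(0,2),(2,1),(0,1),(2,1),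
    (0,1),(2,2),(0,2),(2,1),(0,1),(2,2),(0,2),(2,2),(0,2),(2,1),(0,1),(2,2),(0,2),(2,1),(0,1),
    (2,1),(0,1),(2,2),(0,2)],
   [(120,2),(0,1),(2,1),(0,2),(2,1),(0,2),(2,2),(0,1),(2,1),(0,2),(2,2),(0,1),(2,2),(0,1),(2,1),
    (0,2),(2,1),(0,2),(2,2),(0,1),(2,2),(0,1),(2,1),(0,2),(2,2),(0,1),(2,1),(0,2),(2,1),(0,2),
    (2,2),(0,1),(2,1),(0,2),(2,2),(0,1),(2,2),(0,1),(2,1),(0,2),(2,2),(0,1),(2,1),(0,2),(2,1),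
    (0,2),(2,2),(0,1),(2,1),(0,2),(2,2),(0,1),(2,2),(0,1),(2,1),(0,2),(2,2),(0,1),(2,1),(0,2),
    (2,1),(0,2),(2,2),(0,1)],
   [(122,2),(0,2),(2,1),(0,1),(2,1),(0,1),(2,2),(0,2),(2,2),(0,2),(2,1),(0,1),(2,1),(0,1),(2,2),
    (0,2),(2,1),(0,1),(2,2),(0,2),(2,2),(0,2),(2,1),(0,1),(2,1),(0,1),(2,2),(0,2),(2,2),(0,2),
    (2,1),(0,1),(2,1),(0,1),(2,2),(0,2),(2,2),(0,2),(2,1),(0,1),(2,1),(0,1),(2,2),(0,2),(2,2),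
    (0,2),(2,1),(0,1),(2,1),(0,1),(2,2),(0,2),(2,2),(0,2),(2,1),(0,1),(2,1),(0,1),(2,2),(0,2),
    (2,2),(0,2),(2,1),(0,1)],
   [(122,2),(0,1),(2,1),(0,2),(2,1),(0,2),(2,2),(0,1),(2,2),(0,1),(2,1),(0,2),(2,1),(0,2),(2,2),
    (0,1),(2,1),(0,2),(2,2),(0,1),(2,2),(0,1),(2,1),(0,2),(2,1),(0,2),(2,2),(0,1),(2,2),(0,1),
    (2,1),(0,2),(2,1),(0,2),(2,2),(0,1),(2,2),(0,1),(2,1),(0,2),(2,1),(0,2),(2,2),(0,1),(2,2),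
    (0,1),(2,1),(0,2),(2,1),(0,2),(2,2),(0,1),(2,2),(0,1),(2,1),(0,2),(2,1),(0,2),(2,2),(0,1),
    (2,2),(0,1),(2,1),(0,2)],
   [(120,1),(0,1),(2,1),(0,1),(2,2),(0,2),(2,2),(0,2),(2,1),(0,1),(2,1),(0,1),(2,2),(0,2),(2,2),
    (0,2),(2,2),(0,2),(2,2),(0,2),(2,1),(0,1),(2,1),(0,1),(2,2),(0,2),(2,2),(0,2),(2,1),(0,1),
    (2,1),(0,1),(2,2),(0,2),(2,2),(0,2),(2,1),(0,1),(2,1),(0,1),(2,2),(0,2),(2,2),(0,2),(2,1),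
    (0,1),(2,1),(0,1),(2,2),(0,2),(2,2),(0,2),(2,1),(0,1),(2,1),(0,1),(2,2),(0,2),(2,2),(0,2),
    (2,1),(0,1),(2,1),(0,1)],
   [(120,1),(0,2),(2,1),(0,2),(2,2),(0,1),(2,2),(0,1),(2,1),(0,2),(2,1),(0,2),(2,2),(0,1),(2,2),
    (0,1),(2,2),(0,1),(2,2),(0,1),(2,1),(0,2),(2,1),(0,2),(2,2),(0,1),(2,2),(0,1),(2,1),(0,2),
    (2,1),(0,2),(2,2),(0,1),(2,2),(0,1),(2,1),(0,2),(2,1),(0,2),(2,2),(0,1),(2,2),(0,1),(2,1),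
    (0,2),(2,1),(0,2),(2,2),(0,1),(2,2),(0,1),(2,1),(0,2),(2,1),(0,2),(2,2),(0,1),(2,2),(0,1),
    (2,1),(0,2),(2,1),(0,2)],
   [(122,2),(0,2),(2,2),(0,2),(2,1),(0,1),(2,1),(0,1),(2,2),(0,2),(2,2),(0,2),(2,1),(0,1),(2,1),
    (0,1),(2,1),(0,1),(2,1),(0,1),(2,2),(0,2),(2,2),(0,2),(2,1),(0,1),(2,1),(0,1),(2,2),(0,2),
    (2,2),(0,2),(2,1),(0,1),(2,1),(0,1),(2,2),(0,2),(2,2),(0,2),(2,1),(0,1),(2,1),(0,1),(2,2),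
    (0,2),(2,2),(0,2),(2,1),(0,1),(2,1),(0,1),(2,2),(0,2),(2,2),(0,2),(2,1),(0,1),(2,1),(0,1),
    (2,2),(0,2),(2,2),(0,2)],
   [(122,2),(0,1),(2,2),(0,1),(2,1),(0,2),(2,1),(0,2),(2,2),(0,1),(2,2),(0,1),(2,1),(0,2),(2,1),
    (0,2),(2,1),(0,2),(2,1),(0,2),(2,2),(0,1),(2,2),(0,1),(2,1),(0,2),(2,1),(0,2),(2,2),(0,1),
    (2,2),(0,1),(2,1),(0,2),(2,1),(0,2),(2,2),(0,1),(2,2),(0,1),(2,1),(0,2),(2,1),(0,2),(2,2),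
    (0,1),(2,2),(0,1),(2,1),(0,2),(2,1),(0,2),(2,2),(0,1),(2,2),(0,1),(2,1),(0,2),(2,1),(0,2),
    (2,2),(0,1),(2,2),(0,1)],
   [(120,2),(0,2),(2,1),(0,1),(2,1),(0,1),(2,2),(0,2),(2,2),(0,2),(2,1),(0,1),(2,1),(0,1),(2,2),
    (0,2),(2,1),(0,1),(2,2),(0,2),(2,2),(0,2),(2,1),(0,1),(2,1),(0,1),(2,2),(0,2),(2,2),(0,2),
    (2,1),(0,1),(2,1),(0,1),(2,2),(0,2),(2,2),(0,2),(2,1),(0,1),(2,1),(0,1),(2,2),(0,2),(2,2),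
    (0,2),(2,1),(0,1),(2,1),(0,1),(2,2),(0,2),(2,2),(0,2),(2,1),(0,1),(2,1),(0,1),(2,2),(0,2),
    (2,2),(0,2),(2,1),(0,1)],
   [(120,2),(0,1),(2,1),(0,2),(2,1),(0,2),(2,2),(0,1),(2,2),(0,1),(2,1),(0,2),(2,1),(0,2),(2,2),
    (0,1),(2,1),(0,2),(2,2),(0,1),(2,2),(0,1),(2,1),(0,2),(2,1),(0,2),(2,2),(0,1),(2,2),(0,1),
    (2,1),(0,2),(2,1),(0,2),(2,2),(0,1),(2,2),(0,1),(2,1),(0,2),(2,1),(0,2),(2,2),(0,1),(2,2),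
    (0,1),(2,1),(0,2),(2,1),(0,2),(2,2),(0,1),(2,2),(0,1),(2,1),(0,2),(2,1),(0,2),(2,2),(0,1),
    (2,2),(0,1),(2,1),(0,2)],
   [(122,1),(0,1),(2,2),(0,2),(2,1),(0,1),(2,2),(0,2),(2,2),(0,2),(2,1),(0,1),(2,2),(0,2),(2,1),
    (0,1),(2,1),(0,1),(2,2),(0,2),(2,1),(0,1),(2,2),(0,2),(2,2),(0,2),(2,1),(0,1),(2,2),(0,2),
    (2,1),(0,1),(2,1),(0,1),(2,2),(0,2),(2,1),(0,1),(2,2),(0,2),(2,2),(0,2),(2,1),(0,1),(2,2),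
    (0,2),(2,1),(0,1),(2,2),(0,2),(2,1),(0,1),(2,2),(0,2),(2,1),(0,1),(2,1),(0,1),(2,2),(0,2),
    (2,1),(0,1),(2,2),(0,2)],
   [(122,1),(0,2),(2,2),(0,1),(2,1),(0,2),(2,2),(0,1),(2,2),(0,1),(2,1),(0,2),(2,2),(0,1),(2,1),
    (0,2),(2,1),(0,2),(2,2),(0,1),(2,1),(0,2),(2,2),(0,1),(2,2),(0,1),(2,1),(0,2),(2,2),(0,1),
    (2,1),(0,2),(2,1),(0,2),(2,2),(0,1),(2,1),(0,2),(2,2),(0,1),(2,2),(0,1),(2,1),(0,2),(2,2),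
    (0,1),(2,1),(0,2),(2,2),(0,1),(2,1),(0,2),(2,2),(0,1),(2,1),(0,2),(2,1),(0,2),(2,2),(0,1),
    (2,1),(0,2),(2,2),(0,1)]]

/-- Rows of a matrix. -/
def matUi6 : List (List (ℕ × ℕ)) :=
  [[(120,2),(0,2),(2,2),(0,2),(2,2),(0,2),(2,2),(0,2),(2,1),(0,1),(2,1),(0,1),(2,1),(0,1),(2,1),
    (0,1),(2,2),(0,2),(2,2),(0,2),(2,2),(0,2),(2,2),(0,2),(2,1),(0,1),(2,1),(0,1),(2,1),(0,1),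
    (2,1),(0,1),(2,2),(0,2),(2,2),(0,2),(2,2),(0,2),(2,2),(0,2),(2,1),(0,1),(2,1),(0,1),(2,1),
    (0,1),(2,1),(0,1),(2,1),(0,1),(2,1),(0,1),(2,1),(0,1),(2,1),(0,1),(2,2),(0,2),(2,2),(0,2),
    (2,2),(0,2),(2,2),(0,2)],
   [(120,2),(0,1),(2,2),(0,1),(2,2),(0,1),(2,2),(0,1),(2,1),(0,2),(2,1),(0,2),(2,1),(0,2),(2,1),
    (0,2),(2,2),(0,1),(2,2),(0,1),(2,2),(0,1),(2,2),(0,1),(2,1),(0,2),(2,1),(0,2),(2,1),(0,2),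
    (2,1),(0,2),(2,2),(0,1),(2,2),(0,1),(2,2),(0,1),(2,2),(0,1),(2,1),(0,2),(2,1),(0,2),(2,1),
    (0,2),(2,1),(0,2),(2,1),(0,2),(2,1),(0,2),(2,1),(0,2),(2,1),(0,2),(2,2),(0,1),(2,2),(0,1),
    (2,2),(0,1),(2,2),(0,1)],
   [(122,1),(0,1),(2,1),(0,1),(2,1),(0,1),(2,1),(0,1),(2,2),(0,2),(2,2),(0,2),(2,2),(0,2),(2,2),
    (0,2),(2,1),(0,1),(2,1),(0,1),(2,1),(0,1),(2,1),(0,1),(2,2),(0,2),(2,2),(0,2),(2,2),(0,2),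
    (2,2),(0,2),(2,1),(0,1),(2,1),(0,1),(2,1),(0,1),(2,1),(0,1),(2,2),(0,2),(2,2),(0,2),(2,2),
    (0,2),(2,2),(0,2),(2,2),(0,2),(2,2),(0,2),(2,2),(0,2),(2,2),(0,2),(2,1),(0,1),(2,1),(0,1),
    (2,1),(0,1),(2,1),(0,1)],
   [(122,1),(0,2),(2,1),(0,2),(2,1),(0,2),(2,1),(0,2),(2,2),(0,1),(2,2),(0,1),(2,2),(0,1),(2,2),
    (0,1),(2,1),(0,2),(2,1),(0,2),(2,1),(0,2),(2,1),(0,2),(2,2),(0,1),(2,2),(0,1),(2,2),(0,1),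
    (2,2),(0,1),(2,1),(0,2),(2,1),(0,2),(2,1),(0,2),(2,1),(0,2),(2,2),(0,1),(2,2),(0,1),(2,2),
    (0,1),(2,2),(0,1),(2,2),(0,1),(2,2),(0,1),(2,2),(0,1),(2,2),(0,1),(2,1),(0,2),(2,1),(0,2),
    (2,1),(0,2),(2,1),(0,2)],
   [(120,1),(0,1),(2,2),(0,2),(2,1),(0,1),(2,2),(0,2),(2,2),(0,2),(2,1),(0,1),(2,2),(0,2),(2,1),
    (0,1),(2,1),(0,1),(2,2),(0,2),(2,1),(0,1),(2,2),(0,2),(2,2),(0,2),(2,1),(0,1),(2,2),(0,2),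
    (2,1),(0,1),(2,1),(0,1),(2,2),(0,2),(2,1),(0,1),(2,2),(0,2),(2,2),(0,2),(2,1),(0,1),(2,2),
    (0,2),(2,1),(0,1),(2,2),(0,2),(2,1),(0,1),(2,2),(0,2),(2,1),(0,1),(2,1),(0,1),(2,2),(0,2),
    (2,1),(0,1),(2,2),(0,2)],
   [(120,1),(0,2),(2,2),(0,1),(2,1),(0,2),(2,2),(0,1),(2,2),(0,1),(2,1),(0,2),(2,2),(0,1),(2,1),
    (0,2),(2,1),(0,2),(2,2),(0,1),(2,1),(0,2),(2,2),(0,1),(2,2),(0,1),(2,1),(0,2),(2,2),(0,1),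
    (2,1),(0,2),(2,1),(0,2),(2,2),(0,1),(2,1),(0,2),(2,2),(0,1),(2,2),(0,1),(2,1),(0,2),(2,2),
    (0,1),(2,1),(0,2),(2,2),(0,1),(2,1),(0,2),(2,2),(0,1),(2,1),(0,2),(2,1),(0,2),(2,2),(0,1),
    (2,1),(0,2),(2,2),(0,1)],
   [(122,1),(0,1),(2,2),(0,2),(2,1),(0,1),(2,2),(0,2),(2,1),(0,1),(2,2),(0,2),(2,1),(0,1),(2,2),
    (0,2),(2,1),(0,1),(2,2),(0,2),(2,1),(0,1),(2,2),(0,2),(2,1),(0,1),(2,2),(0,2),(2,1),(0,1),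
    (2,2),(0,2),(2,1),(0,1),(2,2),(0,2),(2,1),(0,1),(2,2),(0,2),(2,1),(0,1),(2,2),(0,2),(2,1),
    (0,1),(2,2),(0,2),(2,2),(0,2),(2,1),(0,1),(2,2),(0,2),(2,1),(0,1),(2,2),(0,2),(2,1),(0,1),
    (2,2),(0,2),(2,1),(0,1)],
   [(122,1),(0,2),(2,2),(0,1),(2,1),(0,2),(2,2),(0,1),(2,1),(0,2),(2,2),(0,1),(2,1),(0,2),(2,2),
    (0,1),(2,1),(0,2),(2,2),(0,1),(2,1),(0,2),(2,2),(0,1),(2,1),(0,2),(2,2),(0,1),(2,1),(0,2),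
    (2,2),(0,1),(2,1),(0,2),(2,2),(0,1),(2,1),(0,2),(2,2),(0,1),(2,1),(0,2),(2,2),(0,1),(2,1),
    (0,2),(2,2),(0,1),(2,2),(0,1),(2,1),(0,2),(2,2),(0,1),(2,1),(0,2),(2,2),(0,1),(2,1),(0,2),
    (2,2),(0,1),(2,1),(0,2)],
   [(120,2),(0,2),(2,2),(0,2),(2,2),(0,2),(2,2),(0,2),(2,2),(0,2),(2,2),(0,2),(2,2),(0,2),(2,2),
    (0,2),(2,2),(0,2),(2,2),(0,2),(2,2),(0,2),(2,2),(0,2),(2,2),(0,2),(2,2),(0,2),(2,2),(0,2),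
    (2,2),(0,2),(2,2),(0,2),(2,2),(0,2),(2,2),(0,2),(2,2),(0,2),(2,2),(0,2),(2,2),(0,2),(2,2),
    (0,2),(2,2),(0,2),(2,1),(0,1),(2,1),(0,1),(2,1),(0,1),(2,1),(0,1),(2,1),(0,1),(2,1),(0,1),
    (2,1),(0,1),(2,1),(0,1)],
   [(120,2),(0,1),(2,2),(0,1),(2,2),(0,1),(2,2),(0,1),(2,2),(0,1),(2,2),(0,1),(2,2),(0,1),(2,2),
    (0,1),(2,2),(0,1),(2,2),(0,1),(2,2),(0,1),(2,2),(0,1),(2,2),(0,1),(2,2),(0,1),(2,2),(0,1),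
    (2,2),(0,1),(2,2),(0,1),(2,2),(0,1),(2,2),(0,1),(2,2),(0,1),(2,2),(0,1),(2,2),(0,1),(2,2),
    (0,1),(2,2),(0,1),(2,1),(0,2),(2,1),(0,2),(2,1),(0,2),(2,1),(0,2),(2,1),(0,2),(2,1),(0,2),
    (2,1),(0,2),(2,1),(0,2)],
   [(122,1),(0,1),(2,1),(0,1),(2,1),(0,1),(2,1),(0,1),(2,1),(0,1),(2,1),(0,1),(2,1),(0,1),(2,1),
    (0,1),(2,1),(0,1),(2,1),(0,1),(2,1),(0,1),(2,1),(0,1),(2,1),(0,1),(2,1),(0,1),(2,1),(0,1),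
    (2,1),(0,1),(2,1),(0,1),(2,1),(0,1),(2,1),(0,1),(2,1),(0,1),(2,1),(0,1),(2,1),(0,1),(2,1),
    (0,1),(2,1),(0,1),(2,2),(0,2),(2,2),(0,2),(2,2),(0,2),(2,2),(0,2),(2,2),(0,2),(2,2),(0,2),
    (2,2),(0,2),(2,2),(0,2)],
   [(122,1),(0,2),(2,1),(0,2),(2,1),(0,2),(2,1),(0,2),(2,1),(0,2),(2,1),(0,2),(2,1),(0,2),(2,1),
    (0,2),(2,1),(0,2),(2,1),(0,2),(2,1),(0,2),(2,1),(0,2),(2,1),(0,2),(2,1),(0,2),(2,1),(0,2),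
    (2,1),(0,2),(2,1),(0,2),(2,1),(0,2),(2,1),(0,2),(2,1),(0,2),(2,1),(0,2),(2,1),(0,2),(2,1),
    (0,2),(2,1),(0,2),(2,2),(0,1),(2,2),(0,1),(2,2),(0,1),(2,2),(0,1),(2,2),(0,1),(2,2),(0,1),
    (2,2),(0,1),(2,2),(0,1)],
   [(120,1),(0,1),(2,2),(0,2),(2,1),(0,1),(2,2),(0,2),(2,1),(0,1),(2,2),(0,2),(2,1),(0,1),(2,2),
    (0,2),(2,1),(0,1),(2,2),(0,2),(2,1),(0,1),(2,2),(0,2),(2,1),(0,1),(2,2),(0,2),(2,1),(0,1),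
    (2,2),(0,2),(2,1),(0,1),(2,2),(0,2),(2,1),(0,1),(2,2),(0,2),(2,1),(0,1),(2,2),(0,2),(2,1),
    (0,1),(2,2),(0,2),(2,2),(0,2),(2,1),(0,1),(2,2),(0,2),(2,1),(0,1),(2,2),(0,2),(2,1),(0,1),
    (2,2),(0,2),(2,1),(0,1)],
   [(120,1),(0,2),(2,2),(0,1),(2,1),(0,2),(2,2),(0,1),(2,1),(0,2),(2,2),(0,1),(2,1),(0,2),(2,2),
    (0,1),(2,1),(0,2),(2,2),(0,1),(2,1),(0,2),(2,2),(0,1),(2,1),(0,2),(2,2),(0,1),(2,1),(0,2),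
    (2,2),(0,1),(2,1),(0,2),(2,2),(0,1),(2,1),(0,2),(2,2),(0,1),(2,1),(0,2),(2,2),(0,1),(2,1),
    (0,2),(2,2),(0,1),(2,2),(0,1),(2,1),(0,2),(2,2),(0,1),(2,1),(0,2),(2,2),(0,1),(2,1),(0,2),
    (2,2),(0,1),(2,1),(0,2)],
   [(122,2),(0,2),(2,1),(0,1),(2,1),(0,1),(2,2),(0,2),(2,1),(0,1),(2,2),(0,2),(2,2),(0,2),(2,1),
    (0,1),(2,2),(0,2),(2,1),(0,1),(2,1),(0,1),(2,2),(0,2),(2,1),(0,1),(2,2),(0,2),(2,2),(0,2),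
    (2,1),(0,1),(2,2),(0,2),(2,1),(0,1),(2,1),(0,1),(2,2),(0,2),(2,1),(0,1),(2,2),(0,2),(2,2),
    (0,2),(2,1),(0,1),(2,1),(0,1),(2,2),(0,2),(2,2),(0,2),(2,1),(0,1),(2,2),(0,2),(2,1),(0,1),
    (2,1),(0,1),(2,2),(0,2)],
   [(122,2),(0,1),(2,1),(0,2),(2,1),(0,2),(2,2),(0,1),(2,1),(0,2),(2,2),(0,1),(2,2),(0,1),(2,1),
    (0,2),(2,2),(0,1),(2,1),(0,2),(2,1),(0,2),(2,2),(0,1),(2,1),(0,2),(2,2),(0,1),(2,2),(0,1),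
    (2,1),(0,2),(2,2),(0,1),(2,1),(0,2),(2,1),(0,2),(2,2),(0,1),(2,1),(0,2),(2,2),(0,1),(2,2),
    (0,1),(2,1),(0,2),(2,1),(0,2),(2,2),(0,1),(2,2),(0,1),(2,1),(0,2),(2,2),(0,1),(2,1),(0,2),
    (2,1),(0,2),(2,2),(0,1)],
   [(120,1),(0,1),(2,1),(0,1),(2,2),(0,2),(2,2),(0,2),(2,2),(0,2),(2,2),(0,2),(2,1),(0,1),(2,1),
    (0,1),(2,1),(0,1),(2,1),(0,1),(2,2),(0,2),(2,2),(0,2),(2,2),(0,2),(2,2),(0,2),(2,1),(0,1),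
    (2,1),(0,1),(2,1),(0,1),(2,1),(0,1),(2,2),(0,2),(2,2),(0,2),(2,2),(0,2),(2,2),(0,2),(2,1),
    (0,1),(2,1),(0,1),(2,2),(0,2),(2,2),(0,2),(2,1),(0,1),(2,1),(0,1),(2,1),(0,1),(2,1),(0,1),
    (2,2),(0,2),(2,2),(0,2)],
   [(120,1),(0,2),(2,1),(0,2),(2,2),(0,1),(2,2),(0,1),(2,2),(0,1),(2,2),(0,1),(2,1),(0,2),(2,1),
    (0,2),(2,1),(0,2),(2,1),(0,2),(2,2),(0,1),(2,2),(0,1),(2,2),(0,1),(2,2),(0,1),(2,1),(0,2),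
    (2,1),(0,2),(2,1),(0,2),(2,1),(0,2),(2,2),(0,1),(2,2),(0,1),(2,2),(0,1),(2,2),(0,1),(2,1),
    (0,2),(2,1),(0,2),(2,2),(0,1),(2,2),(0,1),(2,1),(0,2),(2,1),(0,2),(2,1),(0,2),(2,1),(0,2),
    (2,2),(0,1),(2,2),(0,1)],
   [(122,2),(0,2),(2,2),(0,2),(2,1),(0,1),(2,1),(0,1),(2,1),(0,1),(2,1),(0,1),(2,2),(0,2),(2,2),
    (0,2),(2,2),(0,2),(2,2),(0,2),(2,1),(0,1),(2,1),(0,1),(2,1),(0,1),(2,1),(0,1),(2,2),(0,2),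
    (2,2),(0,2),(2,2),(0,2),(2,2),(0,2),(2,1),(0,1),(2,1),(0,1),(2,1),(0,1),(2,1),(0,1),(2,2),
    (0,2),(2,2),(0,2),(2,1),(0,1),(2,1),(0,1),(2,2),(0,2),(2,2),(0,2),(2,2),(0,2),(2,2),(0,2),
    (2,1),(0,1),(2,1),(0,1)],
   [(122,2),(0,1),(2,2),(0,1),(2,1),(0,2),(2,1),(0,2),(2,1),(0,2),(2,1),(0,2),(2,2),(0,1),(2,2),
    (0,1),(2,2),(0,1),(2,2),(0,1),(2,1),(0,2),(2,1),(0,2),(2,1),(0,2),(2,1),(0,2),(2,2),(0,1),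
    (2,2),(0,1),(2,2),(0,1),(2,2),(0,1),(2,1),(0,2),(2,1),(0,2),(2,1),(0,2),(2,1),(0,2),(2,2),
    (0,1),(2,2),(0,1),(2,1),(0,2),(2,1),(0,2),(2,2),(0,1),(2,2),(0,1),(2,2),(0,1),(2,2),(0,1),
    (2,1),(0,2),(2,1),(0,2)],
   [(120,2),(0,2),(2,1),(0,1),(2,1),(0,1),(2,2),(0,2),(2,1),(0,1),(2,2),(0,2),(2,2),(0,2),(2,1),
    (0,1),(2,2),(0,2),(2,1),(0,1),(2,1),(0,1),(2,2),(0,2),(2,1),(0,1),(2,2),(0,2),(2,2),(0,2),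
    (2,1),(0,1),(2,2),(0,2),(2,1),(0,1),(2,1),(0,1),(2,2),(0,2),(2,1),(0,1),(2,2),(0,2),(2,2),
    (0,2),(2,1),(0,1),(2,1),(0,1),(2,2),(0,2),(2,2),(0,2),(2,1),(0,1),(2,2),(0,2),(2,1),(0,1),
    (2,1),(0,1),(2,2),(0,2)],
   [(120,2),(0,1),(2,1),(0,2),(2,1),(0,2),(2,2),(0,1),(2,1),(0,2),(2,2),(0,1),(2,2),(0,1),(2,1),
    (0,2),(2,2),(0,1),(2,1),(0,2),(2,1),(0,2),(2,2),(0,1),(2,1),(0,2),(2,2),(0,1),(2,2),(0,1),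
    (2,1),(0,2),(2,2),(0,1),(2,1),(0,2),(2,1),(0,2),(2,2),(0,1),(2,1),(0,2),(2,2),(0,1),(2,2),
    (0,1),(2,1),(0,2),(2,1),(0,2),(2,2),(0,1),(2,2),(0,1),(2,1),(0,2),(2,2),(0,1),(2,1),(0,2),
    (2,1),(0,2),(2,2),(0,1)],
   [(122,2),(0,2),(2,1),(0,1),(2,1),(0,1),(2,2),(0,2),(2,2),(0,2),(2,1),(0,1),(2,1),(0,1),(2,2),
    (0,2),(2,2),(0,2),(2,1),(0,1),(2,1),(0,1),(2,2),(0,2),(2,2),(0,2),(2,1),(0,1),(2,1),(0,1),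
    (2,2),(0,2),(2,2),(0,2),(2,1),(0,1),(2,1),(0,1),(2,2),(0,2),(2,2),(0,2),(2,1),(0,1),(2,1),
    (0,1),(2,2),(0,2),(2,1),(0,1),(2,2),(0,2),(2,2),(0,2),(2,1),(0,1),(2,1),(0,1),(2,2),(0,2),
    (2,2),(0,2),(2,1),(0,1)],
   [(122,2),(0,1),(2,1),(0,2),(2,1),(0,2),(2,2),(0,1),(2,2),(0,1),(2,1),(0,2),(2,1),(0,2),(2,2),
    (0,1),(2,2),(0,1),(2,1),(0,2),(2,1),(0,2),(2,2),(0,1),(2,2),(0,1),(2,1),(0,2),(2,1),(0,2),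
    (2,2),(0,1),(2,2),(0,1),(2,1),(0,2),(2,1),(0,2),(2,2),(0,1),(2,2),(0,1),(2,1),(0,2),(2,1),
    (0,2),(2,2),(0,1),(2,1),(0,2),(2,2),(0,1),(2,2),(0,1),(2,1),(0,2),(2,1),(0,2),(2,2),(0,1),
    (2,2),(0,1),(2,1),(0,2)],
   [(120,1),(0,1),(2,1),(0,1),(2,2),(0,2),(2,2),(0,2),(2,1),(0,1),(2,1),(0,1),(2,2),(0,2),(2,2),
    (0,2),(2,1),(0,1),(2,1),(0,1),(2,2),(0,2),(2,2),(0,2),(2,1),(0,1),(2,1),(0,1),(2,2),(0,2),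
    (2,2),(0,2),(2,1),(0,1),(2,1),(0,1),(2,2),(0,2),(2,2),(0,2),(2,1),(0,1),(2,1),(0,1),(2,2),
    (0,2),(2,2),(0,2),(2,2),(0,2),(2,2),(0,2),(2,1),(0,1),(2,1),(0,1),(2,2),(0,2),(2,2),(0,2),
    (2,1),(0,1),(2,1),(0,1)],
   [(120,1),(0,2),(2,1),(0,2),(2,2),(0,1),(2,2),(0,1),(2,1),(0,2),(2,1),(0,2),(2,2),(0,1),(2,2),
    (0,1),(2,1),(0,2),(2,1),(0,2),(2,2),(0,1),(2,2),(0,1),(2,1),(0,2),(2,1),(0,2),(2,2),(0,1),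
    (2,2),(0,1),(2,1),(0,2),(2,1),(0,2),(2,2),(0,1),(2,2),(0,1),(2,1),(0,2),(2,1),(0,2),(2,2),
    (0,1),(2,2),(0,1),(2,2),(0,1),(2,2),(0,1),(2,1),(0,2),(2,1),(0,2),(2,2),(0,1),(2,2),(0,1),
    (2,1),(0,2),(2,1),(0,2)],
   [(122,2),(0,2),(2,2),(0,2),(2,1),(0,1),(2,1),(0,1),(2,2),(0,2),(2,2),(0,2),(2,1),(0,1),(2,1),
    (0,1),(2,2),(0,2),(2,2),(0,2),(2,1),(0,1),(2,1),(0,1),(2,2),(0,2),(2,2),(0,2),(2,1),(0,1),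
    (2,1),(0,1),(2,2),(0,2),(2,2),(0,2),(2,1),(0,1),(2,1),(0,1),(2,2),(0,2),(2,2),(0,2),(2,1),
    (0,1),(2,1),(0,1),(2,1),(0,1),(2,1),(0,1),(2,2),(0,2),(2,2),(0,2),(2,1),(0,1),(2,1),(0,1),
    (2,2),(0,2),(2,2),(0,2)],
   [(122,2),(0,1),(2,2),(0,1),(2,1),(0,2),(2,1),(0,2),(2,2),(0,1),(2,2),(0,1),(2,1),(0,2),(2,1),
    (0,2),(2,2),(0,1),(2,2),(0,1),(2,1),(0,2),(2,1),(0,2),(2,2),(0,1),(2,2),(0,1),(2,1),(0,2),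
    (2,1),(0,2),(2,2),(0,1),(2,2),(0,1),(2,1),(0,2),(2,1),(0,2),(2,2),(0,1),(2,2),(0,1),(2,1),
    (0,2),(2,1),(0,2),(2,1),(0,2),(2,1),(0,2),(2,2),(0,1),(2,2),(0,1),(2,1),(0,2),(2,1),(0,2),
    (2,2),(0,1),(2,2),(0,1)],
   [(120,2),(0,2),(2,1),(0,1),(2,1),(0,1),(2,2),(0,2),(2,2),(0,2),(2,1),(0,1),(2,1),(0,1),(2,2),
    (0,2),(2,2),(0,2),(2,1),(0,1),(2,1),(0,1),(2,2),(0,2),(2,2),(0,2),(2,1),(0,1),(2,1),(0,1),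
    (2,2),(0,2),(2,2),(0,2),(2,1),(0,1),(2,1),(0,1),(2,2),(0,2),(2,2),(0,2),(2,1),(0,1),(2,1),
    (0,1),(2,2),(0,2),(2,1),(0,1),(2,2),(0,2),(2,2),(0,2),(2,1),(0,1),(2,1),(0,1),(2,2),(0,2),
    (2,2),(0,2),(2,1),(0,1)],
   [(120,2),(0,1),(2,1),(0,2),(2,1),(0,2),(2,2),(0,1),(2,2),(0,1),(2,1),(0,2),(2,1),(0,2),(2,2),
    (0,1),(2,2),(0,1),(2,1),(0,2),(2,1),(0,2),(2,2),(0,1),(2,2),(0,1),(2,1),(0,2),(2,1),(0,2),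
    (2,2),(0,1),(2,2),(0,1),(2,1),(0,2),(2,1),(0,2),(2,2),(0,1),(2,2),(0,1),(2,1),(0,2),(2,1),
    (0,2),(2,2),(0,1),(2,1),(0,2),(2,2),(0,1),(2,2),(0,1),(2,1),(0,2),(2,1),(0,2),(2,2),(0,1),
    (2,2),(0,1),(2,1),(0,2)],
   [(122,2),(0,2),(2,1),(0,1),(2,2),(0,2),(2,1),(0,1),(2,1),(0,1),(2,2),(0,2),(2,1),(0,1),(2,2),
    (0,2),(2,2),(0,2),(2,1),(0,1),(2,2),(0,2),(2,1),(0,1),(2,1),(0,1),(2,2),(0,2),(2,1),(0,1),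
    (2,2),(0,2),(2,1),(0,1),(2,2),(0,2),(2,1),(0,1),(2,2),(0,2),(2,2),(0,2),(2,1),(0,1),(2,2),
    (0,2),(2,1),(0,1),(2,2),(0,2),(2,1),(0,1),(2,2),(0,2),(2,1),(0,1),(2,1),(0,1),(2,2),(0,2),
    (2,1),(0,1),(2,2),(0,2)]]

/-- Rows of a matrix. -/
def matUi7 : List (List (ℕ × ℕ)) :=
  [[(122,2),(0,1),(2,1),(0,2),(2,2),(0,1),(2,1),(0,2),(2,1),(0,2),(2,2),(0,1),(2,1),(0,2),(2,2),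
    (0,1),(2,2),(0,1),(2,1),(0,2),(2,2),(0,1),(2,1),(0,2),(2,1),(0,2),(2,2),(0,1),(2,1),(0,2),
    (2,2),(0,1),(2,1),(0,2),(2,2),(0,1),(2,1),(0,2),(2,2),(0,1),(2,2),(0,1),(2,1),(0,2),(2,2),
    (0,1),(2,1),(0,2),(2,2),(0,1),(2,1),(0,2),(2,2),(0,1),(2,1),(0,2),(2,1),(0,2),(2,2),(0,1),
    (2,1),(0,2),(2,2),(0,1)],
   [(120,1),(0,1),(2,1),(0,1),(2,1),(0,1),(2,1),(0,1),(2,2),(0,2),(2,2),(0,2),(2,2),(0,2),(2,2),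
    (0,2),(2,1),(0,1),(2,1),(0,1),(2,1),(0,1),(2,1),(0,1),(2,2),(0,2),(2,2),(0,2),(2,2),(0,2),
    (2,2),(0,2),(2,2),(0,2),(2,2),(0,2),(2,2),(0,2),(2,2),(0,2),(2,1),(0,1),(2,1),(0,1),(2,1),
    (0,1),(2,1),(0,1),(2,1),(0,1),(2,1),(0,1),(2,1),(0,1),(2,1),(0,1),(2,2),(0,2),(2,2),(0,2),
    (2,2),(0,2),(2,2),(0,2)],
   [(120,1),(0,2),(2,1),(0,2),(2,1),(0,2),(2,1),(0,2),(2,2),(0,1),(2,2),(0,1),(2,2),(0,1),(2,2),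
    (0,1),(2,1),(0,2),(2,1),(0,2),(2,1),(0,2),(2,1),(0,2),(2,2),(0,1),(2,2),(0,1),(2,2),(0,1),
    (2,2),(0,1),(2,2),(0,1),(2,2),(0,1),(2,2),(0,1),(2,2),(0,1),(2,1),(0,2),(2,1),(0,2),(2,1),
    (0,2),(2,1),(0,2),(2,1),(0,2),(2,1),(0,2),(2,1),(0,2),(2,1),(0,2),(2,2),(0,1),(2,2),(0,1),
    (2,2),(0,1),(2,2),(0,1)],
   [(122,2),(0,2),(2,2),(0,2),(2,2),(0,2),(2,2),(0,2),(2,1),(0,1),(2,1),(0,1),(2,1),(0,1),(2,1),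
    (0,1),(2,2),(0,2),(2,2),(0,2),(2,2),(0,2),(2,2),(0,2),(2,1),(0,1),(2,1),(0,1),(2,1),(0,1),
    (2,1),(0,1),(2,1),(0,1),(2,1),(0,1),(2,1),(0,1),(2,1),(0,1),(2,2),(0,2),(2,2),(0,2),(2,2),
    (0,2),(2,2),(0,2),(2,2),(0,2),(2,2),(0,2),(2,2),(0,2),(2,2),(0,2),(2,1),(0,1),(2,1),(0,1),
    (2,1),(0,1),(2,1),(0,1)],
   [(122,2),(0,1),(2,2),(0,1),(2,2),(0,1),(2,2),(0,1),(2,1),(0,2),(2,1),(0,2),(2,1),(0,2),(2,1),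
    (0,2),(2,2),(0,1),(2,2),(0,1),(2,2),(0,1),(2,2),(0,1),(2,1),(0,2),(2,1),(0,2),(2,1),(0,2),
    (2,1),(0,2),(2,1),(0,2),(2,1),(0,2),(2,1),(0,2),(2,1),(0,2),(2,2),(0,1),(2,2),(0,1),(2,2),
    (0,1),(2,2),(0,1),(2,2),(0,1),(2,2),(0,1),(2,2),(0,1),(2,2),(0,1),(2,1),(0,2),(2,1),(0,2),
    (2,1),(0,2),(2,1),(0,2)],
   [(120,2),(0,2),(2,1),(0,1),(2,2),(0,2),(2,1),(0,1),(2,1),(0,1),(2,2),(0,2),(2,1),(0,1),(2,2),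
    (0,2),(2,2),(0,2),(2,1),(0,1),(2,2),(0,2),(2,1),(0,1),(2,1),(0,1),(2,2),(0,2),(2,1),(0,1),
    (2,2),(0,2),(2,1),(0,1),(2,2),(0,2),(2,1),(0,1),(2,2),(0,2),(2,2),(0,2),(2,1),(0,1),(2,2),
    (0,2),(2,1),(0,1),(2,2),(0,2),(2,1),(0,1),(2,2),(0,2),(2,1),(0,1),(2,1),(0,1),(2,2),(0,2),
    (2,1),(0,1),(2,2),(0,2)],
   [(120,2),(0,1),(2,1),(0,2),(2,2),(0,1),(2,1),(0,2),(2,1),(0,2),(2,2),(0,1),(2,1),(0,2),(2,2),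
    (0,1),(2,2),(0,1),(2,1),(0,2),(2,2),(0,1),(2,1),(0,2),(2,1),(0,2),(2,2),(0,1),(2,1),(0,2),
    (2,2),(0,1),(2,1),(0,2),(2,2),(0,1),(2,1),(0,2),(2,2),(0,1),(2,2),(0,1),(2,1),(0,2),(2,2),
    (0,1),(2,1),(0,2),(2,2),(0,1),(2,1),(0,2),(2,2),(0,1),(2,1),(0,2),(2,1),(0,2),(2,2),(0,1),
    (2,1),(0,2),(2,2),(0,1)],
   [(122,2),(0,2),(2,1),(0,1),(2,2),(0,2),(2,1),(0,1),(2,2),(0,2),(2,1),(0,1),(2,2),(0,2),(2,1),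
    (0,1),(2,2),(0,2),(2,1),(0,1),(2,2),(0,2),(2,1),(0,1),(2,2),(0,2),(2,1),(0,1),(2,2),(0,2),
    (2,1),(0,1),(2,1),(0,1),(2,2),(0,2),(2,1),(0,1),(2,2),(0,2),(2,1),(0,1),(2,2),(0,2),(2,1),
    (0,1),(2,2),(0,2),(2,2),(0,2),(2,1),(0,1),(2,2),(0,2),(2,1),(0,1),(2,2),(0,2),(2,1),(0,1),
    (2,2),(0,2),(2,1),(0,1)],
   [(122,2),(0,1),(2,1),(0,2),(2,2),(0,1),(2,1),(0,2),(2,2),(0,1),(2,1),(0,2),(2,2),(0,1),(2,1),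
    (0,2),(2,2),(0,1),(2,1),(0,2),(2,2),(0,1),(2,1),(0,2),(2,2),(0,1),(2,1),(0,2),(2,2),(0,1),
    (2,1),(0,2),(2,1),(0,2),(2,2),(0,1),(2,1),(0,2),(2,2),(0,1),(2,1),(0,2),(2,2),(0,1),(2,1),
    (0,2),(2,2),(0,1),(2,2),(0,1),(2,1),(0,2),(2,2),(0,1),(2,1),(0,2),(2,2),(0,1),(2,1),(0,2),
    (2,2),(0,1),(2,1),(0,2)],
   [(120,1),(0,1),(2,1),(0,1),(2,1),(0,1),(2,1),(0,1),(2,1),(0,1),(2,1),(0,1),(2,1),(0,1),(2,1),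
    (0,1),(2,1),(0,1),(2,1),(0,1),(2,1),(0,1),(2,1),(0,1),(2,1),(0,1),(2,1),(0,1),(2,1),(0,1),
    (2,1),(0,1),(2,2),(0,2),(2,2),(0,2),(2,2),(0,2),(2,2),(0,2),(2,2),(0,2),(2,2),(0,2),(2,2),
    (0,2),(2,2),(0,2),(2,1),(0,1),(2,1),(0,1),(2,1),(0,1),(2,1),(0,1),(2,1),(0,1),(2,1),(0,1),
    (2,1),(0,1),(2,1),(0,1)],
   [(120,1),(0,2),(2,1),(0,2),(2,1),(0,2),(2,1),(0,2),(2,1),(0,2),(2,1),(0,2),(2,1),(0,2),(2,1),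
    (0,2),(2,1),(0,2),(2,1),(0,2),(2,1),(0,2),(2,1),(0,2),(2,1),(0,2),(2,1),(0,2),(2,1),(0,2),
    (2,1),(0,2),(2,2),(0,1),(2,2),(0,1),(2,2),(0,1),(2,2),(0,1),(2,2),(0,1),(2,2),(0,1),(2,2),
    (0,1),(2,2),(0,1),(2,1),(0,2),(2,1),(0,2),(2,1),(0,2),(2,1),(0,2),(2,1),(0,2),(2,1),(0,2),
    (2,1),(0,2),(2,1),(0,2)],
   [(122,2),(0,2),(2,2),(0,2),(2,2),(0,2),(2,2),(0,2),(2,2),(0,2),(2,2),(0,2),(2,2),(0,2),(2,2),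
    (0,2),(2,2),(0,2),(2,2),(0,2),(2,2),(0,2),(2,2),(0,2),(2,2),(0,2),(2,2),(0,2),(2,2),(0,2),
    (2,2),(0,2),(2,1),(0,1),(2,1),(0,1),(2,1),(0,1),(2,1),(0,1),(2,1),(0,1),(2,1),(0,1),(2,1),
    (0,1),(2,1),(0,1),(2,2),(0,2),(2,2),(0,2),(2,2),(0,2),(2,2),(0,2),(2,2),(0,2),(2,2),(0,2),
    (2,2),(0,2),(2,2),(0,2)],
   [(122,2),(0,1),(2,2),(0,1),(2,2),(0,1),(2,2),(0,1),(2,2),(0,1),(2,2),(0,1),(2,2),(0,1),(2,2),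
    (0,1),(2,2),(0,1),(2,2),(0,1),(2,2),(0,1),(2,2),(0,1),(2,2),(0,1),(2,2),(0,1),(2,2),(0,1),
    (2,2),(0,1),(2,1),(0,2),(2,1),(0,2),(2,1),(0,2),(2,1),(0,2),(2,1),(0,2),(2,1),(0,2),(2,1),
    (0,2),(2,1),(0,2),(2,2),(0,1),(2,2),(0,1),(2,2),(0,1),(2,2),(0,1),(2,2),(0,1),(2,2),(0,1),
    (2,2),(0,1),(2,2),(0,1)],
   [(120,2),(0,2),(2,1),(0,1),(2,2),(0,2),(2,1),(0,1),(2,2),(0,2),(2,1),(0,1),(2,2),(0,2),(2,1),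
    (0,1),(2,2),(0,2),(2,1),(0,1),(2,2),(0,2),(2,1),(0,1),(2,2),(0,2),(2,1),(0,1),(2,2),(0,2),
    (2,1),(0,1),(2,1),(0,1),(2,2),(0,2),(2,1),(0,1),(2,2),(0,2),(2,1),(0,1),(2,2),(0,2),(2,1),
    (0,1),(2,2),(0,2),(2,2),(0,2),(2,1),(0,1),(2,2),(0,2),(2,1),(0,1),(2,2),(0,2),(2,1),(0,1),
    (2,2),(0,2),(2,1),(0,1)],
   [(120,2),(0,1),(2,1),(0,2),(2,2),(0,1),(2,1),(0,2),(2,2),(0,1),(2,1),(0,2),(2,2),(0,1),(2,1),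
    (0,2),(2,2),(0,1),(2,1),(0,2),(2,2),(0,1),(2,1),(0,2),(2,2),(0,1),(2,1),(0,2),(2,2),(0,1),
    (2,1),(0,2),(2,1),(0,2),(2,2),(0,1),(2,1),(0,2),(2,2),(0,1),(2,1),(0,2),(2,2),(0,1),(2,1),
    (0,2),(2,2),(0,1),(2,2),(0,1),(2,1),(0,2),(2,2),(0,1),(2,1),(0,2),(2,2),(0,1),(2,1),(0,2),
    (2,2),(0,1),(2,1),(0,2)],
   [(122,1),(0,1),(2,2),(0,2),(2,2),(0,2),(2,1),(0,1),(2,2),(0,2),(2,1),(0,1),(2,1),(0,1),(2,2),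
    (0,2),(2,1),(0,1),(2,2),(0,2),(2,2),(0,2),(2,1),(0,1),(2,2),(0,2),(2,1),(0,1),(2,1),(0,1),
    (2,2),(0,2),(2,2),(0,2),(2,1),(0,1),(2,1),(0,1),(2,2),(0,2),(2,1),(0,1),(2,2),(0,2),(2,2),
    (0,2),(2,1),(0,1),(2,1),(0,1),(2,2),(0,2),(2,2),(0,2),(2,1),(0,1),(2,2),(0,2),(2,1),(0,1),
    (2,1),(0,1),(2,2),(0,2)],
   [(122,1),(0,2),(2,2),(0,1),(2,2),(0,1),(2,1),(0,2),(2,2),(0,1),(2,1),(0,2),(2,1),(0,2),(2,2),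
    (0,1),(2,1),(0,2),(2,2),(0,1),(2,2),(0,1),(2,1),(0,2),(2,2),(0,1),(2,1),(0,2),(2,1),(0,2),
    (2,2),(0,1),(2,2),(0,1),(2,1),(0,2),(2,1),(0,2),(2,2),(0,1),(2,1),(0,2),(2,2),(0,1),(2,2),
    (0,1),(2,1),(0,2),(2,1),(0,2),(2,2),(0,1),(2,2),(0,1),(2,1),(0,2),(2,2),(0,1),(2,1),(0,2),
    (2,1),(0,2),(2,2),(0,1)],
   [(120,2),(0,2),(2,2),(0,2),(2,1),(0,1),(2,1),(0,1),(2,1),(0,1),(2,1),(0,1),(2,2),(0,2),(2,2),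
    (0,2),(2,2),(0,2),(2,2),(0,2),(2,1),(0,1),(2,1),(0,1),(2,1),(0,1),(2,1),(0,1),(2,2),(0,2),
    (2,2),(0,2),(2,1),(0,1),(2,1),(0,1),(2,2),(0,2),(2,2),(0,2),(2,2),(0,2),(2,2),(0,2),(2,1),
    (0,1),(2,1),(0,1),(2,2),(0,2),(2,2),(0,2),(2,1),(0,1),(2,1),(0,1),(2,1),(0,1),(2,1),(0,1),
    (2,2),(0,2),(2,2),(0,2)],
   [(120,2),(0,1),(2,2),(0,1),(2,1),(0,2),(2,1),(0,2),(2,1),(0,2),(2,1),(0,2),(2,2),(0,1),(2,2),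
    (0,1),(2,2),(0,1),(2,2),(0,1),(2,1),(0,2),(2,1),(0,2),(2,1),(0,2),(2,1),(0,2),(2,2),(0,1),
    (2,2),(0,1),(2,1),(0,2),(2,1),(0,2),(2,2),(0,1),(2,2),(0,1),(2,2),(0,1),(2,2),(0,1),(2,1),
    (0,2),(2,1),(0,2),(2,2),(0,1),(2,2),(0,1),(2,1),(0,2),(2,1),(0,2),(2,1),(0,2),(2,1),(0,2),
    (2,2),(0,1),(2,2),(0,1)],
   [(122,1),(0,1),(2,1),(0,1),(2,2),(0,2),(2,2),(0,2),(2,2),(0,2),(2,2),(0,2),(2,1),(0,1),(2,1),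
    (0,1),(2,1),(0,1),(2,1),(0,1),(2,2),(0,2),(2,2),(0,2),(2,2),(0,2),(2,2),(0,2),(2,1),(0,1),
    (2,1),(0,1),(2,2),(0,2),(2,2),(0,2),(2,1),(0,1),(2,1),(0,1),(2,1),(0,1),(2,1),(0,1),(2,2),
    (0,2),(2,2),(0,2),(2,1),(0,1),(2,1),(0,1),(2,2),(0,2),(2,2),(0,2),(2,2),(0,2),(2,2),(0,2),
    (2,1),(0,1),(2,1),(0,1)],
   [(122,1),(0,2),(2,1),(0,2),(2,2),(0,1),(2,2),(0,1),(2,2),(0,1),(2,2),(0,1),(2,1),(0,2),(2,1),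
    (0,2),(2,1),(0,2),(2,1),(0,2),(2,2),(0,1),(2,2),(0,1),(2,2),(0,1),(2,2),(0,1),(2,1),(0,2),
    (2,1),(0,2),(2,2),(0,1),(2,2),(0,1),(2,1),(0,2),(2,1),(0,2),(2,1),(0,2),(2,1),(0,2),(2,2),
    (0,1),(2,2),(0,1),(2,1),(0,2),(2,1),(0,2),(2,2),(0,1),(2,2),(0,1),(2,2),(0,1),(2,2),(0,1),
    (2,1),(0,2),(2,1),(0,2)],
   [(120,1),(0,1),(2,2),(0,2),(2,2),(0,2),(2,1),(0,1),(2,2),(0,2),(2,1),(0,1),(2,1),(0,1),(2,2),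
    (0,2),(2,1),(0,1),(2,2),(0,2),(2,2),(0,2),(2,1),(0,1),(2,2),(0,2),(2,1),(0,1),(2,1),(0,1),
    (2,2),(0,2),(2,2),(0,2),(2,1),(0,1),(2,1),(0,1),(2,2),(0,2),(2,1),(0,1),(2,2),(0,2),(2,2),
    (0,2),(2,1),(0,1),(2,1),(0,1),(2,2),(0,2),(2,2),(0,2),(2,1),(0,1),(2,2),(0,2),(2,1),(0,1),
    (2,1),(0,1),(2,2),(0,2)],
   [(120,1),(0,2),(2,2),(0,1),(2,2),(0,1),(2,1),(0,2),(2,2),(0,1),(2,1),(0,2),(2,1),(0,2),(2,2),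
    (0,1),(2,1),(0,2),(2,2),(0,1),(2,2),(0,1),(2,1),(0,2),(2,2),(0,1),(2,1),(0,2),(2,1),(0,2),
    (2,2),(0,1),(2,2),(0,1),(2,1),(0,2),(2,1),(0,2),(2,2),(0,1),(2,1),(0,2),(2,2),(0,1),(2,2),
    (0,1),(2,1),(0,2),(2,1),(0,2),(2,2),(0,1),(2,2),(0,1),(2,1),(0,2),(2,2),(0,1),(2,1),(0,2),
    (2,1),(0,2),(2,2),(0,1)],
   [(122,1),(0,1),(2,2),(0,2),(2,2),(0,2),(2,1),(0,1),(2,1),(0,1),(2,2),(0,2),(2,2),(0,2),(2,1),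
    (0,1),(2,1),(0,1),(2,2),(0,2),(2,2),(0,2),(2,1),(0,1),(2,1),(0,1),(2,2),(0,2),(2,2),(0,2),
    (2,1),(0,1),(2,2),(0,2),(2,1),(0,1),(2,1),(0,1),(2,2),(0,2),(2,2),(0,2),(2,1),(0,1),(2,1),
    (0,1),(2,2),(0,2),(2,1),(0,1),(2,2),(0,2),(2,2),(0,2),(2,1),(0,1),(2,1),(0,1),(2,2),(0,2),
    (2,2),(0,2),(2,1),(0,1)],
   [(122,1),(0,2),(2,2),(0,1),(2,2),(0,1),(2,1),(0,2),(2,1),(0,2),(2,2),(0,1),(2,2),(0,1),(2,1),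
    (0,2),(2,1),(0,2),(2,2),(0,1),(2,2),(0,1),(2,1),(0,2),(2,1),(0,2),(2,2),(0,1),(2,2),(0,1),
    (2,1),(0,2),(2,2),(0,1),(2,1),(0,2),(2,1),(0,2),(2,2),(0,1),(2,2),(0,1),(2,1),(0,2),(2,1),
    (0,2),(2,2),(0,1),(2,1),(0,2),(2,2),(0,1),(2,2),(0,1),(2,1),(0,2),(2,1),(0,2),(2,2),(0,1),
    (2,2),(0,1),(2,1),(0,2)],
   [(120,2),(0,2),(2,2),(0,2),(2,1),(0,1),(2,1),(0,1),(2,2),(0,2),(2,2),(0,2),(2,1),(0,1),(2,1),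
    (0,1),(2,2),(0,2),(2,2),(0,2),(2,1),(0,1),(2,1),(0,1),(2,2),(0,2),(2,2),(0,2),(2,1),(0,1),
    (2,1),(0,1),(2,1),(0,1),(2,1),(0,1),(2,2),(0,2),(2,2),(0,2),(2,1),(0,1),(2,1),(0,1),(2,2),
    (0,2),(2,2),(0,2),(2,2),(0,2),(2,2),(0,2),(2,1),(0,1),(2,1),(0,1),(2,2),(0,2),(2,2),(0,2),
    (2,1),(0,1),(2,1),(0,1)],
   [(120,2),(0,1),(2,2),(0,1),(2,1),(0,2),(2,1),(0,2),(2,2),(0,1),(2,2),(0,1),(2,1),(0,2),(2,1),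
    (0,2),(2,2),(0,1),(2,2),(0,1),(2,1),(0,2),(2,1),(0,2),(2,2),(0,1),(2,2),(0,1),(2,1),(0,2),
    (2,1),(0,2),(2,1),(0,2),(2,1),(0,2),(2,2),(0,1),(2,2),(0,1),(2,1),(0,2),(2,1),(0,2),(2,2),
    (0,1),(2,2),(0,1),(2,2),(0,1),(2,2),(0,1),(2,1),(0,2),(2,1),(0,2),(2,2),(0,1),(2,2),(0,1),
    (2,1),(0,2),(2,1),(0,2)],
   [(122,1),(0,1),(2,1),(0,1),(2,2),(0,2),(2,2),(0,2),(2,1),(0,1),(2,1),(0,1),(2,2),(0,2),(2,2),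
    (0,2),(2,1),(0,1),(2,1),(0,1),(2,2),(0,2),(2,2),(0,2),(2,1),(0,1),(2,1),(0,1),(2,2),(0,2),
    (2,2),(0,2),(2,2),(0,2),(2,2),(0,2),(2,1),(0,1),(2,1),(0,1),(2,2),(0,2),(2,2),(0,2),(2,1),
    (0,1),(2,1),(0,1),(2,1),(0,1),(2,1),(0,1),(2,2),(0,2),(2,2),(0,2),(2,1),(0,1),(2,1),(0,1),
    (2,2),(0,2),(2,2),(0,2)],
   [(122,1),(0,2),(2,1),(0,2),(2,2),(0,1),(2,2),(0,1),(2,1),(0,2),(2,1),(0,2),(2,2),(0,1),(2,2),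
    (0,1),(2,1),(0,2),(2,1),(0,2),(2,2),(0,1),(2,2),(0,1),(2,1),(0,2),(2,1),(0,2),(2,2),(0,1),
    (2,2),(0,1),(2,2),(0,1),(2,2),(0,1),(2,1),(0,2),(2,1),(0,2),(2,2),(0,1),(2,2),(0,1),(2,1),
    (0,2),(2,1),(0,2),(2,1),(0,2),(2,1),(0,2),(2,2),(0,1),(2,2),(0,1),(2,1),(0,2),(2,1),(0,2),
    (2,2),(0,1),(2,2),(0,1)],
   [(120,1),(0,1),(2,2),(0,2),(2,2),(0,2),(2,1),(0,1),(2,1),(0,1),(2,2),(0,2),(2,2),(0,2),(2,1),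
    (0,1),(2,1),(0,1),(2,2),(0,2),(2,2),(0,2),(2,1),(0,1),(2,1),(0,1),(2,2),(0,2),(2,2),(0,2),
    (2,1),(0,1),(2,2),(0,2),(2,1),(0,1),(2,1),(0,1),(2,2),(0,2),(2,2),(0,2),(2,1),(0,1),(2,1),
    (0,1),(2,2),(0,2),(2,1),(0,1),(2,2),(0,2),(2,2),(0,2),(2,1),(0,1),(2,1),(0,1),(2,2),(0,2),
    (2,2),(0,2),(2,1),(0,1)],
   [(120,1),(0,2),(2,2),(0,1),(2,2),(0,1),(2,1),(0,2),(2,1),(0,2),(2,2),(0,1),(2,2),(0,1),(2,1),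
    (0,2),(2,1),(0,2),(2,2),(0,1),(2,2),(0,1),(2,1),(0,2),(2,1),(0,2),(2,2),(0,1),(2,2),(0,1),
    (2,1),(0,2),(2,2),(0,1),(2,1),(0,2),(2,1),(0,2),(2,2),(0,1),(2,2),(0,1),(2,1),(0,2),(2,1),
    (0,2),(2,2),(0,1),(2,1),(0,2),(2,2),(0,1),(2,2),(0,1),(2,1),(0,2),(2,1),(0,2),(2,2),(0,1),
    (2,2),(0,1),(2,1),(0,2)]]

/-- Rows of a matrix. -/
def matUi : List (List (ℕ × ℕ)) :=
  matUi0 ++ matUi1 ++ matUi2 ++ matUi3 ++ matUi4 ++ matUi5 ++ matUi6 ++ matUi7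

/-- The matrices of the sixteen letters. -/
def matGens : List (List (List (ℕ × ℕ))) :=
  [matA, matA, matB, matB, matC, matC, matD, matD,
   matE, matE, matS, matSi, matT, matTi, matU, matUi]

end CfsgLib.ThRep
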