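import Cfsg.Agent.Lib.ThRep.ModThree
import Cfsg.Agent.Lib.ThRep.MatData

/-!
# The relations between the matrices (generated)
-/

set_option autoImplicit false
set_option maxRecDepth 100000

namespace CfsgLib.ThRep

open ModThree

/-- Words to check. -/
def matWords0 : List (List ℕ) :=
  [[2, 4, 6, 8, 2, 4, 6, 8, 2, 4, 6, 8, 2, 4, 6, 8, 2, 4, 6, 8, 2, 4, 6, 8, 2, 4, 6, 8, 2, 4, 6, 8],
   [10, 6, 10, 6],
   [6, 7],
   [11, 5, 10, 4],
   [10, 11]]

theorem matWords0_ok : (matWords0.all fun w =>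
    (w.all fun g => Nat.blt g 16) && beqL (evalP 248 matGens w) (idP 248)) = true := by
  decide +kernel

/-- Words to check. -/
def matWords1 : List (List ℕ) :=
  [[7, 15, 6, 3, 5, 1, 2, 7, 14, 6, 3, 0, 4, 2, 5, 9, 7, 15, 6, 3, 5, 1, 2, 9, 15],
   [15, 9, 14, 8],
   [15, 12, 14, 12],
   [15, 5, 14, 4],
   [13, 7, 12, 6],
   [0, 8, 0, 8],
   [13, 1, 12, 0],
   [11, 10]]

theorem matWords1_ok : (matWords1.all fun w =>
    (w.all fun g => Nat.blt g 16) && beqL (evalP 248 matGens w) (idP 248)) = true := by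
  decide +kernel

/-- Words to check. -/
def matWords2 : List (List ℕ) :=
  [[15, 3, 5, 1, 2, 14, 3, 0, 4, 2, 9],
   [11, 3, 10, 2],
   [3, 2],
   [14, 14, 5, 1],
   [0, 7, 5, 7, 5, 7, 5, 7, 5],
   [6, 6],
   [11, 1, 10, 0],
   [8, 9],
   [13, 12]]

theorem matWords2_ok : (matWords2.all fun w =>
    (w.all fun g => Nat.blt g 16) && beqL (evalP 248 matGens w) (idP 248)) = true := by
  decide +kernel

/-- Words to check. -/
def matWords3 : List (List ℕ) :=
  [[6, 11, 11, 14, 10, 10, 6, 11, 11, 14, 10, 10, 6, 11, 11, 14, 10, 10, 6, 11, 11, 14, 9, 7, 5, 6, 8, 10, 10, 10, 9, 7, 5, 6, 8, 11, 7, 5, 6, 5, 1],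
   [2, 8, 2, 8],
   [2, 3],
   [0, 4, 11, 15, 11, 15, 11, 15],
   [9, 11, 8, 11, 11, 9, 10, 10, 10],
   [14, 15],
   [13, 10, 12, 11, 11],
   [4, 8, 4, 8],
   [8, 8],
   [12, 13]]

theorem matWords3_ok : (matWords3.all fun w =>
    (w.all fun g => Nat.blt g 16) && beqL (evalP 248 matGens w) (idP 248)) = true := by
  decide +kernel

/-- Words to check. -/
def matWords4 : List (List ℕ) :=
  [[0, 2, 0, 2, 0, 2],
   [0, 4, 11, 15, 10, 14, 11, 15, 10, 14, 11, 15, 10, 14, 11, 15, 10, 14],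
   [2, 2],
   [9, 11, 11, 15, 10, 10, 8, 11, 11, 14, 10, 10],
   [6, 8, 6, 8, 6, 8],
   [15, 14],
   [13, 9, 12, 8],
   [12, 12, 12],
   [13, 5, 12, 4],
   [0, 0],
   [0, 1],
   [4, 5]]

theorem matWords4_ok : (matWords4.all fun w =>
    (w.all fun g => Nat.blt g 16) && beqL (evalP 248 matGens w) (idP 248)) = true := by
  decide +kernel

/-- Words to check. -/
def matWords5 : List (List ℕ) :=
  [[2, 4, 2, 4, 2, 4],
   [2, 6, 2, 6],
   [13, 3, 12, 2],
   [6, 8, 15, 6, 14, 6, 8, 15, 6, 14],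
   [15, 1, 14, 0],
   [10, 10, 10, 10, 10, 10, 10],
   [7, 6],
   [9, 8],
   [4, 4],
   [1, 0],
   [5, 4]]

theorem matWords5_ok : (matWords5.all fun w =>
    (w.all fun g => Nat.blt g 16) && beqL (evalP 248 matGens w) (idP 248)) = true := by
  decide +kernel

/-- All checked words. -/
def matWords : List (List ℕ) :=
  matWords0 ++ matWords1 ++ matWords2 ++ matWords3 ++ matWords4 ++ matWords5

theorem matGens_ok : ((List.range 16).all fun g => okGen 248 (matGens.getD g [])) = true := by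
  decide +kernel

theorem mat_id_ok : beqL (idP 248) ((idL 248).map pk) = true := by
  decide +kernel

theorem a_ne : beqL (evalP 248 matGens [0]) (idP 248) = false := by
  decide +kernel

end CfsgLib.ThRep
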