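import Cfsg.Prelude.Def_Spor_Th
import Cfsg.Agent.Lib.ThRep.MatCheck
import Mathlib.LinearAlgebra.Matrix.GeneralLinearGroup.Defs

/-!
# A representation of degree 248 modulo three of the presented Thompson group
-/

set_option autoImplicit false
set_option maxRecDepth 100000
set_option maxHeartbeats 400000
set_option linter.constructorNameAsVariable false

namespace CfsgLib.ThRep

open Cfsg.Spor ModThree

attribute [local irreducible] matGens evalP matWords

/-- The letter of a generator. -/
def genLetter : Th.Gen → ℕ
  | .a => 0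
  | .b => 2
  | .c => 4
  | .d => 6
  | .e => 8
  | .s => 10
  | .t => 12
  | .u => 14

/-- The letter of a syllable. -/
def sylLetter (p : Th.Gen × Bool) : ℕ := if p.2 then genLetter p.1 else genLetter p.1 + 1

/-- The set of relators. -/
abbrev thRels : Set (FreeGroup Th.Gen) := coxRelators Th.edges ∪ {r | r ∈ Th.extra}

theorem th_words :
    ((Th.extra.all fun r => matWords.contains (r.toWord.map sylLetter)) = true) ∧
    (((List.range 16).all fun g => matWords.contains [g, g ^^^ 1]) = true) := by
  decide +kernel

/-- The matrix of a letter. -/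
noncomputable def lm (g : ℕ) : Matrix (Fin 248) (Fin 248) (ZMod 3) := genMat 248 (matGens.getD g [])

theorem mat_hid : idP 248 = (idL 248).map pk := eq_of_beqL mat_id_ok

theorem matWords_spec {w : List ℕ} (hw : w ∈ matWords) : (w.map lm).prod = 1 := by
  have h : ((w.all fun g => Nat.blt g 16) && beqL (evalP 248 matGens w) (idP 248)) = true := by
    unfold matWords at hw
    simp only [List.mem_append] at hw
    rcases hw with ((((hw | hw) | hw) | hw) | hw) | hw
    · exact List.all_eq_true.1 matWords0_ok w hw
    · exact List.all_eq_true.1 matWords1_ok w hw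
    · exact List.all_eq_true.1 matWords2_ok w hw
    · exact List.all_eq_true.1 matWords3_ok w hw
    · exact List.all_eq_true.1 matWords4_ok w hw
    · exact List.all_eq_true.1 matWords5_ok w hw
  simp only [Bool.and_eq_true, List.all_eq_true, Nat.blt_eq] at h
  exact prod_eq_one mat_hid
    (fun g hg => List.all_eq_true.1 matGens_ok g (List.mem_range.2 (h.1 g hg))) h.2

attribute [local irreducible] lm

theorem pair_two {g : ℕ} (hg : g < 16) : lm g * lm (g ^^^ 1) = 1 := by
  have h := matWords_spec (List.contains_iff_mem.1 (List.all_eq_true.1 th_words.2 g (List.mem_range.2 hg)))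
  rwa [List.map_cons, List.map_cons, List.map_nil, List.prod_cons, List.prod_cons, List.prod_nil,
    mul_one] at h

theorem lm_inv : ∀ x : Th.Gen,
    lm (genLetter x) * lm (genLetter x + 1) = 1 ∧ lm (genLetter x + 1) * lm (genLetter x) = 1 := by
  intro x
  cases x <;> exact ⟨pair_two (by decide), pair_two (by decide)⟩

/-- The unit of a generator. -/
noncomputable def lu (x : Th.Gen) : GL (Fin 248) (ZMod 3) :=
  ⟨lm (genLetter x), lm (genLetter x + 1), (lm_inv x).1, (lm_inv x).2⟩

theorem lift_val (L : List (Th.Gen × Bool)) :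
    ((FreeGroup.lift lu (FreeGroup.mk L) : GL (Fin 248) (ZMod 3)) :
        Matrix (Fin 248) (Fin 248) (ZMod 3)) = ((L.map sylLetter).map lm).prod := by
  induction L with
  | nil =>
    rw [← FreeGroup.one_eq_mk, map_one, Units.val_one, List.map_nil, List.map_nil, List.prod_nil]
  | cons p L ih =>
    obtain ⟨x, b⟩ := p
    rw [show FreeGroup.mk ((x, b) :: L) = FreeGroup.mk [(x, b)] * FreeGroup.mk L from rfl, map_mul,
      Units.val_mul, ih, List.map_cons, List.map_cons, List.prod_cons]
    refine congrArg (fun m => m * _) ?_
    cases b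
    · rw [show FreeGroup.mk [(x, false)] = (FreeGroup.of x)⁻¹ from rfl, map_inv,
        FreeGroup.lift_apply_of]
      simp only [lu, sylLetter, Bool.false_eq_true, if_false, Units.inv_mk]
    · rw [show FreeGroup.mk [(x, true)] = FreeGroup.of x from rfl, FreeGroup.lift_apply_of]
      simp only [lu, sylLetter, if_true]

theorem rels_lift : ∀ r ∈ thRels, FreeGroup.lift lu r = 1 := by
  intro r hr
  have hr' : r ∈ Th.extra := by
    rcases hr with ⟨x, hx, -⟩ | hr
    · exact absurd hx (by simp [coxNodes, Th.edges])
    · exact hr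
  refine Units.ext ?_
  rw [← FreeGroup.mk_toWord (x := r), lift_val, Units.val_one]
  exact matWords_spec (List.contains_iff_mem.1 (List.all_eq_true.1 th_words.1 r hr'))

/-- The representation. -/
noncomputable def rho : Cfsg.Spor.Th →* GL (Fin 248) (ZMod 3) := PresentedGroup.toGroup rels_lift

theorem rho_of (x : Th.Gen) : rho (PresentedGroup.of x) = lu x := PresentedGroup.toGroup.of _

/-- The matrix of a is not the identity. -/
theorem rho_a_ne_one : rho (PresentedGroup.of Th.Gen.a : Cfsg.Spor.Th) ≠ 1 := by
  intro h
  have h' := congrArg Units.val h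
  rw [rho_of, Units.val_one] at h'
  change lm 0 = 1 at h'
  have hok : ∀ g ∈ ([0] : List ℕ), okGen 248 (matGens.getD g []) = true := fun g hg =>
    List.all_eq_true.1 matGens_ok g (List.mem_range.2 (by simp at hg; omega))
  obtain ⟨e1, e2, e3, e4⟩ := eval_spec matGens mat_hid [0] hok
  have e5 : toMat 248 (evalL 248 matGens [0]) = toMat 248 (idL 248) := by
    rw [e4, toMat_idL, ← h']
    unfold lm
    simp
  have key : evalL 248 matGens [0] = idL 248 := by
    refine List.ext_getElem (by rw [e3]; simp [idL]) fun i h1 h2 => ?_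
    obtain ⟨l1, b1⟩ := e2 _ (List.getElem_mem h1)
    obtain ⟨l2, b2⟩ := idL_good (n := 248) _ (List.getElem_mem h2)
    refine List.ext_getElem (l1.trans l2.symm) fun j j1 j2 => ?_
    have hi : i < 248 := by rw [← e3]; exact h1
    have hj : j < 248 := by rw [← l1]; exact j1
    have e := congrFun (congrFun e5 ⟨i, hi⟩) ⟨j, hj⟩
    simp only [toMat, Matrix.of_apply] at e
    rw [List.getD_eq_getElem _ [] h1, List.getD_eq_getElem _ [] h2, List.getD_eq_getElem _ 0 j1,
      List.getD_eq_getElem _ 0 j2] at e
    have a1 := b1 _ (List.getElem_mem j1)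
    have a2 := b2 _ (List.getElem_mem j2)
    have := congrArg ZMod.val e
    rwa [ZMod.val_natCast, ZMod.val_natCast, Nat.mod_eq_of_lt a1, Nat.mod_eq_of_lt a2] at this
  have := a_ne
  rw [e1, key, ← mat_hid] at this
  have hb : ∀ l : List ℕ, beqL l l = true := by
    intro l
    induction l with
    | nil => rfl
    | cons a l ih => simp [beqL, ih]
  rw [hb] at this
  exact absurd this (by decide)

/-- The generator a is not trivial. -/
theorem a_ne_one : (PresentedGroup.of Th.Gen.a : Cfsg.Spor.Th) ≠ 1 := fun h =>
  rho_a_ne_one (by rw [h, map_one])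

end CfsgLib.ThRep
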